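import Cfsg.Agent.H29.Asch.ShapeImage

/-!
The data of the local kill from the climb of P4 for lines of shape two or three.
-/

set_option autoImplicit false
set_option linter.style.haveILetI false

namespace Cfsg.Agent.H29.Asch

open Subgroup MulAction
open Cfsg.Agent.H14.Asch
open Cfsg.Agent.H73.Asch (Line2 RankOnePairs)
open Cfsg.Agent.H51.Asch (coreStab HasTranslation MaxTwo)
open scoped commutatorElement Pointwise

universe u v

variable {G : Type u} [Group G] [Finite G] {Ω : Type v} [MulAction G Ω] [Finite Ω] {D : Set G}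

/-- Outside `⁅R, A⁆` everything is in the coset of `u`. -/
theorem mem_or_mul_mem {R Q E A : Subgroup G} {u : G} (hd : ShapeData R Q E A u) {g : G}
    (hg : g ∈ R) : g ∈ ⁅R, A⁆ ∨ g * u ∈ ⁅R, A⁆ := by
  have hAK : A ≤ normalizer ((⁅R, A⁆ : Subgroup G) : Set G) := normalizer_commutator_ge_right R A
  have hRK : R ≤ normalizer ((⁅R, A⁆ : Subgroup G) : Set G) := normalizer_commutator_ge_left R A
  have h1 : g ∈ ⁅R, A⁆ ⊔ (R ⊓ centralizer (A : Set G)) := by
    rw [Coprime.commutator_sup_centralizer hd.normM hd.coprime_all (Or.inr hd.isSolvable)]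
    exact hg
  have h2 : g ∈ ((⁅R, A⁆ ⊔ (R ⊓ centralizer (A : Set G)) : Subgroup G) : Set G) := h1
  rw [coe_mul_of_right_le_normalizer_left _ _ (inf_le_left.trans hRK)] at h2
  obtain ⟨k, hk, c, hc, rfl⟩ := Set.mem_mul.mp h2
  rcases hd.eq_one_or_eq_of_centralized hc.1 (fun a ha => by
    rw [mem_centralizer_iff.mp hc.2 a ha, mul_inv_cancel_right]) with rfl | rfl
  · exact Or.inl (by rwa [mul_one])
  · exact Or.inr (by rwa [mul_assoc, hd.sq_u, mul_one])

/-- The data of the kill from the top of the climb. -/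
theorem chain_of_shape (h : Crit G Ω D) (hP : RankOnePairs (G := G) Ω) {u : G} {x y : Ω}
    {E Q A₀ R A : Subgroup G} (hl : Line2 D u x E Q) (hT : HasTranslation u x E) (hy : u • y = y)
    (hyx : y ≠ x) (hA₀ : A₀ ≤ lineGroup D u ⊓ pairStab G x y)
    (hA₀E : A₀ ≤ normalizer (E : Set G)) (hA₀K : A₀ ≤ normalizer (coreStab x E : Set G))
    (hR : MaxTwo (coreStab x E) R) (hA : A ≤ A₀ ⊔ coreStab x E) (hd : ShapeData R Q E A u)
    (hu : u ∉ ⁅R, A⁆) (hno : ∀ g : G, g * u * g⁻¹ ∉ ⁅R, A⁆)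
    (hfused : ∀ g ∈ H6.Asch.normAt x E, ∃ c ∈ H6.Asch.centAt x E,
      g * u * g⁻¹ = c * u * c⁻¹) :
    H6.Asch.Chain u x y E R ⁅R, A⁆ A where
  fix' := hy
  ne := hyx
  R_two := hR.1
  R_le := hR.2.1
  R_max := fun P h1 h2 h3 => (hR.2.2 P h1 h2 h3).le
  u_mem := hd.u_mem
  A_odd := hd.odd
  A_le := le_inf (le_inf (hA.trans (sup_le
      (fun _ ha => mem_stabilizer_iff.mpr (mem_pairStab.mp (mem_inf.mp (hA₀ ha)).2).1) inf_le_left))
    hd.normE) hd.normM
  A_commute := fun a ha => mul_inv_eq_iff_eq_mul.mp (hd.fix a ha)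
  A_fix := fun g hg hgA => by
    rcases hd.eq_one_or_eq_of_centralized hg
      (fun a ha => by rw [(hgA a ha).eq, mul_inv_cancel_right]) with e | e
    · rw [e]; exact one_mem _
    · rw [e]; exact mem_zpowers u
  K_le := Coprime.commutator_le_left_of_normalizer hd.normM
  K_cases := fun _ hg => mem_or_mul_mem hd hg
  u_notMem := hu
  K_invariant := fun _ ha k hk =>
    (mem_normalizer_iff.mp (normalizer_commutator_ge_right R A ha) k).mp hk
  K_notConj := hno
  fused := hfused
  pair := fun t ht htu hty ⟨n, hn⟩ => mem_zpowers_pair h hP hl hT hy hyx ht htu hty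
    (IsPGroup.of_card (n := n) (by rw [Nat.card_zpowers, hn]))
  A_image := fun a ha => exists_core_image h hl hy hyx hA₀ hA₀E hA₀K (hA ha)
  trans := fun a ha b hb ha1 hb1 => hd.trans a ha ha1 b hb hb1

end Cfsg.Agent.H29.Asch
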