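import Cfsg.Agent.H29.Asch.UUUSigma
import Cfsg.Agent.H14.Asch.Local

/-!
From a line `Line2` with a commuting involution to the data of `CubePair`: invariant Sylow
subgroups, conjugates of a line, and the element of the torus commuting with the involution.
-/

set_option autoImplicit false
set_option linter.style.haveILetI false

namespace Cfsg.Agent.H29.Asch

open Subgroup MulAction
open Cfsg.Agent.H14.Asch
open Cfsg.Agent.H39
open Cfsg.Agent.H73.Asch (RankTwoBad Line2 HasLines2 LineShape)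
open scoped Pointwise commutatorElement

universe u v

variable {G : Type u} [Group G] [Finite G] {Ω : Type v} [MulAction G Ω]

omit [Finite G] in
theorem mem_normalizer_of_subset {L : Subgroup G} {g : G} (h : ∀ a ∈ L, g * a * g⁻¹ ∈ L)
    (h' : ∀ a ∈ L, g⁻¹ * a * g ∈ L) : g ∈ normalizer (L : Set G) :=
  mem_normalizer_iff.2 fun a => ⟨h a, fun ha => by simpa [mul_assoc] using h' _ ha⟩

omit [Finite G] in
theorem isPGroup_sup {P S : Subgroup G} (hP : IsPGroup 2 P) (hS : IsPGroup 2 S)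
    (hn : S ≤ normalizer (P : Set G)) : IsPGroup 2 ↥(P ⊔ S) :=
  hP.to_sup_of_normal_left' hS hn

/-- A 2-group normalising `L` normalises a maximal 2-subgroup of `L`, of maximal order. -/
theorem exists_invariant_two_group {L S : Subgroup G} (hS : IsPGroup 2 S)
    (hn : S ≤ normalizer (L : Set G)) :
    ∃ P : Subgroup G, IsPGroup 2 P ∧ P ≤ L ∧ S ≤ normalizer (P : Set G) ∧
      (∀ R : Subgroup G, IsPGroup 2 R → R ≤ L → Nat.card R ≤ Nat.card P) ∧
      ∀ R : Subgroup G, IsPGroup 2 R → R ≤ L → R ≤ normalizer (P : Set G) → R ≤ P := by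
  haveI : Fact (Nat.Prime 2) := ⟨Nat.prime_two⟩
  set N := normalizer (L : Set G) with hN
  have hLN : L ≤ N := Subgroup.le_normalizer
  obtain ⟨Pn, hPn⟩ := (hS.of_equiv (subgroupOfEquivOfLe hn).symm).exists_le_sylow
  set P := (Pn : Subgroup N).map N.subtype ⊓ L with hP
  have hPp : IsPGroup 2 P := (Pn.isPGroup'.map N.subtype).to_le inf_le_left
  have hmax : ∀ R : Subgroup G, IsPGroup 2 R → R ≤ L → Nat.card R ≤ Nat.card P := by
    intro R hR hRL
    obtain ⟨Pr, hPr⟩ := (hR.of_equiv (subgroupOfEquivOfLe (hRL.trans hLN)).symm).exists_le_sylow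
    obtain ⟨g, hg⟩ := MulAction.exists_smul_eq N Pr Pn
    refine Nat.card_le_card_of_injective (fun r : R => (⟨(g : G) * r * (g : G)⁻¹, ?_⟩ : P))
      fun a b hab => Subtype.ext (by simpa using congrArg Subtype.val hab)
    refine ⟨⟨g * ⟨r, hLN (hRL r.2)⟩ * g⁻¹, ?_, rfl⟩, (mem_normalizer_iff.1 g.2 _).1 (hRL r.2)⟩
    rw [← hg]
    exact ⟨⟨r, hLN (hRL r.2)⟩, hPr (mem_subgroupOf.2 r.2), rfl⟩
  have hSP : ∀ s ∈ S, ∀ a ∈ P, s * a * s⁻¹ ∈ P := by
    rintro s hs _ ⟨⟨a, ha, rfl⟩, haL⟩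
    exact ⟨⟨⟨s, hn hs⟩ * a * ⟨s, hn hs⟩⁻¹,
      mul_mem (mul_mem (hPn (mem_subgroupOf.2 hs)) ha) (inv_mem (hPn (mem_subgroupOf.2 hs))), rfl⟩,
      (mem_normalizer_iff.1 (hn hs) _).1 haL⟩
  refine ⟨P, hPp, inf_le_right, fun s hs => mem_normalizer_of_subset (hSP s hs) fun a ha => ?_,
    hmax, fun R hR hRL hRn => ?_⟩
  · simpa using hSP s⁻¹ (inv_mem hs) a ha
  · have h1 := hmax _ (isPGroup_sup hPp hR hRn) (sup_le inf_le_right hRL)
    exact le_sup_right.trans (eq_of_le_of_card_ge le_sup_left h1).ge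

omit [Finite G] in
/-- Conjugation by an element fixing the pair and commuting with `u`. -/
theorem conj_line_mem {D : Set G} (h : Crit G Ω D) {u w c : G} {x y : Ω} {Q : Subgroup G}
    (hwu : Commute w u) (hwx : w • x = x) (hwy : w • y = y) (hwn : w ∈ normalizer (Q : Set G))
    (hc : c ∈ lineGroup D u ⊓ pairStab G x y ⊓ normalizer (Q : Set G)) :
    w * c * w⁻¹ ∈ lineGroup D u ⊓ pairStab G x y ⊓ normalizer (Q : Set G) := by
  obtain ⟨⟨hcL, hcs⟩, hcn⟩ := hc
  have hgen : ∀ b ∈ lineGroup D u, w * b * w⁻¹ ∈ lineGroup D u := by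
    intro b hb
    induction hb using Subgroup.closure_induction with
    | mem d hd =>
      refine mem_lineGroup (h.conj_mem hd.1 w) ?_
      exact (hwu.mul_left (mem_centralizer_singleton_iff.mp hd.2 : Commute d u)).mul_left
        hwu.inv_left
    | one => simp
    | mul a b _ _ iha ihb =>
      rw [show w * (a * b) * w⁻¹ = (w * a * w⁻¹) * (w * b * w⁻¹) by group]
      exact mul_mem iha ihb
    | inv a _ iha =>
      rw [show w * a⁻¹ * w⁻¹ = (w * a * w⁻¹)⁻¹ by group]
      exact inv_mem iha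
  have hws : w ∈ pairStab G x y := mem_pairStab.2 ⟨hwx, hwy⟩
  exact ⟨⟨hgen c hcL, (pairStab G x y).mul_mem ((pairStab G x y).mul_mem hws hcs)
    ((pairStab G x y).inv_mem hws)⟩, (normalizer (Q : Set G)).mul_mem
      ((normalizer (Q : Set G)).mul_mem hwn hcn) ((normalizer (Q : Set G)).inv_mem hwn)⟩

section Line

variable {D : Set G} {u : G} {x : Ω} {E Q : Subgroup G} (hl : Line2 D u x E Q)
include hl

omit [Finite G] in
/-- A conjugate of a line in `lineGroup D u` at `x`. -/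
theorem line2_conj (h : Crit G Ω D) {k : G} (hk : k ∈ lineGroup D u ⊓ stabilizer G x) :
    Line2 D u x (MulAut.conj k • E) (MulAut.conj k • Q) := by
  have hku : Commute k u := commute_of_mem_lineGroup hk.1
  have hkx : k • x = x := hk.2
  have hkx' : k⁻¹ • x = x := inv_smul_eq_iff.2 hkx.symm
  have hmem : ∀ {S : Subgroup G} {g : G}, g ∈ MulAut.conj k • S ↔ k⁻¹ * g * k ∈ S :=
    fun {S g} => mem_conj_smul_subgroup S
  have hback : ∀ g : G, g = k * (k⁻¹ * g * k) * k⁻¹ := fun g => by group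
  refine
    { bad := hl.bad
      fix := hl.fix
      mem_E := fun g hg => ?_
      four_le := ?_
      E_le := fun g hg => hmem.2 (hl.E_le (hmem.1 hg))
      Q_le := fun g hg => ?_
      isPGroup := hl.isPGroup.of_equiv (Subgroup.equivSMul (MulAut.conj k) Q)
      sylow := fun P hP hPL => ?_
      central := fun e he g hg => ?_
      omega := fun g hg h2 => hmem.2 (hl.omega _ (hmem.1 hg) ?_)
      sq_mem := fun g hg => hmem.2 ?_
      comm_mem := fun g hg g' hg' => hmem.2 ?_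
      trans := fun a b ha hb hax hbx => ?_
      free := fun g hg a ha hax hga => ?_
      card_cases := ?_
      card_four := ?_
      torus := fun a ha hax T hT hTp hTE hTn => ?_
      torus_image := fun a ha hax g hg g' hg' e he => ?_ }
  · rcases hl.mem_E _ (hmem.1 hg) with e | ⟨e1, e2, e3⟩
    · left; rw [hback g, e]; group
    · right
      refine ⟨?_, ?_, ?_⟩
      · have := h.conj_mem e1 k
        rwa [← hback g] at this
      · have := commute_conj e2 k
        rwa [← hback g, conj_eq_of_commute hku] at this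
      · conv_lhs => rw [hback g, mul_smul, hkx', mul_smul, e3, hkx]
  · rw [← Nat.card_congr (Subgroup.equivSMul (MulAut.conj k) E).toEquiv]; exact hl.four_le
  · rw [hback g]
    exact mul_mem (mul_mem hk (hl.Q_le (hmem.1 hg))) (inv_mem hk)
  · obtain ⟨g, hg, hgP⟩ := hl.sylow P hP hPL
    refine ⟨g * k⁻¹, mul_mem hg (inv_mem hk), ?_⟩
    rw [smul_smul, ← map_mul, inv_mul_cancel_right]
    exact hgP
  · have := commute_conj (hl.central _ (hmem.1 he) _ (hmem.1 hg)) k
    rwa [← hback e, ← hback g] at this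
  · rw [show k⁻¹ * g * k = k⁻¹ * g * k⁻¹⁻¹ by rw [inv_inv], orderOf_conj, h2]
  · rw [show k⁻¹ * (g * g) * k = (k⁻¹ * g * k) * (k⁻¹ * g * k) by group]
    exact hl.sq_mem _ (hmem.1 hg)
  · rw [show k⁻¹ * ⁅g, g'⁆ * k = ⁅k⁻¹ * g * k, k⁻¹ * g' * k⁆ by
      simp only [commutatorElement_def]; group]
    exact hl.comm_mem _ (hmem.1 hg) _ (hmem.1 hg')
  · have hu' : ∀ {z : Ω}, u • z = z → u • k⁻¹ • z = k⁻¹ • z := fun hz =>
      smul_fixed_of_commute hku.inv_left hz
    have hne : ∀ {z : Ω}, z ≠ x → k⁻¹ • z ≠ x := fun hz e => hz (by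
      rw [← hkx, ← e, smul_inv_smul])
    obtain ⟨g, hg, hgz⟩ := hl.trans _ _ (hu' ha) (hu' hb) (hne hax) (hne hbx)
    refine ⟨k * g * k⁻¹, hmem.2 (by simpa [mul_assoc] using hg), ?_⟩
    rw [mul_smul, mul_smul, hgz, smul_inv_smul]
  · have h1 := hl.free _ (hmem.1 hg) (k⁻¹ • a) (smul_fixed_of_commute hku.inv_left ha)
      (fun e => hax (by rw [← hkx, ← e, smul_inv_smul]))
      (by rw [mul_smul, mul_smul, smul_inv_smul, hga])
    rw [hback g, h1]; group
  · rw [← Nat.card_congr (Subgroup.equivSMul (MulAut.conj k) E).toEquiv,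
      ← Nat.card_congr (Subgroup.equivSMul (MulAut.conj k) Q).toEquiv]
    exact hl.card_cases
  · rw [← Nat.card_congr (Subgroup.equivSMul (MulAut.conj k) E).toEquiv,
      ← Nat.card_congr (Subgroup.equivSMul (MulAut.conj k) Q).toEquiv]
    exact hl.card_four
  · have hTp' : MulAut.conj k⁻¹ • T ≤ pairStab G x (k⁻¹ • a) ⊓ centralizer ({u} : Set G) := by
      intro g hg
      have hg' : k * g * k⁻¹ ∈ T := by simpa using (mem_conj_smul_subgroup T).1 hg
      obtain ⟨⟨h1, h2⟩, h3⟩ := hTp hg'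
      refine ⟨⟨?_, ?_⟩, mem_centralizer_singleton_iff.2 ?_⟩
      · have : (k * g * k⁻¹) • x = x := h1
        rw [mul_smul, mul_smul, hkx'] at this
        exact MulAction.injective k (this.trans hkx.symm)
      · have h2' : (k * g * k⁻¹) • a = a := h2
        rw [mul_smul, mul_smul] at h2'
        exact mem_stabilizer_iff.2 (eq_inv_smul_iff.2 h2')
      · have := commute_conj (mem_centralizer_singleton_iff.1 h3 : Commute (k * g * k⁻¹) u) k⁻¹
        rw [show k⁻¹ * (k * g * k⁻¹) * k⁻¹⁻¹ = g by group, conj_eq_of_commute hku.inv_left] at this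
        exact this.eq
    obtain ⟨A, hA, hAo, hAn, hAc, hAt, hAT, hAs⟩ := hl.torus (k⁻¹ • a)
      (smul_fixed_of_commute hku.inv_left ha) (fun e => hax (by rw [← hkx, ← e, smul_inv_smul]))
      (MulAut.conj k⁻¹ • T) (hT.of_equiv (Subgroup.equivSMul (MulAut.conj k⁻¹) T)) hTp'
      (fun e he t ht => by
        have h1 := hTE (k * e * k⁻¹) (hmem.2 (by simpa [mul_assoc] using he)) (k * t * k⁻¹)
          (by simpa using (mem_conj_smul_subgroup T).1 ht)
        simpa [mul_assoc] using commute_conj h1 k⁻¹)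
      (fun g hg => by
        have h1 := hTn (show k * g * k⁻¹ ∈ T by simpa using (mem_conj_smul_subgroup T).1 hg)
        refine mem_normalizer_iff.2 fun q => ?_
        have h2 : ∀ z : G, k * g * k⁻¹ * (k * z * k⁻¹) * (k * g * k⁻¹)⁻¹ =
            k * (g * z * g⁻¹) * k⁻¹ := fun z => by group
        have h3 : ∀ z : G, k * z * k⁻¹ ∈ MulAut.conj k • Q ↔ z ∈ Q := fun z => by
          rw [hmem, show k⁻¹ * (k * z * k⁻¹) * k = z by group]
        have h4 := (mem_normalizer_iff.1 h1 (k * q * k⁻¹))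
        rw [h2] at h4
        exact ((h3 q).symm.trans h4).trans (h3 _))
    have h3 : ∀ {S : Subgroup G} {z : G}, k * z * k⁻¹ ∈ MulAut.conj k • S ↔ z ∈ S :=
      fun {S z} => by rw [hmem, show k⁻¹ * (k * z * k⁻¹) * k = z by group]
    refine ⟨MulAut.conj k • A, fun g hg => ?_,
      by rwa [← Nat.card_congr (Subgroup.equivSMul (MulAut.conj k) A).toEquiv], fun g hg => ?_,
      (Subgroup.equivSMul (MulAut.conj k) A).isCyclic.1 hAc, fun a₁ ha₁ b₁ hb₁ ha1 hb1 => ?_,
      fun t ht => ?_, ?_⟩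
    · obtain ⟨hL, hC⟩ := hA (hmem.1 hg)
      rw [hback g]
      refine ⟨(lineGroup D u).mul_mem ((lineGroup D u).mul_mem hk.1 hL) ((lineGroup D u).inv_mem hk.1), ?_⟩
      obtain ⟨c1, c2⟩ := mem_pairStab.1 hC
      refine mem_pairStab.2 ⟨by rw [mul_smul, mul_smul, hkx', c1, hkx], ?_⟩
      rw [mul_smul, mul_smul, c2, smul_inv_smul]
    · refine mem_normalizer_iff.2 fun q => ?_
      have h1 := mem_normalizer_iff.1 (hAn (hmem.1 hg)) (k⁻¹ * q * k)
      rw [show k⁻¹ * g * k * (k⁻¹ * q * k) * (k⁻¹ * g * k)⁻¹ = k⁻¹ * (g * q * g⁻¹) * k by group] at h1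
      exact (hmem.trans h1).trans hmem.symm
    · obtain ⟨c, hc, hcab⟩ := hAt _ (hmem.1 ha₁) _ (hmem.1 hb₁)
        (fun e => ha1 (by rw [hback a₁, e]; group)) (fun e => hb1 (by rw [hback b₁, e]; group))
      refine ⟨k * c * k⁻¹, h3.2 hc, ?_⟩
      rw [hback a₁, hback b₁, ← hcab]
      group
    · have h1 := mem_normalizer_iff.1 (hAT (show k⁻¹ * t * k ∈ MulAut.conj k⁻¹ • T by
        rw [mem_conj_smul_subgroup]; simpa [mul_assoc] using ht))
      refine mem_normalizer_iff.2 fun q => ?_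
      have h2 : ∀ z : G, z ∈ MulAut.conj k • A ⊓ centralizer
          ((MulAut.conj k • E : Subgroup G) : Set G) ↔
          k⁻¹ * z * k ∈ A ⊓ centralizer (E : Set G) := by
        intro z
        simp only [mem_inf, mem_centralizer_iff, hmem]
        refine and_congr Iff.rfl ⟨fun hz e he => ?_, fun hz e he => ?_⟩
        · have := hz (k * e * k⁻¹) (h3.2 he)
          calc e * (k⁻¹ * z * k) = k⁻¹ * ((k * e * k⁻¹) * z) * k := by group
            _ = k⁻¹ * (z * (k * e * k⁻¹)) * k := by rw [this]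
            _ = _ := by group
        · have := hz (k⁻¹ * e * k) (hmem.1 he)
          calc e * z = k * ((k⁻¹ * e * k) * (k⁻¹ * z * k)) * k⁻¹ := by group
            _ = k * ((k⁻¹ * z * k) * (k⁻¹ * e * k)) * k⁻¹ := by rw [this]
            _ = _ := by group
      have h4 := h1 (k⁻¹ * q * k)
      rw [show k⁻¹ * t * k * (k⁻¹ * q * k) * (k⁻¹ * t * k)⁻¹ = k⁻¹ * (t * q * t⁻¹) * k by group] at h4
      exact ((h2 q).trans h4).trans (h2 _).symm
    · rcases hAs with hs | ⟨hs1, hs2⟩ | ⟨c, hc, hcE, hcQ⟩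
      · exact Or.inl (by rw [hs])
      · refine Or.inr (Or.inl ⟨fun g hg g' hg' e => hmem.2 ?_, fun g hg hgE => ?_⟩)
        · rw [show k⁻¹ * (g * g'⁻¹) * k = (k⁻¹ * g * k) * (k⁻¹ * g' * k)⁻¹ by group]
          refine hs1 _ (hmem.1 hg) _ (hmem.1 hg') ?_
          rw [show k⁻¹ * g * k * (k⁻¹ * g * k) = k⁻¹ * (g * g) * k by group, e]; group
        · obtain ⟨p, hp, l, hl', c1, c2, c3⟩ := hs2 _ (hmem.1 hg) fun e => hgE (hmem.2 e)
          have hc' : ∀ z : G, ⁅g, k * z * k⁻¹⁆ = k * ⁅k⁻¹ * g * k, z⁆ * k⁻¹ := fun z => by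
            simp only [commutatorElement_def]; group
          exact ⟨k * p * k⁻¹, h3.2 hp, k * l * k⁻¹, h3.2 hl',
            fun e => c1 (by rw [hc'] at e; exact conj_eq_one_iff.1 e),
            fun e => c2 (by rw [hc'] at e; exact conj_eq_one_iff.1 e),
            fun e => c3 (by rw [hc', hc'] at e; exact mul_left_cancel (mul_right_cancel e))⟩
      · refine Or.inr (Or.inr ⟨k * c * k⁻¹, h3.2 hc, fun e he => ?_, fun g hg hgc => hmem.2 ?_⟩)
        · have := commute_conj (hcE _ (hmem.1 he)) k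
          rwa [← hback e] at this
        · refine hcQ _ (hmem.1 hg) ?_
          have := commute_conj hgc k⁻¹
          rw [show k⁻¹ * (k * c * k⁻¹) * k⁻¹⁻¹ = c by group, inv_inv] at this
          exact this

  · have hconv : ∀ {g : G},
        g ∈ lineGroup D u ⊓ pairStab G x a ⊓ normalizer ((MulAut.conj k • E : Subgroup G) : Set G) →
        k⁻¹ * g * k ∈ lineGroup D u ⊓ pairStab G x (k⁻¹ • a) ⊓ normalizer (E : Set G) := by
      intro g hg
      obtain ⟨⟨hgL, hgs⟩, hgn⟩ := hg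
      obtain ⟨c1, c2⟩ := mem_pairStab.1 hgs
      refine ⟨⟨(lineGroup D u).mul_mem ((lineGroup D u).mul_mem ((lineGroup D u).inv_mem hk.1) hgL) hk.1, mem_pairStab.2
        ⟨by rw [mul_smul, mul_smul, hkx, c1, hkx'],
         by rw [mul_smul, mul_smul, smul_inv_smul, c2]⟩⟩,
        mem_normalizer_iff.2 fun q => ?_⟩
      have h1 := mem_normalizer_iff.1 hgn (k * q * k⁻¹)
      rw [show g * (k * q * k⁻¹) * g⁻¹ = k * ((k⁻¹ * g * k) * q * (k⁻¹ * g * k)⁻¹) * k⁻¹ by group] at h1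
      simp only [SetLike.mem_coe, hmem] at h1
      simpa [mul_assoc] using h1
    have h1 := commute_conj (hl.torus_image _ (smul_fixed_of_commute hku.inv_left ha)
      (fun e => hax (by rw [← hkx, ← e, smul_inv_smul])) _ (hconv hg) _ (hconv hg') _ (hmem.1 he)) k
    rwa [show k * ⁅k⁻¹ * g * k, k⁻¹ * g' * k⁆ * k⁻¹ = ⁅g, g'⁆ by
      simp only [commutatorElement_def]; group, ← hback e] at h1

include hl in
/-- The two-point stabiliser of the line has odd order. -/
theorem line2_odd_card (h : Crit G Ω D) {y : Ω} (huy : u • y = y) (hy : y ≠ x) :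
    Odd (Nat.card ↥(lineGroup D u ⊓ pairStab G x y)) := by
  haveI : Fact (Nat.Prime 2) := ⟨Nat.prime_two⟩
  rw [← Nat.not_even_iff_odd, even_iff_two_dvd]
  intro h2
  obtain ⟨⟨g, hg⟩, hg2⟩ := exists_prime_orderOf_dvd_card' 2 h2
  rw [← Subgroup.orderOf_coe] at hg2
  obtain ⟨c1, c2⟩ := mem_pairStab.1 hg.2
  exact hy.symm ((h.line hl.bad.1 hy.symm hl.fix huy).fix_unique hg.1 hg2 hl.fix huy c1 c2)

omit [Finite G] in
theorem line2_card_Q [Finite Ω] {y : Ω} (huy : u • y = y) (hy : y ≠ x) :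
    Nat.card Q + 1 = Nat.card (fixedBy Ω u) := by
  have hfix : ∀ g : Q, u • (g : G) • y = (g : G) • y := fun g =>
    smul_fixed_of_commute (line2_commute hl g.2) huy
  let f : Option Q → fixedBy Ω u := fun o => o.elim ⟨x, hl.fix⟩ fun g => ⟨(g : G) • y, hfix g⟩
  have hne : ∀ g : Q, (g : G) • y ≠ x := fun g e =>
    hy (MulAction.injective (g : G) (e.trans (line2_smul hl g.2).symm))
  have hf : Function.Bijective f := by
    constructor
    · rintro (_ | a) (_ | b) hab
      · rfl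
      · exact absurd (congrArg Subtype.val hab).symm (hne b)
      · exact absurd (congrArg Subtype.val hab) (hne a)
      · have h1 : (a : G) • y = (b : G) • y := congrArg Subtype.val hab
        have h2 := hl.free _ (mul_mem (inv_mem b.2) a.2) y huy hy (by
          rw [mul_smul, h1, inv_smul_smul])
        exact congrArg some (Subtype.ext (inv_mul_eq_one.1 h2).symm)
    · rintro ⟨z, hz⟩
      by_cases hzx : z = x
      · exact ⟨none, Subtype.ext hzx.symm⟩
      · obtain ⟨g, hg, hgz⟩ := hl.trans y z huy hz hy hzx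
        exact ⟨some ⟨g, hg⟩, Subtype.ext hgz⟩
  haveI : Finite Q := Finite.of_injective (fun g : Q => (f (some g) : Ω)) fun a b hab =>
    Option.some_injective _ (hf.1 (Subtype.ext hab))
  rw [← Nat.card_congr (Equiv.ofBijective f hf), Finite.card_option]

omit [Finite G] in
/-- The centraliser in `Q` of a commuting involution with the fixed point `y`. -/
theorem line2_card_centralizer [Finite Ω] {w : G} (hw : ∀ g ∈ Q, w * g * w⁻¹ ∈ Q)
    (hwu : Commute w u) (hwx : w • x = x) {y : Ω} (huy : u • y = y) (hy : y ≠ x) (hwy : w • y = y) :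
    Nat.card ↥(Q ⊓ centralizer {w}) + 1 = Nat.card {p : Ω | u • p = p ∧ w • p = p} := by
  have hiff : ∀ g ∈ Q, Commute g w ↔ w • g • y = g • y := by
    intro g hg
    refine ⟨fun hc => smul_fixed_of_commute hc hwy, fun h1 => ?_⟩
    have h2 := hl.free (g⁻¹ * (w * g * w⁻¹)) (mul_mem (inv_mem hg) (hw g hg)) y huy hy (by
      rw [mul_smul, mul_smul, mul_smul, inv_smul_eq_iff.2 hwy.symm, h1, inv_smul_smul])
    rw [inv_mul_eq_one] at h2
    show g * w = w * g
    conv_lhs => rw [h2]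
    group
  let f : Option ↥(Q ⊓ centralizer {w}) → {p : Ω | u • p = p ∧ w • p = p} := fun o =>
    o.elim ⟨x, hl.fix, hwx⟩ fun g => ⟨(g : G) • y,
      smul_fixed_of_commute (line2_commute hl g.2.1) huy,
      (hiff _ g.2.1).1 (mem_centralizer_singleton_iff.1 g.2.2)⟩
  have hne : ∀ g : ↥(Q ⊓ centralizer {w}), (g : G) • y ≠ x := fun g e =>
    hy (MulAction.injective (g : G) (e.trans (line2_smul hl g.2.1).symm))
  have hf : Function.Bijective f := by
    constructor
    · rintro (_ | a) (_ | b) hab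
      · rfl
      · exact absurd (congrArg Subtype.val hab).symm (hne b)
      · exact absurd (congrArg Subtype.val hab) (hne a)
      · have h1 : (a : G) • y = (b : G) • y := congrArg Subtype.val hab
        have h2 := hl.free _ (mul_mem (inv_mem b.2.1) a.2.1) y huy hy (by
          rw [mul_smul, h1, inv_smul_smul])
        exact congrArg some (Subtype.ext (inv_mul_eq_one.1 h2).symm)
    · rintro ⟨z, hz1, hz2⟩
      by_cases hzx : z = x
      · exact ⟨none, Subtype.ext hzx.symm⟩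
      · obtain ⟨g, hg, hgz⟩ := hl.trans y z huy hz1 hy hzx
        have hc : Commute g w := (hiff g hg).2 (by rw [hgz]; exact hz2)
        exact ⟨some ⟨g, hg, mem_centralizer_singleton_iff.2 hc.eq⟩, Subtype.ext hgz⟩
  haveI : Finite ↥(Q ⊓ centralizer {w}) := Finite.of_injective
    (fun g : ↥(Q ⊓ centralizer {w}) => (f (some g) : Ω)) fun a b hab =>
      Option.some_injective _ (hf.1 (Subtype.ext hab))
  rw [← Nat.card_congr (Equiv.ofBijective f hf), Finite.card_option]

variable {y : Ω} (huy : u • y = y) (hy : y ≠ x) {w : G} (hw : ∀ g ∈ Q, w * g * w⁻¹ ∈ Q)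
  (hww : w * w = 1) (hwu : Commute w u) (hwx : w • x = x) (hwy : w • y = y)
include huy hy hw hww hwu hwx hwy

/-- The types for an involution fixing `x` and `y` and commuting with `u`. -/
theorem line2_centralizer_cases (h : Crit G Ω D) (hmove : ∃ g ∈ Q, ¬ Commute g w) :
    (Nat.card ↥(Q ⊓ centralizer {w}) ^ 2 = Nat.card Q ∨
      ((∀ e ∈ E, Commute e w) ∧ Nat.card ↥(Q ⊓ centralizer {w}) = Nat.card E ∧
        Nat.card Q = Nat.card E ^ 3)) ∧
      ((∀ e ∈ E, Commute e w) → Nat.card ↥(Q ⊓ centralizer {w}) = Nat.card E) := by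
  have hu2 : orderOf u = 2 := hl.bad.1
  obtain ⟨A, hA, -, hAn, -, hAt, -, hAs⟩ := hl.torus y huy hy (zpowers u)
    (IsPGroup.of_card (n := 1) (by rw [Nat.card_zpowers, hu2]; rfl))
    (zpowers_le.2 ⟨mem_pairStab.2 ⟨hl.fix, huy⟩, mem_centralizer_singleton_iff.2 rfl⟩)
    (fun e he t ht => commute_of_mem_zpowers (line2_commute hl (hl.E_le he)) ht)
    (zpowers_le.2 (mem_normalizer_of_subset
      (fun a ha => by rwa [(line2_commute hl ha).eq.symm, mul_inv_cancel_right])
      fun a ha => by rwa [mul_assoc, (line2_commute hl ha).eq, inv_mul_cancel_left]))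
  have hwi : w⁻¹ = w := inv_eq_of_mul_eq_one_left hww
  set Y := lineGroup D u ⊓ pairStab G x y ⊓ normalizer (Q : Set G) with hY
  have hAY : A ≤ Y := fun a ha => ⟨hA ha, hAn ha⟩
  have hwn : w ∈ normalizer (Q : Set G) := mem_normalizer_of_subset hw fun a ha => by
    have := hw a ha; rw [hwi] at this ⊢; exact this
  refine card_centralizer_cases (Y := Y) hl.isPGroup hl.E_le
    (fun e he => line2_mul_self hl h he) hl.central hl.omega hl.sq_mem hww
    (fun g hg => by have := hw g hg; rwa [hwi] at this)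
    (fun c hc g hg => (mem_normalizer_iff.1 hc.2 g).1 hg)
    ((line2_odd_card hl h huy hy).of_dvd_nat (card_dvd_of_le inf_le_left))
    (fun c hc => ?_)
    (fun a ha b hb ha1 hb1 => (hAt a ha b hb ha1 hb1).imp fun c hc => ⟨hAY hc.1, hc.2⟩)
    hl.four_le hl.card_cases ?_ hmove
  · rw [show w * c * w = w * c * w⁻¹ by rw [hwi]]
    exact conj_line_mem h hwu hwx hwy hwn hc
  · rcases hAs with hs | ⟨hs, -⟩ | ⟨c, hc, hcE, hcQ⟩
    · left
      rw [← hs]
      exact Nat.le_self_pow (by norm_num) _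
    · left
      classical
      let rep : E → G := fun e => if hex : ∃ g ∈ Q, g * g = e then hex.choose else 1
      have hrep : ∀ g ∈ Q, ∀ hgE : g * g ∈ E, g * (rep ⟨g * g, hgE⟩)⁻¹ ∈ E := by
        intro g hg hgE
        have hex : ∃ a ∈ Q, a * a = g * g := ⟨g, hg, rfl⟩
        simp only [rep, dif_pos hex]
        exact hs g hg _ hex.choose_spec.1 hex.choose_spec.2.symm
      rw [sq, ← Nat.card_prod]
      refine Nat.card_le_card_of_injective (fun g : Q =>
        ((⟨(g : G) * g, hl.sq_mem g g.2⟩ : E), (⟨_, hrep g g.2 (hl.sq_mem g g.2)⟩ : E))) ?_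
      intro a b hab
      simp only [Prod.mk.injEq] at hab
      obtain ⟨h1, h2⟩ := hab
      have h3 := congrArg Subtype.val h2
      simp only at h3
      rw [h1] at h3
      exact Subtype.ext (mul_right_cancel h3)
    · exact Or.inr ⟨c, hAY hc, hcE, hcQ⟩

/-- The identity of Hua on a line with an involution centralising `E`. -/
theorem line2_nd (h : Crit G Ω D) (hQ : CubeGroup Q E) (hI : CubeInvol Q E w) :
    ∀ a ∈ Q, ∀ k ∈ Q, w * k * w⁻¹ = k⁻¹ → a * k * a⁻¹ = k⁻¹ →
      k * k = 1 ∨ k * k = beta w a * beta w a := by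
  classical
  haveI : Fact (Nat.Prime 2) := ⟨Nat.prime_two⟩
  have hu2 : orderOf u = 2 := hl.bad.1
  obtain ⟨A, hA, -, hAn, hAc, hAt, -, -⟩ := hl.torus y huy hy (zpowers u)
    (IsPGroup.of_card (n := 1) (by rw [Nat.card_zpowers, hu2]; rfl))
    (zpowers_le.2 ⟨mem_pairStab.2 ⟨hl.fix, huy⟩, mem_centralizer_singleton_iff.2 rfl⟩)
    (fun e he t ht => commute_of_mem_zpowers (line2_commute hl (hl.E_le he)) ht)
    (zpowers_le.2 (mem_normalizer_of_subset
      (fun a ha => by rwa [(line2_commute hl ha).eq.symm, mul_inv_cancel_right])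
      fun a ha => by rwa [mul_assoc, (line2_commute hl ha).eq, inv_mul_cancel_left]))
  obtain ⟨⟨a₁, ha₁⟩, hgen⟩ := hAc.exists_generator
  set Y := lineGroup D u ⊓ pairStab G x y ⊓ normalizer (Q : Set G) with hY
  have hwn : w ∈ normalizer (Q : Set G) := mem_normalizer_of_subset hw fun a ha => by
    have := hw a ha; rwa [inv_eq_of_mul_eq_one_left hww] at this ⊢
  have hYn : ∀ c ∈ Y, w * c * w⁻¹ ∈ Y := fun c hc => conj_line_mem h hwu hwx hwy hwn hc
  have hYodd : Odd (Nat.card Y) :=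
    (line2_odd_card hl h huy hy).of_dvd_nat (card_dvd_of_le inf_le_left)
  have ha₁Y : a₁ ∈ Y := ⟨hA ha₁, hAn ha₁⟩
  let X := {z : Y // ∀ e ∈ E, (z : G) * e * (z : G)⁻¹ = a₁ * e * a₁⁻¹}
  have hwX : ∀ z : X, ∀ e ∈ E, w * (z.1 : G) * w⁻¹ * e * (w * (z.1 : G) * w⁻¹)⁻¹ = a₁ * e * a₁⁻¹ := by
    intro z e he
    have he' : a₁ * e * a₁⁻¹ ∈ E :=
      conj_mem_E hl.E_le hQ.mul_self hl.omega (fun g hg => (mem_normalizer_iff.1 ha₁Y.2 g).1 hg) he
    calc w * (z.1 : G) * w⁻¹ * e * (w * (z.1 : G) * w⁻¹)⁻¹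
        = w * ((z.1 : G) * (w⁻¹ * e * w) * (z.1 : G)⁻¹) * w⁻¹ := by group
      _ = w * ((z.1 : G) * e * (z.1 : G)⁻¹) * w⁻¹ := by
          rw [mul_assoc w⁻¹, ← (hI.comm e he).eq, inv_mul_cancel_left]
      _ = _ := by rw [z.2 e he, (hI.comm _ he').eq, mul_inv_cancel_right]
  let σ : X → X := fun z => ⟨⟨_, hYn _ z.1.2⟩, hwX z⟩
  have hσ : ∀ z, σ (σ z) = z := fun z => Subtype.ext (Subtype.ext (by
    show w * (w * (z.1 : G) * w⁻¹) * w⁻¹ = z.1
    calc w * (w * (z.1 : G) * w⁻¹) * w⁻¹ = (w * w) * (z.1 : G) * (w * w)⁻¹ := by group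
      _ = _ := by rw [hww]; group))
  have hodd : Odd (Nat.card X) := by
    have hst : Nat.card X = Nat.card ↥(centralizer (E : Set G) ⊓ Y) := Nat.card_congr
      { toFun := fun z => ⟨a₁⁻¹ * z.1, mem_centralizer_iff.2 (fun e he => by
          calc e * (a₁⁻¹ * z.1) = a₁⁻¹ * (a₁ * e * a₁⁻¹) * z.1 := by group
            _ = a₁⁻¹ * ((z.1 : G) * e * (z.1 : G)⁻¹) * z.1 :=
                congrArg (fun t => a₁⁻¹ * t * (z.1 : G)) (z.2 e he).symm
            _ = _ := by group),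
          Y.mul_mem (Y.inv_mem ha₁Y) z.1.2⟩
        invFun := fun c => ⟨⟨a₁ * c, Y.mul_mem ha₁Y c.2.2⟩, fun e he => by
          show a₁ * (c : G) * e * (a₁ * (c : G))⁻¹ = a₁ * e * a₁⁻¹
          rw [mul_assoc a₁, ← mem_centralizer_iff.1 c.2.1 e he]; group⟩
        left_inv := fun z => Subtype.ext (Subtype.ext (by simp))
        right_inv := fun c => Subtype.ext (by simp) }
    rw [hst]
    exact hYodd.of_dvd_nat (card_dvd_of_le inf_le_right)
  obtain ⟨z, hz⟩ : ∃ z : X, σ z = z := by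
    haveI := Fintype.ofFinite X
    let p : Equiv.Perm X := ⟨σ, σ, hσ, hσ⟩
    have hp : p ^ (2 ^ 1) = 1 := Equiv.ext fun z => by
      rw [pow_one, pow_two]; exact hσ z
    exact Equiv.Perm.exists_fixed_point_of_prime (p := 2) (n := 1)
      (by rw [← Nat.card_eq_fintype_card]; exact hodd.not_two_dvd_nat) hp
  set a₀ : G := ((z.1 : Y) : G) with ha₀
  have hau : Commute a₀ w := by
    have e : w * a₀ * w⁻¹ = a₀ := congrArg (fun z : X => ((z.1 : Y) : G)) hz
    show a₀ * w = w * a₀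
    conv_lhs => rw [← e]
    group
  have haQ : ∀ g ∈ Q, a₀ * g * a₀⁻¹ ∈ Q := fun g hg => (mem_normalizer_iff.1 z.1.2.2 g).1 hg
  have hpow : ∀ i : ℕ, ∀ e ∈ E, a₀ ^ i * e * (a₀ ^ i)⁻¹ = a₁ ^ i * e * (a₁ ^ i)⁻¹ ∧
      a₁ ^ i * e * (a₁ ^ i)⁻¹ ∈ E := by
    intro i
    induction i with
    | zero => intro e he; simpa using he
    | succ i ih =>
      intro e he
      obtain ⟨h1, h2⟩ := ih e he
      have h3 := z.2 _ h2
      have e1 : a₀ ^ (i + 1) * e * (a₀ ^ (i + 1))⁻¹ = a₁ ^ (i + 1) * e * (a₁ ^ (i + 1))⁻¹ := by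
        rw [pow_succ', pow_succ',
          show a₀ * a₀ ^ i * e * (a₀ * a₀ ^ i)⁻¹ = a₀ * (a₀ ^ i * e * (a₀ ^ i)⁻¹) * a₀⁻¹ by group,
          h1, ha₀, h3]
        group
      refine ⟨e1, conj_mem_E hl.E_le hQ.mul_self hl.omega (fun g hg => ?_) he⟩
      exact (mem_normalizer_iff.1 ((normalizer (Q : Set G)).pow_mem ha₁Y.2 (i + 1)) g).1 hg
  refine fun a ha k hk hk' hak => CubeInvol.sq_eq_of_conj_eq_inv hQ hI
    (hYodd.of_dvd_nat (Subgroup.orderOf_dvd_natCard Y z.1.2)) haQ hau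
    (fun e he e' he' he1 he1' => ?_) ha hk hk' hak
  obtain ⟨c, hc, hce⟩ := hAt e he e' he' he1 he1'
  obtain ⟨i, hi⟩ : ∃ i : ℕ, c = a₁ ^ i := by
    obtain ⟨i, hi⟩ := (IsOfFinOrder.mem_powers_iff_mem_zpowers
      (isOfFinOrder_of_finite (⟨a₁, ha₁⟩ : A))).mpr (hgen ⟨c, hc⟩)
    exact ⟨i, (congrArg Subtype.val hi).symm⟩
  exact ⟨i, by rw [(hpow i e he).1, ← hi, hce]⟩

end Line

end Cfsg.Agent.H29.Asch
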