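import Cfsg.Agent.H14.Asch.ShapesBase
import Cfsg.Agent.H51.Asch.Climb
import Cfsg.Agent.H29.Asch.UUULine

/-!
The climb of P4 for lines with squaring injective on `Q / E` (notes/helper14_shapes.md, 3): the data
`ShapeData` reach a maximal `2`-subgroup of `X` with `Q` and `u` kept, given that the classes of `u`
in the normaliser are orbits of the Sylow subgroup.
-/

set_option autoImplicit false
set_option linter.style.haveILetI false

namespace Cfsg.Agent.H29.Asch

open Subgroup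
open Cfsg.Agent.H14.Asch (ShapeData Squaring)
open Cfsg.Agent.H51.Asch (MaxTwo exists_maxTwo_ge trans_of_same_action exists_odd_pow
  conj_pow_eq_of_conj_eq)

universe u

variable {G : Type u} [Group G] [Finite G]

/-- The hypothesis GAMMA of the climb, at one stage. -/
def OrbitAt (X M : Subgroup G) (u : G) : Prop :=
  ∀ P : Subgroup G, MaxTwo (X ⊓ normalizer (M : Set G)) P → M ≤ P →
    ∀ l ∈ X ⊓ normalizer (M : Set G), ∃ p ∈ P, Commute (p * l) u

/-- An element centralising `u` and `E` in `X` normalising `Q⟨u⟩` normalises `Q`. -/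
theorem conj_mem_Q_of_squaring {M Q E A X : Subgroup G} {u w : G} (hd : ShapeData M Q E A u)
    (hs : Squaring Q E) (hXE : ∀ e ∈ E, ∀ g ∈ X, Commute e g)
    (hT : MaxTwo (X ⊓ centralizer ({u} : Set G)) (Q ⊔ zpowers u)) (hwX : w ∈ X)
    (hwu : Commute w u) (hwn : w ∈ normalizer ((Q ⊔ zpowers u : Subgroup G) : Set G)) {q : G}
    (hq : q ∈ Q) : w * q * w⁻¹ ∈ Q := by
  haveI : Fact (Nat.Prime 2) := ⟨Nat.prime_two⟩
  set V := Q ⊔ zpowers u with hV
  have hsplit : ∀ g ∈ V, g ∈ Q ∨ g * u ∈ Q := fun g hg =>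
    hd.cent g ((sup_le hd.le (zpowers_le.mpr hd.u_mem)) hg)
      (mem_centralizer_singleton_iff.mp (hT.2.1 hg).2)
  set d := orderOf w with hdd
  set v := d.factorization 2 with hv
  have hdiv : 2 ^ v ∣ d := Nat.ordProj_dvd _ _
  have hdm : ¬ 2 ∣ d / 2 ^ v := Nat.not_dvd_ordCompl Nat.prime_two (orderOf_pos w).ne'
  set o := w ^ (2 ^ v) with ho
  set t := w ^ (d / 2 ^ v) with ht
  -- the two-part lies in `Q⟨u⟩`
  have htV : t ∈ V := by
    have ht2 : IsPGroup 2 (zpowers t) := by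
      intro y
      refine ⟨v, Subtype.ext ?_⟩
      obtain ⟨i, hi⟩ := mem_zpowers_iff.mp y.2
      push_cast
      rw [← hi, ← zpow_natCast (t ^ i) (2 ^ v), ← zpow_mul, mul_comm, zpow_mul, zpow_natCast, ht,
        ← pow_mul, Nat.div_mul_cancel hdiv, hdd, pow_orderOf_eq_one, one_zpow]
    have h1 := hT.2.2 (V ⊔ zpowers t)
      (hT.1.to_sup_of_normal_left' ht2 (zpowers_le.mpr (pow_mem hwn _)))
      (sup_le hT.2.1 (zpowers_le.mpr (pow_mem
        (mem_inf.mpr ⟨hwX, mem_centralizer_singleton_iff.mpr hwu.eq⟩) _))) le_sup_left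
    rw [← h1]
    exact mem_sup_right (mem_zpowers t)
  have htQ : ∀ g ∈ Q, t * g * t⁻¹ ∈ Q := by
    intro g hg
    rcases hsplit t htV with h1 | h1
    · exact Q.mul_mem (Q.mul_mem h1 hg) (Q.inv_mem h1)
    · have h2 := Q.mul_mem (Q.mul_mem h1 hg) (Q.inv_mem h1)
      rwa [show t * u * g * (t * u)⁻¹ = t * (u * g * u⁻¹) * t⁻¹ by group,
        ← (hd.commute g hg).eq, mul_inv_cancel_right] at h2
  -- the odd part
  have hoQ : ∀ g ∈ Q, o * g * o⁻¹ ∈ Q := by
    intro g hg
    have hodd : Odd (orderOf o) := by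
      rw [ho, orderOf_pow' w (by positivity), Nat.gcd_eq_right hdiv, Nat.odd_iff,
        ← Nat.two_dvd_ne_zero]
      exact hdm
    have hoX : o ∈ X := pow_mem hwX _
    have hou : Commute o u := hwu.pow_left _
    have hogV := (mem_normalizer_iff.mp (pow_mem hwn (2 ^ v)) g).mp (mem_sup_left hg)
    rcases hsplit _ hogV with h1 | h1
    · exact h1
    exfalso
    set c := o * g * o⁻¹ * u with hc
    have hcu : Commute c u := hd.commute c h1
    have hog : o * g * o⁻¹ = c * u := by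
      rw [hc, mul_assoc (o * g * o⁻¹) u u, hd.sq_u, mul_one]
    have hsq : c * c = g * g := by
      calc c * c = (c * u) * (c * u) := by
            rw [hcu.symm.mul_mul_mul_comm, hd.sq_u, mul_one]
        _ = o * (g * g) * o⁻¹ := by rw [← hog]; group
        _ = g * g := by
          rw [((hXE _ (hd.sq_mem g hg) o hoX).symm).eq, mul_inv_cancel_right]
    set e := c * g⁻¹ with he
    have heE : e ∈ E := hs.inj c h1 g hg hsq
    have hoe : o * (e * u) * o⁻¹ = e * u := by
      rw [(((hXE e heE o hoX).symm).mul_right hou).eq, mul_inv_cancel_right]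
    have hstep : o * g * o⁻¹ = (e * u) * g := by
      calc o * g * o⁻¹ = e * (g * u) := by rw [hog, he]; group
        _ = e * u * g := by rw [(hd.commute g hg).eq, ← mul_assoc]
    have hpow : ∀ i : ℕ, o ^ i * g * (o ^ i)⁻¹ = (e * u) ^ i * g := by
      intro i
      induction i with
      | zero => group
      | succ i ih =>
        calc o ^ (i + 1) * g * (o ^ (i + 1))⁻¹ = o * (o ^ i * g * (o ^ i)⁻¹) * o⁻¹ := by
              rw [pow_succ']; group
          _ = (o * (e * u) * o⁻¹) ^ i * (o * g * o⁻¹) := by rw [ih, conj_pow]; group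
          _ = _ := by rw [hoe, hstep, ← mul_assoc, ← pow_succ]
    have h2 := hpow (orderOf o)
    rw [pow_orderOf_eq_one] at h2
    have heu : (e * u) * (e * u) = 1 := by
      rw [(hd.commute e (hd.le_E heE)).symm.mul_mul_mul_comm, hd.sq e heE, hd.sq_u, mul_one]
    obtain ⟨j, hj⟩ := hodd
    rw [hj, pow_succ, pow_mul, pow_two, heu, one_pow, one_mul] at h2
    have h3 : e * u = 1 := by simpa using h2.symm
    exact hd.u_notMem_E (by
      rw [show u = e⁻¹ by exact eq_inv_of_mul_eq_one_right h3]; exact E.inv_mem heE)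
  -- `w` is generated by its two parts
  let N : Subgroup G := normalizer (Q : Set G)
  have hN : ∀ {z}, (∀ g ∈ Q, z * g * z⁻¹ ∈ Q) → z ∈ N := fun hz =>
    Cfsg.Agent.H39.mem_normalizer_of_conj_mem hz
  have hco : Nat.Coprime (2 ^ v) (d / 2 ^ v) :=
    (Nat.prime_two.coprime_iff_not_dvd.mpr hdm).pow_left v
  have hsplitw : w = o ^ Nat.gcdA (2 ^ v) (d / 2 ^ v) * t ^ Nat.gcdB (2 ^ v) (d / 2 ^ v) := by
    have h1 := Nat.gcd_eq_gcd_ab (2 ^ v) (d / 2 ^ v)
    rw [hco.gcd_eq_one] at h1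
    rw [ho, ht, ← zpow_natCast w, ← zpow_natCast w, ← zpow_mul, ← zpow_mul, ← zpow_add, ← h1]
    simp
  have hwN : w ∈ N := by
    rw [hsplitw]
    exact N.mul_mem (N.zpow_mem (hN hoQ) _) (N.zpow_mem (hN htQ) _)
  exact (mem_normalizer_iff.mp hwN q).mp hq

/-- One step of the climb. -/
theorem exists_step {M Q E A X : Subgroup G} {u : G} (hd : ShapeData M Q E A u)
    (hs : Squaring Q E) (hcyc : IsCyclic A) (hMX : M ≤ X)
    (hXE : ∀ e ∈ E, ∀ g ∈ X, Commute e g) (hAX : A ≤ normalizer (X : Set G))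
    (hT : MaxTwo (X ⊓ centralizer ({u} : Set G)) (Q ⊔ zpowers u)) (horbit : OrbitAt X M u)
    (hM : ¬ MaxTwo X M) :
    ∃ P B : Subgroup G, M < P ∧ P ≤ X ∧ IsCyclic B ∧ B ≤ A ⊔ X ∧ ShapeData P Q E B u := by
  classical
  haveI : Fact (Nat.Prime 2) := ⟨Nat.prime_two⟩
  set L := X ⊓ normalizer (M : Set G) with hL
  -- a larger Sylow subgroup of `L`
  obtain ⟨P₀, hMP₀, hP₀⟩ := exists_maxTwo_ge hd.two hMX
  have hne : M.subgroupOf P₀ ≠ ⊤ := fun e => hM
    ((le_antisymm hMP₀ (subgroupOf_eq_top.mp e)) ▸ hP₀)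
  obtain ⟨g, hg, hgn⟩ := SetLike.exists_of_lt (PGroups.lt_normalizer hP₀.1 hne)
  have hgN : (g : G) ∈ normalizer (M : Set G) := by
    refine mem_normalizer_iff.mpr fun z => ?_
    constructor
    · intro hz
      exact (mem_normalizer_iff.mp hg ⟨z, hMP₀ hz⟩).mp hz
    · intro hz
      have h1 := (mem_normalizer_iff.mp (inv_mem hg) ⟨_, hMP₀ hz⟩).mp hz
      have h2 : (g : G)⁻¹ * ((g : G) * z * (g : G)⁻¹) * (g : G)⁻¹⁻¹ ∈ M := h1
      rwa [show (g : G)⁻¹ * ((g : G) * z * (g : G)⁻¹) * (g : G)⁻¹⁻¹ = z by group] at h2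
  obtain ⟨P, hP', hP⟩ := exists_maxTwo_ge (K := L) (W := P₀ ⊓ normalizer (M : Set G))
    (hP₀.1.to_le inf_le_left) fun z hz => ⟨hP₀.2.1 hz.1, hz.2⟩
  have hMP : M ≤ P := le_trans (le_inf hMP₀ le_normalizer) hP'
  have hlt : M < P := lt_of_le_of_ne hMP fun e =>
    hgn (show (g : G) ∈ M from e ▸ hP' ⟨g.2, hgN⟩)
  -- a generator
  obtain ⟨⟨a, ha⟩, hga⟩ := hcyc.exists_generator
  have hgen : ∀ c ∈ A, c ∈ zpowers a := fun c hc => by
    obtain ⟨i, hi⟩ := mem_zpowers_iff.mp (hga ⟨c, hc⟩)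
    exact ⟨i, by simpa using congrArg Subtype.val hi⟩
  have haodd : Odd (orderOf a) := hd.odd.of_dvd_nat (Subgroup.orderOf_dvd_natCard A ha)
  have hau : Commute a u := mul_inv_eq_iff_eq_mul.mp (hd.fix a ha)
  have haL : a ∈ normalizer (L : Set G) := by
    refine mem_normalizer_iff.mpr fun z => ?_
    rw [mem_inf, mem_inf]
    refine and_congr (mem_normalizer_iff.mp (hAX ha) z) ⟨fun hz => ?_, fun hz => ?_⟩
    · exact mul_mem (mul_mem (hd.normM ha) hz) (inv_mem (hd.normM ha))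
    · have := mul_mem (mul_mem (inv_mem (hd.normM ha)) hz) (hd.normM ha)
      simpa [mul_assoc] using this
  have hPa : MaxTwo L (P.map (MulAut.conj a).toMonoidHom) := by
    refine ⟨hP.1.map _, ?_, fun P' h1 h2 h3 => ?_⟩
    · rintro _ ⟨z, hz, rfl⟩
      exact (mem_normalizer_iff.mp haL z).mp (hP.2.1 hz)
    · have h4 := hP.2.2 (P'.map (MulAut.conj a⁻¹).toMonoidHom) (h1.map _) (by
        rintro _ ⟨z, hz, rfl⟩
        exact (mem_normalizer_iff.mp (inv_mem haL) z).mp (h2 hz)) (by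
        intro z hz
        refine ⟨a * z * a⁻¹, h3 ⟨z, hz, rfl⟩, ?_⟩
        simp [mul_assoc])
      rw [← h4, Subgroup.map_map]
      convert (Subgroup.map_id P').symm using 2
      ext z; simp [mul_assoc]
  obtain ⟨l, hl, hlP⟩ := hPa.exists_conj hP
  obtain ⟨p, hp, hcu⟩ := horbit P hP hMP l hl
  set c := p * l with hc
  have hcL : c ∈ L := L.mul_mem (hP.2.1 hp) hl
  set b0 := c * a with hb0
  have hb0u : Commute b0 u := hcu.mul_left hau
  have hb0P : b0 ∈ normalizer (P : Set G) := by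
    have hla : l * a ∈ normalizer (P : Set G) := by
      refine Coprime.mem_normalizer_of_map_conj (eq_of_le_of_card_ge ?_ (by
        rw [Subgroup.card_map_of_injective (f := (MulAut.conj (l * a)).toMonoidHom)
          (MulAut.conj (l * a)).injective]))
      rintro _ ⟨z, hz, rfl⟩
      have h1 := (hlP (a * z * a⁻¹)).mp ⟨z, hz, rfl⟩
      show l * a * z * (l * a)⁻¹ ∈ P
      convert h1 using 1
      group
    rw [hb0, hc, mul_assoc]
    exact mul_mem (le_normalizer hp) hla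
  have haE : ∀ e ∈ E, a * e * a⁻¹ ∈ E := fun e he => (mem_normalizer_iff.mp (hd.normE ha) e).mp he
  have hb0act : ∀ e ∈ E, a * e * a⁻¹ = b0 * e * b0⁻¹ := fun e he => by
    rw [hb0, show c * a * e * (c * a)⁻¹ = c * (a * e * a⁻¹) * c⁻¹ by group,
      ← (hXE _ (haE e he) c (mem_inf.mp hcL).1).eq, mul_inv_cancel_right]
  obtain ⟨v, hv⟩ := exists_odd_pow b0
  set n := 2 ^ v with hn
  set b := b0 ^ n with hb
  have hbu : Commute b u := hb0u.pow_left n
  have hbP : b ∈ normalizer (P : Set G) := pow_mem hb0P n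
  -- `b` differs from a power of `a` by an element of `X`
  have hb0n : ∀ i : ℕ, b0 ^ i * (a ^ i)⁻¹ ∈ X := by
    intro i
    induction i with
    | zero => simp
    | succ i ih =>
      rw [show b0 ^ (i + 1) * (a ^ (i + 1))⁻¹ = c * (a * (b0 ^ i * (a ^ i)⁻¹) * a⁻¹) by
        rw [pow_succ', pow_succ', hb0]; group]
      exact X.mul_mem (mem_inf.mp hcL).1 ((mem_normalizer_iff.mp (hAX ha) _).mp ih)
  set w := b * (a ^ n)⁻¹ with hw
  have hwX : w ∈ X := hb0n n
  have hwu : Commute w u := hbu.mul_left (hau.pow_left n).inv_left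
  set V := Q ⊔ zpowers u with hV
  have hcentP : ∀ z ∈ P, Commute z u → z ∈ V := by
    intro z hz hzu
    have hVP : V ≤ P ⊓ centralizer ({u} : Set G) :=
      le_inf ((sup_le hd.le (zpowers_le.mpr hd.u_mem)).trans hMP)
        (fun y hy => (mem_inf.mp (hT.2.1 hy)).2)
    have h1 := hT.2.2 (P ⊓ centralizer ({u} : Set G)) (hP.1.to_le inf_le_left)
      (inf_le_inf_right _ (hP.2.1.trans inf_le_left)) hVP
    rw [← h1]
    exact mem_inf.mpr ⟨hz, mem_centralizer_singleton_iff.mpr hzu.eq⟩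
  have hbV : b ∈ normalizer (V : Set G) := by
    refine Cfsg.Agent.H39.mem_normalizer_of_conj_mem fun z hz => ?_
    have hzM : z ∈ M := (sup_le hd.le (zpowers_le.mpr hd.u_mem)) hz
    have hzu : Commute z u := mem_centralizer_singleton_iff.mp (mem_inf.mp (hT.2.1 hz)).2
    exact hcentP _ ((mem_normalizer_iff.mp hbP z).mp (hMP hzM))
      ((hbu.mul_left hzu).mul_left hbu.inv_left)
  have haV : a ∈ normalizer (V : Set G) := by
    refine Coprime.mem_normalizer_of_map_conj ?_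
    rw [hV, Subgroup.map_sup, Coprime.map_conj_eq (hd.normQ ha), MonoidHom.map_zpowers]
    simp [hau.eq]
  have hwV : w ∈ normalizer (V : Set G) := mul_mem hbV (inv_mem (pow_mem haV n))
  have hbQ : b ∈ normalizer (Q : Set G) := by
    refine Cfsg.Agent.H39.mem_normalizer_of_conj_mem fun q hq => ?_
    have h1 := (mem_normalizer_iff.mp (pow_mem (hd.normQ ha) n) q).mp hq
    have h2 := conj_mem_Q_of_squaring hd hs hXE hT hwX hwu hwV h1
    rwa [show w * (a ^ n * q * (a ^ n)⁻¹) * w⁻¹ = b * q * b⁻¹ by rw [hw]; group] at h2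
  have hbE : b ∈ normalizer (E : Set G) := by
    refine Cfsg.Agent.H39.mem_normalizer_of_conj_mem fun e he => ?_
    have h1 := conj_pow_eq_of_conj_eq hb0act haE n e he
    rw [hb, ← h1.1]
    exact h1.2
  have hbAX : b ∈ A ⊔ X := by
    rw [show b = w * a ^ n by rw [hw, inv_mul_cancel_right]]
    exact mul_mem (mem_sup_right hwX) (mem_sup_left (pow_mem ha n))
  refine ⟨P, zpowers b, hlt, hP.2.1.trans inf_le_left, inferInstance, zpowers_le.mpr hbAX,
    { two := hP.1
      u_mem := hMP hd.u_mem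
      sq_u := hd.sq_u
      u_notMem := hd.u_notMem
      comm := fun x y => by
        letI : CommGroup (zpowers b) := IsCyclic.commGroup
        exact mul_comm x y
      odd := by rw [Nat.card_zpowers]; exact hv
      fix := fun x hx => by
        obtain ⟨i, rfl⟩ := mem_zpowers_iff.mp hx
        rw [(hbu.zpow_left i).eq, mul_inv_cancel_right]
      normM := zpowers_le.mpr hbP
      normE := zpowers_le.mpr hbE
      normQ := zpowers_le.mpr hbQ
      le_E := hd.le_E
      le := hd.le.trans hMP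
      central := fun e he z hz => hXE e he z (hP.2.1 hz).1
      sq := hd.sq
      four_le := hd.four_le
      trans := trans_of_same_action haodd haE hb0act (fun e he he1 e' he' he'1 => by
        obtain ⟨k, hk, hke⟩ := hd.trans e he he1 e' he' he'1
        exact ⟨k, hgen k hk, hke⟩) v
      commute := hd.commute
      omega := hd.omega
      sq_mem := hd.sq_mem
      comm_mem := hd.comm_mem
      cent := fun z hz hzu => hd.cent z ((sup_le hd.le (zpowers_le.mpr hd.u_mem))
        (hcentP z hz hzu)) hzu }⟩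

/-- **The climb.** -/
theorem exists_chain {M₀ Q E A₀ X : Subgroup G} {u : G} (hd : ShapeData M₀ Q E A₀ u)
    (hs : Squaring Q E) (hcyc : IsCyclic A₀) (hMX : M₀ ≤ X)
    (hXE : ∀ e ∈ E, ∀ g ∈ X, Commute e g) (hAX : A₀ ≤ normalizer (X : Set G))
    (hT : MaxTwo (X ⊓ centralizer ({u} : Set G)) (Q ⊔ zpowers u))
    (horbit : ∀ M A : Subgroup G, ShapeData M Q E A u → M ≤ X → A ≤ normalizer (X : Set G) →
      OrbitAt X M u) :
    ∃ R A : Subgroup G, MaxTwo X R ∧ IsCyclic A ∧ A ≤ A₀ ⊔ X ∧ ShapeData R Q E A u := by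
  classical
  obtain ⟨R, ⟨A, hRX, hA, hle, hR⟩, hmax⟩ := Set.Finite.exists_maximalFor id
    {M : Subgroup G | ∃ A : Subgroup G, M ≤ X ∧ IsCyclic A ∧ A ≤ A₀ ⊔ X ∧ ShapeData M Q E A u}
    (Set.toFinite _) ⟨M₀, A₀, hMX, hcyc, le_sup_left, hd⟩
  refine ⟨R, A, ?_, hA, hle, hR⟩
  by_contra hn
  have hAXn : A ≤ normalizer (X : Set G) := hle.trans (sup_le hAX le_normalizer)
  obtain ⟨P, B, hlt, hPX, hB, hBle, hdP⟩ :=
    exists_step hR hs hA hRX hXE hAXn hT (horbit R A hR hRX hAXn) hn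
  exact hlt.not_ge (hmax ⟨B, hPX, hB, hBle.trans (sup_le hle le_sup_right), hdP⟩ hlt.le)

end Cfsg.Agent.H29.Asch
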