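import Cfsg.Agent.H29.Asch.ShapeConj
import Cfsg.Agent.H51.Asch.Climb

/-!
A conjugate of `u` centralising `E` at `x` is good: some element normalising `E` takes it to `u` and
the part of a two-group centralising it into `Q⟨u⟩`.
-/

set_option autoImplicit false
set_option linter.style.haveILetI false

namespace Cfsg.Agent.H29.Asch

open Subgroup MulAction
open Cfsg.Agent.H14.Asch
open Cfsg.Agent.H73.Asch (Line2)
open Cfsg.Agent.H51.Asch (coreStab mem_coreStab MaxTwo exists_maxTwo_ge)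

universe u v

variable {G : Type u} [Group G] [Finite G] {Ω : Type v} [MulAction G Ω] [Finite Ω] {D : Set G}

/-- Every conjugate of `u` centralising `E` at `x` is good. -/
theorem exists_good (h : Crit G Ω D) {u : G} {x : Ω} {E Q : Subgroup G} (hl : Line2 D u x E Q)
    (hT : MaxTwo (coreStab x E ⊓ centralizer ({u} : Set G)) (Q ⊔ zpowers u)) {g₀ : G}
    (hv : g₀ * u * g₀⁻¹ ∈ coreStab x E) {M : Subgroup G} (hM : IsPGroup 2 M)
    (hMX : M ≤ coreStab x E) :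
    ∃ t : G, t * (g₀ * u * g₀⁻¹) * t⁻¹ = u ∧ t ∈ normalizer (E : Set G) ∧
      ∀ m ∈ M, Commute m (g₀ * u * g₀⁻¹) → t * m * t⁻¹ ∈ Q ⊔ zpowers u := by
  obtain ⟨k, hk, hkv⟩ := exists_norm_conj h hl hv
  obtain ⟨hkx, hkE⟩ := mem_inf.mp hk
  rw [hkv]
  set W := (M ⊓ centralizer ({k * u * k⁻¹} : Set G)).map (MulAut.conj k⁻¹).toMonoidHom with hW
  have hWX : W ≤ coreStab x E ⊓ centralizer ({u} : Set G) := by
    rintro _ ⟨m, hm, rfl⟩
    obtain ⟨hmM, hmv⟩ := mem_inf.mp hm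
    refine mem_inf.mpr ⟨H51.Asch.conj_mem_coreStab (inv_smul_eq_iff.mpr
      (mem_stabilizer_iff.mp hkx).symm) (inv_mem hkE) (hMX hmM),
      mem_centralizer_singleton_iff.mpr ?_⟩
    have h1 := H14.Asch.commute_conj
      (mem_centralizer_singleton_iff.mp hmv : Commute m (k * u * k⁻¹)) k⁻¹
    rw [show k⁻¹ * (k * u * k⁻¹) * k⁻¹⁻¹ = u by group] at h1
    exact h1.eq
  obtain ⟨P, hle, hP⟩ := exists_maxTwo_ge ((hM.to_le inf_le_left).map _) hWX
  obtain ⟨c, hc, hcP⟩ := hP.exists_conj hT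
  obtain ⟨hcX, hcu⟩ := mem_inf.mp hc
  refine ⟨c * k⁻¹, ?_, mul_mem ?_ (inv_mem hkE), fun m hm hmv => ?_⟩
  · rw [show c * k⁻¹ * (k * u * k⁻¹) * (c * k⁻¹)⁻¹ = c * u * c⁻¹ by group,
      mem_centralizer_singleton_iff.mp hcu, mul_inv_cancel_right]
  · exact Cfsg.Agent.H39.mem_normalizer_of_conj_mem fun e he => by
      rwa [← ((mem_coreStab.mp hcX).2 e he).eq, mul_inv_cancel_right]
  · have h1 := (hcP (k⁻¹ * m * k)).mp (hle ⟨m, mem_inf.mpr
      ⟨hm, mem_centralizer_singleton_iff.mpr hmv.eq⟩, by simp⟩)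
    rwa [show c * (k⁻¹ * m * k) * c⁻¹ = c * k⁻¹ * m * (c * k⁻¹)⁻¹ by group] at h1

end Cfsg.Agent.H29.Asch
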