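import Cfsg.Agent.H14.Asch.ShapesBase
import Cfsg.Agent.H51.Asch.Climb

/-!
The kill for one layer (notes/helper14_shapes.md, 4): with `R / E` elementary and the classes of `u`
fixed modulo `E` in the normaliser of a Sylow subgroup, no conjugate of `u` lies in `⁅R, A⁆`.
-/

set_option autoImplicit false
set_option linter.style.haveILetI false

namespace Cfsg.Agent.H29.Asch

open Subgroup
open Cfsg.Agent.H14.Asch (ShapeData)
open Cfsg.Agent.H51.Asch (MaxTwo exists_maxTwo_ge card_le_centralized_mul nxt comm_mem_nxt)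
open scoped commutatorElement

universe u

variable {G : Type u} [Group G] [Finite G]

theorem maxTwo_card_le {K P W : Subgroup G} (h : MaxTwo K P) (hW : IsPGroup 2 W) (hWK : W ≤ K) :
    Nat.card W ≤ Nat.card P := by
  obtain ⟨P', hle, hP'⟩ := exists_maxTwo_ge hW hWK
  obtain ⟨k, -, hkP⟩ := hP'.exists_conj h
  exact Nat.card_le_card_of_injective (fun g : W => (⟨k * g * k⁻¹, (hkP g).mp (hle g.2)⟩ : P))
    fun a b e => Subtype.ext (by simpa using congrArg Subtype.val e)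

/-- One layer: `|⁅R, A⁆| ≥ |Q| |E|` unless it is `Q`. -/
theorem card_mul_le_commutator {R Q E A : Subgroup G} {u : G} (hd : ShapeData R Q E A u)
    (hu : u ∉ ⁅R, A⁆) (hnxt : nxt R R ≤ E) (hne : ¬ (⁅R, A⁆ : Subgroup G) ≤ Q) :
    Nat.card Q * Nat.card E ≤ Nat.card (⁅R, A⁆ : Subgroup G) := by
  classical
  set K : Subgroup G := ⁅R, A⁆ with hK
  obtain ⟨g₀, hg₀, hg₀Q⟩ := SetLike.not_le_iff_exists.mp hne
  have hmem : ∀ g ∈ K, ⁅g, u⁆ ∈ E := fun g hg =>
    hnxt (comm_mem_nxt (hd.commutator_le hg) hd.u_mem)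
  have he₀ : ⁅g₀, u⁆ ≠ 1 := fun e => hg₀Q (hd.mem_Q_of_commute hu hg₀
    (commutatorElement_eq_one_iff_commute.mp e))
  have hall : ∀ e ∈ E, ∃ g ∈ K, ⁅g, u⁆ = e := by
    intro e he
    by_cases he1 : e = 1
    · exact ⟨1, K.one_mem, by rw [he1, commutatorElement_one_left]⟩
    obtain ⟨a, ha, hae⟩ := hd.trans _ (hmem g₀ hg₀) he₀ e he he1
    refine ⟨a * g₀ * a⁻¹, (mem_normalizer_iff.mp (hd.normA_commutator ha) g₀).mp hg₀, ?_⟩
    rw [← hae, commutatorElement_def, commutatorElement_def]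
    calc a * g₀ * a⁻¹ * u * (a * g₀ * a⁻¹)⁻¹ * u⁻¹
        = a * g₀ * (a⁻¹ * u * a) * g₀⁻¹ * a⁻¹ * u⁻¹ := by group
      _ = a * (g₀ * u * g₀⁻¹ * u⁻¹) * a⁻¹ * ((a * u * a⁻¹) * u⁻¹) := by
          rw [show a⁻¹ * u * a = u by
            rw [mul_assoc, ← (hd.commute_A ha).eq, inv_mul_cancel_left]]
          group
      _ = _ := by rw [hd.fix a ha, mul_inv_cancel, mul_one]
  choose r hrK hr using fun e : E => hall e e.2
  rw [← Nat.card_prod]
  refine Nat.card_le_card_of_injective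
    (fun p : Q × E => (⟨r p.2 * p.1, K.mul_mem (hrK p.2) (hd.Q_le_commutator p.1.2)⟩ : K))
    fun p p' hp => ?_
  have h0 : r p.2 * (p.1 : G) = r p'.2 * p'.1 := congrArg Subtype.val hp
  have hc : ∀ (e : E) (q : Q), ⁅r e * (q : G), u⁆ = e := fun e q => by
    rw [← hr e, commutatorElement_def, commutatorElement_def]
    calc r e * q * u * (r e * q)⁻¹ * u⁻¹ = r e * ((q : G) * u * (q : G)⁻¹) * (r e)⁻¹ * u⁻¹ := by
          group
      _ = _ := by rw [(hd.commute q q.2).eq, mul_inv_cancel_right]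
  have h1 : p.2 = p'.2 := Subtype.ext (by rw [← hc p.2 p.1, ← hc p'.2 p'.1, h0])
  rw [h1] at h0
  exact Prod.ext (Subtype.ext (mul_left_cancel h0)) h1

/-- **One layer**: no `X`-conjugate of `u` lies in `⁅R, A⁆`. -/
theorem false_of_one_layer {R Q E A X : Subgroup G} {u : G} (hd : ShapeData R Q E A u)
    (hu : u ∉ ⁅R, A⁆) (hnxt : nxt R R ≤ E) (hXE : ∀ e ∈ E, ∀ g ∈ X, Commute e g)
    (hR : MaxTwo X R) (hT : MaxTwo (X ⊓ centralizer ({u} : Set G)) (Q ⊔ zpowers u))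
    (hfixed : ∀ l ∈ X ⊓ normalizer (R : Set G), l * u * l⁻¹ * u ∈ nxt R R) {c : G} (hcX : c ∈ X)
    (hv : c * u * c⁻¹ ∈ (⁅R, A⁆ : Subgroup G)) : False := by
  classical
  haveI : Fact (Nat.Prime 2) := ⟨Nat.prime_two⟩
  set v := c * u * c⁻¹ with hvdef
  have hvR : v ∈ R := hd.commutator_le hv
  have hvv : v * v = 1 := by
    rw [hvdef, show c * u * c⁻¹ * (c * u * c⁻¹) = c * (u * u) * c⁻¹ by group, hd.sq_u]; group
  have hvE : v ∉ E := fun he => hd.u_notMem_E (by
    have h1 : u = v := by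
      calc u = c⁻¹ * v * c := by rw [hvdef]; group
        _ = v := by rw [mul_assoc, (hXE v he c hcX).eq, inv_mul_cancel_left]
    rwa [h1])
  have hvQ : v ∉ Q := fun h => hvE (hd.omega v h hvv)
  have hne : ¬ (⁅R, A⁆ : Subgroup G) ≤ Q := fun h => hvQ (h hv)
  have hKcard := card_mul_le_commutator hd hu hnxt hne
  have hRcard := hd.card_eq_two_mul hu
  set W := R ⊓ centralizer ({v} : Set G) with hW
  have hWcard : 2 * Nat.card Q ≤ Nat.card W := by
    have h1 := (card_le_centralized_mul (K := R) (T := E) v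
      fun g hg => hnxt (comm_mem_nxt hg hvR)).1
    have h2 : 2 * (Nat.card Q * Nat.card E) ≤ Nat.card W * Nat.card E :=
      (Nat.mul_le_mul_left 2 hKcard).trans (hRcard ▸ h1)
    rw [← mul_assoc] at h2
    exact Nat.le_of_mul_le_mul_right h2 Nat.card_pos
  set V := Q ⊔ zpowers u with hV
  have hVle : Nat.card V ≤ 2 * Nat.card Q := by
    let f : V → Bool × Q := fun g =>
      if hg : (g : G) ∈ Q then (true, ⟨g, hg⟩) else (false, ⟨(g : G) * u,
        (hd.cent g ((sup_le hd.le (zpowers_le.mpr hd.u_mem)) g.2)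
          (mem_centralizer_singleton_iff.mp (mem_inf.mp (hT.2.1 g.2)).2)).resolve_left hg⟩)
    have hf : Function.Injective f := by
      intro g g' e
      simp only [f] at e
      split_ifs at e with h1 h2 h2 <;> simp at e
      · exact e
      · exact e
    have := Nat.card_le_card_of_injective f hf
    rwa [Nat.card_prod, Nat.card_eq_fintype_card (α := Bool), Fintype.card_bool] at this
  -- the Sylow subgroup `c V c⁻¹` of `X ∩ C(v)`
  have hcv : ∀ {c' : G}, c' ∈ X → c' * u * c'⁻¹ = v →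
      MaxTwo (X ⊓ centralizer ({v} : Set G)) (V.map (MulAut.conj c').toMonoidHom) := by
    intro c' hc' hcu'
    refine ⟨hT.1.map _, ?_, fun P' h1 h2 h3 => ?_⟩
    · rintro _ ⟨g, hg, rfl⟩
      obtain ⟨hgX, hgu⟩ := mem_inf.mp (hT.2.1 hg)
      have h4 := H14.Asch.commute_conj (mem_centralizer_singleton_iff.mp hgu : Commute g u) c'
      rw [hcu'] at h4
      exact mem_inf.mpr ⟨X.mul_mem (X.mul_mem hc' hgX) (X.inv_mem hc'),
        mem_centralizer_singleton_iff.mpr h4.eq⟩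
    · have h4 := hT.2.2 (P'.map (MulAut.conj c'⁻¹).toMonoidHom) (h1.map _) (by
        rintro _ ⟨z, hz, rfl⟩
        obtain ⟨hzX, hzv⟩ := mem_inf.mp (h2 hz)
        have h5 := H14.Asch.commute_conj (mem_centralizer_singleton_iff.mp hzv : Commute z v) c'⁻¹
        rw [← hcu', show c'⁻¹ * (c' * u * c'⁻¹) * c'⁻¹⁻¹ = u by group] at h5
        exact mem_inf.mpr ⟨X.mul_mem (X.mul_mem (X.inv_mem hc') hzX) (X.inv_mem (X.inv_mem hc')),
          mem_centralizer_singleton_iff.mpr h5.eq⟩) (by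
        intro z hz
        refine ⟨c' * z * c'⁻¹, h3 ⟨z, hz, rfl⟩, ?_⟩
        simp [mul_assoc])
      rw [← h4, Subgroup.map_map]
      convert (Subgroup.map_id P').symm using 2
      ext z; simp [mul_assoc]
  have hVc := hcv hcX rfl
  have hWle : W ≤ X ⊓ centralizer ({v} : Set G) := inf_le_inf_right _ hR.2.1
  obtain ⟨P', hWP', hP'⟩ := exists_maxTwo_ge (hd.two.to_le inf_le_left) hWle
  have hWeq : W = P' := eq_of_le_of_card_ge hWP' (by
    have h1 := maxTwo_card_le hVc hP'.1 hP'.2.1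
    rw [Subgroup.card_map_of_injective (f := (MulAut.conj c).toMonoidHom)
      (MulAut.conj c).injective] at h1
    omega)
  have hWmax : MaxTwo (X ⊓ centralizer ({v} : Set G)) W := hWeq ▸ hP'
  obtain ⟨c', hc', hc'W⟩ := hVc.exists_conj hWmax
  obtain ⟨hc'X, hc'v⟩ := mem_inf.mp hc'
  set c₁ := c' * c with hc₁
  have hc₁X : c₁ ∈ X := X.mul_mem hc'X hcX
  have hc₁v : c₁ * u * c₁⁻¹ = v := by
    rw [hc₁, show c' * c * u * (c' * c)⁻¹ = c' * (c * u * c⁻¹) * c'⁻¹ by group, ← hvdef,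
      mem_centralizer_singleton_iff.mp hc'v, mul_inv_cancel_right]
  have hVW : ∀ g, g ∈ V ↔ c₁ * g * c₁⁻¹ ∈ W := by
    intro g
    have hiff := hc'W (c * g * c⁻¹)
    rw [show c' * (c * g * c⁻¹) * c'⁻¹ = c₁ * g * c₁⁻¹ by rw [hc₁]; group] at hiff
    rw [← hiff]
    refine ⟨fun hg => ⟨g, hg, rfl⟩, fun ⟨g', hg', e⟩ => ?_⟩
    have : g' = g := by simpa using e
    exact this ▸ hg'
  -- both Sylow subgroups normalise `W`
  have hnormal : ∀ S : Subgroup G, E ≤ S → S ≤ R → R ≤ normalizer (S : Set G) :=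
    fun S hES hSR g hg => Cfsg.Agent.H39.mem_normalizer_of_conj_mem fun z hz => by
      rw [show g * z * g⁻¹ = ⁅g, z⁆ * z by rw [commutatorElement_def, inv_mul_cancel_right]]
      exact S.mul_mem (hES (hnxt (comm_mem_nxt hg (hSR hz)))) hz
  have hEW : E ≤ W := fun e he => mem_inf.mpr ⟨hd.le_M he,
    mem_centralizer_singleton_iff.mpr (hd.central e he v hvR).eq⟩
  have hRW : R ≤ normalizer (W : Set G) := hnormal W hEW inf_le_left
  have hRV : R ≤ normalizer (V : Set G) := hnormal V (hd.le_E.trans le_sup_left)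
    (sup_le hd.le (zpowers_le.mpr hd.u_mem))
  set R₁ := R.map (MulAut.conj c₁).toMonoidHom with hR₁
  have hR₁W : R₁ ≤ normalizer (W : Set G) := by
    rintro _ ⟨g, hg, rfl⟩
    refine Cfsg.Agent.H39.mem_normalizer_of_conj_mem fun z hz => ?_
    have hz' : c₁⁻¹ * z * c₁ ∈ V := (hVW _).mpr (by simpa [mul_assoc] using hz)
    have h1 := (hVW _).mp ((mem_normalizer_iff.mp (hRV hg) _).mp hz')
    show c₁ * g * c₁⁻¹ * z * (c₁ * g * c₁⁻¹)⁻¹ ∈ W
    convert h1 using 1
    group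
  set L := X ⊓ normalizer (W : Set G) with hL
  have hRmax : MaxTwo L R :=
    ⟨hR.1, le_inf hR.2.1 hRW, fun P' h1 h2 h3 => hR.2.2 P' h1 (h2.trans inf_le_left) h3⟩
  have hR₁max : MaxTwo L R₁ := by
    refine ⟨hR.1.map _, le_inf ?_ hR₁W, fun P'' h1 h2 h3 => (eq_of_le_of_card_ge h3 ?_).symm⟩
    · rintro _ ⟨g, hg, rfl⟩
      exact X.mul_mem (X.mul_mem hc₁X (hR.2.1 hg)) (X.inv_mem hc₁X)
    · rw [hR₁, Subgroup.card_map_of_injective (f := (MulAut.conj c₁).toMonoidHom)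
        (MulAut.conj c₁).injective]
      exact maxTwo_card_le hR h1 (h2.trans inf_le_left)
  obtain ⟨d, hdL, hdR⟩ := hR₁max.exists_conj hRmax
  obtain ⟨hdX, hdW⟩ := mem_inf.mp hdL
  have hdc : d * c₁ ∈ X ⊓ normalizer (R : Set G) := by
    refine mem_inf.mpr ⟨X.mul_mem hdX hc₁X, Coprime.mem_normalizer_of_map_conj
      (eq_of_le_of_card_ge ?_ (by
        rw [Subgroup.card_map_of_injective (f := (MulAut.conj (d * c₁)).toMonoidHom)
          (MulAut.conj (d * c₁)).injective]))⟩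
    rintro _ ⟨g, hg, rfl⟩
    have h1 := (hdR (c₁ * g * c₁⁻¹)).mp ⟨g, hg, rfl⟩
    show d * c₁ * g * (d * c₁)⁻¹ ∈ R
    convert h1 using 1
    group
  have h1 := hnxt (hfixed _ hdc)
  rw [show d * c₁ * u * (d * c₁)⁻¹ = d * (c₁ * u * c₁⁻¹) * d⁻¹ by group, hc₁v] at h1
  set e := d * v * d⁻¹ * u with he
  have hdv : d * v * d⁻¹ ∈ W := (mem_normalizer_iff.mp hdW v).mp
    (mem_inf.mpr ⟨hvR, mem_centralizer_singleton_iff.mpr rfl⟩)
  have hdve : d * v * d⁻¹ = e * u := by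
    rw [he, mul_assoc (d * v * d⁻¹) u u, hd.sq_u, mul_one]
  rw [hdve] at hdv
  have huv : Commute u v := by
    have h2 : Commute (e * u) v := mem_centralizer_singleton_iff.mp (mem_inf.mp hdv).2
    have h3 := (hd.central e h1 v hvR).inv_left.mul_left h2
    rwa [inv_mul_cancel_left] at h3
  exact hvQ (hd.mem_Q_of_commute hu hv huv.symm)

end Cfsg.Agent.H29.Asch
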