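import Cfsg.Agent.H14.Asch.ShapesLayers
import Cfsg.Agent.H14.Asch.ShapesQuot
import Cfsg.Agent.H29.Asch.ShapeGood
import Cfsg.Agent.H29.Asch.ShapeLayer

/-!
At the top of the climb for a line of shape two, no conjugate of `u` lies in `⁅R, A⁆`.
-/

set_option autoImplicit false
set_option linter.style.haveILetI false

namespace Cfsg.Agent.H29.Asch

open Subgroup MulAction
open Cfsg.Agent.H14.Asch
open Cfsg.Agent.H73.Asch (Line2)
open Cfsg.Agent.H51.Asch (coreStab mem_coreStab MaxTwo nxt)
open scoped commutatorElement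

universe u v

variable {G : Type u} [Group G]

/-- An element of `Q⟨u⟩` is in `Q` or in the coset of `u`. -/
theorem mem_or_mul_mem_base {M Q E A : Subgroup G} {u : G} (hd : ShapeData M Q E A u) {g : G}
    (hg : g ∈ Q ⊔ zpowers u) : g ∈ Q ∨ g * u ∈ Q := by
  refine hd.cent g ((sup_le hd.le (zpowers_le.mpr hd.u_mem)) hg) ?_
  have h1 : Q ⊔ zpowers u ≤ centralizer ({u} : Set G) := sup_le
    (fun q hq => mem_centralizer_singleton_iff.mpr (hd.commute q hq).eq)
    (zpowers_le.mpr (mem_centralizer_singleton_iff.mpr rfl))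
  exact mem_centralizer_singleton_iff.mp (h1 hg)

theorem card_base_le [Finite G] {M Q E A : Subgroup G} {u : G} (hd : ShapeData M Q E A u) :
    Nat.card (Q ⊔ zpowers u : Subgroup G) ≤ 2 * Nat.card Q := by
  classical
  let f : (Q ⊔ zpowers u : Subgroup G) → Bool × Q := fun g =>
    if hgQ : (g : G) ∈ Q then (false, ⟨g, hgQ⟩)
    else (true, ⟨(g : G) * u, (mem_or_mul_mem_base hd g.2).resolve_left hgQ⟩)
  have hf : Function.Injective f := by
    intro g g' e
    by_cases hgQ : (g : G) ∈ Q <;> by_cases hgQ' : (g' : G) ∈ Q <;>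
      simp only [f, hgQ, hgQ', dif_pos, not_false_iff, dif_neg] at e
    · exact Subtype.ext (congrArg (fun p : Bool × Q => (p.2 : G)) e)
    · exact absurd (congrArg Prod.fst e) (by simp)
    · exact absurd (congrArg Prod.fst e) (by simp)
    · exact Subtype.ext (mul_right_cancel (congrArg (fun p : Bool × Q => (p.2 : G)) e))
  have h1 := Nat.card_le_card_of_injective f hf
  rwa [Nat.card_prod, Nat.card_eq_fintype_card (α := Bool), Fintype.card_bool] at h1

variable [Finite G] {Ω : Type v} [MulAction G Ω] [Finite Ω] {D : Set G}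

/-- At the top of the climb no conjugate of `u` lies in `⁅R, A⁆`. -/
theorem notMem_commutator_of_shapeTwo (h : Crit G Ω D) {u : G} {x : Ω} {E Q R A : Subgroup G}
    (hl : Line2 D u x E Q)
    (hT : MaxTwo (coreStab x E ⊓ centralizer ({u} : Set G)) (Q ⊔ zpowers u))
    (hd : ShapeData R Q E A u) (hs : Squaring Q E) (hQE : ¬ Q ≤ E)
    (hR : MaxTwo (coreStab x E) R)
    (hfixed : ∀ l ∈ coreStab x E ⊓ normalizer (R : Set G), l * u * l⁻¹ * u ∈ nxt R R)
    (hfused : ∀ g ∈ H6.Asch.normAt x E, ∃ c ∈ H6.Asch.centAt x E,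
      g * u * g⁻¹ = c * u * c⁻¹) (g : G) : g * u * g⁻¹ ∉ (⁅R, A⁆ : Subgroup G) := by
  intro hg
  have hRX : R ≤ coreStab x E := hR.2.1
  have hXE : ∀ e ∈ E, ∀ c ∈ coreStab x E, Commute e c := fun e he c hc =>
    (mem_coreStab.mp hc).2 e he
  have hu := hd.u_notMem_commutator (Or.inl hs)
  have hgR : g * u * g⁻¹ ∈ R := hd.commutator_le hg
  obtain ⟨c, hcX, hcv⟩ := exists_cent_conj h hl hfused (hRX hgR)
  by_cases hlay : u ∈ hd.zTwo
  · refine false_of_one_layer hd hu (hd.nxt_le_of_sq (hd.sq_mem_E_of_layer hs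
      (fun r hr => (hd.mem_zTwo.mp hlay).2 r hr))) hXE hR hT hfixed hcX ?_
    rwa [← hcv]
  set v := g * u * g⁻¹ with hv
  have hv2 : v * v = 1 := by
    rw [hv, show g * u * g⁻¹ * (g * u * g⁻¹) = g * (u * u) * g⁻¹ by group, hd.sq_u]; group
  have hvE : v ∉ E := by
    intro hvE
    apply hd.u_notMem_E
    have h1 : v * c = c * v := (hXE v hvE c hcX).eq
    have h2 : v = c * u * c⁻¹ := hcv
    have h3 : u = c⁻¹ * v * c := by rw [h2]; group
    rwa [h3, mul_assoc, h1, inv_mul_cancel_left]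
  obtain ⟨t, htv, htE, htC⟩ := exists_good h hl hT (hRX hgR) hd.two hRX
  by_cases hQX : Q ≤ hd.zTwo
  · refine hd.not_small_of_le_zTwo hs hQX hlay hg ?_
    let f : (⁅R, A⁆ ⊓ centralizer {v} : Subgroup G) → (Q ⊔ zpowers u : Subgroup G) := fun m =>
      ⟨t * m * t⁻¹, htC m (hd.commutator_le m.2.1)
        (mem_centralizer_singleton_iff.mp m.2.2)⟩
    have hf : Function.Injective f := fun m m' e => Subtype.ext
      (mul_left_cancel (mul_right_cancel (congrArg Subtype.val e)))
    exact (Nat.card_le_card_of_injective f hf).trans (card_base_le hd)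
  · refine hd.false_of_omega hs hQE hlay hQX hg hvE hv2 fun y hy hy2 hyv => ?_
    have hmem := htC y hy hyv
    have hback : ∀ z : G, t * z * t⁻¹ ∈ E → z ∈ E := fun z hz =>
      (mem_normalizer_iff.mp htE z).mpr hz
    rcases mem_or_mul_mem_base hd hmem with h1 | h1
    · refine Or.inl (hback y (hd.omega _ h1 ?_))
      rw [show t * y * t⁻¹ * (t * y * t⁻¹) = t * (y * y) * t⁻¹ by group, hy2]; group
    · refine Or.inr (hback _ ?_)
      have h2 : t * y * t⁻¹ * u = t * (y * v) * t⁻¹ := by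
        conv_lhs => rw [← htv]
        rw [hv]
        group
      rw [← h2]
      refine hd.omega _ h1 ?_
      rw [h2, show t * (y * v) * t⁻¹ * (t * (y * v) * t⁻¹) = t * (y * v * (y * v)) * t⁻¹ by group,
        show y * v * (y * v) = y * (v * y) * v by group, ← hyv.eq,
        show y * (y * v) * v = y * y * (v * v) by group, hy2, hv2]
      group

end Cfsg.Agent.H29.Asch
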