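import Cfsg.Agent.H14.Asch.ShapesGamma
import Cfsg.Agent.H26.Asch.ClassData
import Cfsg.Agent.H29.Asch.ShapeChain
import Cfsg.Agent.H29.Asch.ShapeClimb
import Cfsg.Agent.H29.Asch.ShapeNoConj

/-!
P4 for a line of shape two: the data of the kill, or the residue, from the orbit, fixed-point and
class statements.
-/

set_option autoImplicit false
set_option linter.style.haveILetI false

namespace Cfsg.Agent.H29.Asch

open Subgroup MulAction
open Cfsg.Agent.H14.Asch
open Cfsg.Agent.H73.Asch (Line2 RankOnePairs)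
open Cfsg.Agent.H51.Asch (coreStab mem_coreStab HasTranslation MaxTwo nxt)
open Cfsg.Agent.H26.Asch (ClassResidue)
open scoped commutatorElement

universe u v

variable {G : Type u} [Group G] [Finite G] {Ω : Type v} [MulAction G Ω] [Finite Ω] {D : Set G}

/-- The data of the kill, or the residue, for a line of shape two, from the orbit, fixed-point and
class statements. -/
theorem exists_chain_or_residue_of_orbit (h : Crit G Ω D) (hP : RankOnePairs (G := G) Ω) {u : G}
    {x y : Ω} {E Q : Subgroup G} (hl : Line2 D u x E Q) (hT : HasTranslation u x E)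
    (hy : u • y = y) (hyx : y ≠ x) (hs : Squaring Q E) (hQE : ¬ Q ≤ E)
    (horbit : ∀ M A : Subgroup G, ShapeData M Q E A u → M ≤ coreStab x E →
      A ≤ normalizer (coreStab x E : Set G) → OrbitAt (coreStab x E) M u)
    (hfixed : ∀ R A : Subgroup G, ShapeData R Q E A u →
      A ≤ normalizer (coreStab x E : Set G) → MaxTwo (coreStab x E) R →
      ∀ l ∈ coreStab x E ⊓ normalizer (R : Set G), l * u * l⁻¹ * u ∈ nxt R R)
    (hclass : ∀ A₀ R A : Subgroup G, A₀ ≤ lineGroup D u ⊓ pairStab G x y →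
      A₀ ≤ normalizer (E : Set G) → A₀ ≤ normalizer (coreStab x E : Set G) →
      A ≤ A₀ ⊔ coreStab x E → MaxTwo (coreStab x E) R → ShapeData R Q E A u →
      (∀ g ∈ H6.Asch.normAt x E, ∃ c ∈ H6.Asch.centAt x E, g * u * g⁻¹ = c * u * c⁻¹) ∨
        ∃ N : Subgroup G, ClassResidue u x E R ⁅R, A⁆ N A) :
    ∃ R K A : Subgroup G, H6.Asch.Chain u x y E R K A ∨
      ∃ N : Subgroup G, ClassResidue u x E R K N A := by
  obtain ⟨A₀, hA₀, hcyc, hA₀K, hd₀, -⟩ := exists_shapeBase h hP hl hT hy hyx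
  have hM := maxTwo_base h hP hl hT hy hyx
  obtain ⟨R, A, hR, -, hA, hd⟩ := exists_chain hd₀ hs hcyc (hM.2.1.trans inf_le_left)
    (fun e he g hg => (mem_coreStab.mp hg).2 e he) hA₀K hM horbit
  have hAK : A ≤ normalizer (coreStab x E : Set G) :=
    hA.trans (sup_le hA₀K (le_normalizer))
  refine ⟨R, ⁅R, A⁆, A, ?_⟩
  rcases hclass A₀ R A hA₀ hd₀.normE hA₀K hA hR hd with hf | hres
  · exact Or.inl (chain_of_shape h hP hl hT hy hyx hA₀ hd₀.normE hA₀K hR hA hd
      (hd.u_notMem_commutator (Or.inl hs))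
      (notMem_commutator_of_shapeTwo h hl hM hd hs hQE hR (hfixed R A hd hAK hR) hf) hf)
  · exact Or.inr hres

/-- The data of the kill, or the residue, for a line of shape two, from the class statement. -/
theorem exists_chain_or_residue_shapeTwo (h : Crit G Ω D) (hP : RankOnePairs (G := G) Ω) {u : G}
    {x y : Ω} {E Q : Subgroup G} (hl : Line2 D u x E Q) (hT : HasTranslation u x E)
    (hy : u • y = y) (hyx : y ≠ x) (hs : Squaring Q E) (hQE : ¬ Q ≤ E)
    (hclass : ∀ A₀ R A : Subgroup G, A₀ ≤ lineGroup D u ⊓ pairStab G x y →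
      A₀ ≤ normalizer (E : Set G) → A₀ ≤ normalizer (coreStab x E : Set G) →
      A ≤ A₀ ⊔ coreStab x E → MaxTwo (coreStab x E) R → ShapeData R Q E A u →
      (∀ g ∈ H6.Asch.normAt x E, ∃ c ∈ H6.Asch.centAt x E, g * u * g⁻¹ = c * u * c⁻¹) ∨
        ∃ N : Subgroup G, ClassResidue u x E R ⁅R, A⁆ N A) :
    ∃ R K A : Subgroup G, H6.Asch.Chain u x y E R K A ∨
      ∃ N : Subgroup G, ClassResidue u x E R K N A :=
  have hXE : ∀ e ∈ E, ∀ g ∈ coreStab x E, Commute e g := fun e he _ hg =>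
    (mem_coreStab.mp hg).2 e he
  have hM := maxTwo_base h hP hl hT hy hyx
  exists_chain_or_residue_of_orbit h hP hl hT hy hyx hs hQE
    (fun _ _ hd hMX hAX _ hP' hMP => hd.orbit hs hQE hMX hXE hAX hM hP' hMP)
    (fun _ _ hd hAX hR => hd.fixed hs hQE hR.2.1 hXE hAX hM hR) hclass

end Cfsg.Agent.H29.Asch
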