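import Cfsg.Agent.H29.Asch.ShapeBase
import Mathlib.GroupTheory.Transfer

/-!
An odd element of the torus centralising `E` and free on `Q`: no two-element at `x` and `y`
centralising `u` and `E` squares to `u`.
-/

set_option autoImplicit false
set_option linter.style.haveILetI false

namespace Cfsg.Agent.H29.Asch

open Subgroup MulAction
open Cfsg.Agent.H14.Asch
open Cfsg.Agent.H39 (mul_self_of_orderOf_eq_two orderOf_conj)
open Cfsg.Agent.H73.Asch (Line2)
open Cfsg.Agent.H51.Asch (coreStab mem_coreStab MaxTwo exists_maxTwo_ge)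
open scoped commutatorElement

universe u v

variable {G : Type u} [Group G] [Finite G] {Ω : Type v} [MulAction G Ω] [Finite Ω] {D : Set G}

omit [Finite Ω] in
/-- In a cyclic subgroup an element is a power of one of the same order. -/
theorem mem_zpowers_of_orderOf {A : Subgroup G} [IsCyclic A] {a c : G} (ha : a ∈ A) (hc : c ∈ A)
    (he : orderOf c = orderOf a) : c ∈ zpowers a := by
  classical
  letI := Fintype.ofFinite A
  set m := orderOf a with hm
  set S := Finset.univ.filter (fun z : A => z ^ m = 1) with hS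
  set T := Finset.univ.filter (fun z : A => (z : G) ∈ zpowers a) with hT
  have h1 : S.card ≤ m := IsCyclic.card_pow_eq_one_le (orderOf_pos a)
  have hsub : T ⊆ S := by
    intro z hz
    obtain ⟨i, hi⟩ := mem_zpowers_iff.mp (Finset.mem_filter.mp hz).2
    refine Finset.mem_filter.mpr ⟨Finset.mem_univ _, Subtype.ext ?_⟩
    push_cast
    rw [← hi, ← zpow_natCast, ← zpow_mul, mul_comm, zpow_mul, zpow_natCast, hm, pow_orderOf_eq_one,
      one_zpow]
  have h2 : m ≤ T.card := by
    rw [← Fintype.card_coe, ← Nat.card_eq_fintype_card, hm, ← Nat.card_zpowers]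
    exact Nat.card_le_card_of_injective
      (fun z : zpowers a => (⟨⟨z, zpowers_le.mpr ha z.2⟩, Finset.mem_filter.mpr
        ⟨Finset.mem_univ _, z.2⟩⟩ : T)) fun z z' e => Subtype.ext (congrArg (fun w : T => ((w : A) : G)) e)
  have hST := Finset.eq_of_subset_of_card_le hsub (h1.trans h2)
  have hcS : (⟨c, hc⟩ : A) ∈ S :=
    Finset.mem_filter.mpr ⟨Finset.mem_univ _, Subtype.ext (by
      push_cast; rw [← he, pow_orderOf_eq_one])⟩
  rw [← hST] at hcS
  exact (Finset.mem_filter.mp hcS).2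

omit [Finite Ω] in
/-- Some primary element among the powers still moves `Q`. -/
theorem exists_primary {Q : Subgroup G} {a₀ : G} (hodd : Odd (orderOf a₀))
    (h : ∃ k ∈ Q, ¬ Commute a₀ k) :
    ∃ a ∈ zpowers a₀, (∃ k ∈ Q, ¬ Commute a k) ∧
      ∃ r l : ℕ, r.Prime ∧ Odd r ∧ orderOf a = r ^ l := by
  obtain ⟨a, ⟨ha, k, hk, hka⟩, hmin⟩ := Set.exists_min_image
    {a | a ∈ zpowers a₀ ∧ ∃ k ∈ Q, ¬ Commute a k} orderOf (Set.toFinite _)
    ⟨a₀, mem_zpowers a₀, h⟩
  set m := orderOf a with hm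
  have hm1 : m ≠ 1 := fun e => hka (by
    rw [orderOf_eq_one_iff.mp e]; exact Commute.one_left k)
  have hpos : 0 < m := orderOf_pos a
  set r := m.minFac with hr
  have hrp : r.Prime := Nat.minFac_prime hm1
  have hsmall : ∀ q : ℕ, q.Prime → q ∣ m → Commute (a ^ q) k := by
    intro q hq hqm
    by_contra hne
    have h1 := hmin (a ^ q) ⟨pow_mem ha q, k, hk, hne⟩
    rw [orderOf_pow' a hq.ne_zero, Nat.gcd_eq_right hqm] at h1
    exact absurd h1 (not_le.mpr (Nat.div_lt_self hpos hq.one_lt))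
  refine ⟨a, ha, ⟨k, hk, hka⟩, r, m.primeFactorsList.length, hrp, ?_, ?_⟩
  · refine hodd.of_dvd_nat ((Nat.minFac_dvd m).trans ?_)
    rw [← Nat.card_zpowers a₀]
    exact Subgroup.orderOf_dvd_natCard _ ha
  · refine Nat.eq_prime_pow_of_unique_prime_dvd hpos.ne' fun {q} hq hqm => ?_
    by_contra hne
    refine hka ?_
    have hco : Nat.Coprime q r := (Nat.coprime_primes hq hrp).mpr hne
    have h1 := Nat.gcd_eq_gcd_ab q r
    rw [hco.gcd_eq_one] at h1
    have h2 : Commute ((a ^ q) ^ Nat.gcdA q r * (a ^ r) ^ Nat.gcdB q r) k :=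
      ((hsmall q hq hqm).zpow_left _).mul_left ((hsmall r hrp (Nat.minFac_dvd m)).zpow_left _)
    rwa [← zpow_natCast a q, ← zpow_natCast a r, ← zpow_mul, ← zpow_mul, ← zpow_add, ← h1,
      Nat.cast_one, zpow_one] at h2

omit [Finite Ω] in
/-- The Frattini argument in `G`. -/
theorem exists_conj_normalizing {r : ℕ} [Fact r.Prime] {K M : Subgroup G} {n : G}
    (hn : n ∈ normalizer (K : Set G)) (hMK : M ≤ K)
    (hM : Nat.card M = r ^ (Nat.card K).factorization r) :
    ∃ c ∈ K, c * n ∈ normalizer (M : Set G) := by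
  classical
  set M' := M.map (MulAut.conj n).toMonoidHom with hM'
  have hM'K : M' ≤ K := by
    rintro _ ⟨g, hg, rfl⟩
    exact (mem_normalizer_iff.mp hn g).mp (hMK hg)
  let S : Sylow r K := Sylow.ofCard (M.subgroupOf K)
    (by rw [Nat.card_congr (subgroupOfEquivOfLe hMK).toEquiv, hM])
  let S' : Sylow r K := Sylow.ofCard (M'.subgroupOf K) (by
    rw [Nat.card_congr (subgroupOfEquivOfLe hM'K).toEquiv, hM',
      Subgroup.card_map_of_injective (f := (MulAut.conj n).toMonoidHom) (MulAut.conj n).injective, hM])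
  obtain ⟨c, hc⟩ := MulAction.exists_smul_eq K S' S
  refine ⟨c, c.2, Coprime.mem_normalizer_of_map_conj (eq_of_le_of_card_ge ?_ (by
    rw [Subgroup.card_map_of_injective (f := (MulAut.conj ((c : G) * n)).toMonoidHom)
      (MulAut.conj ((c : G) * n)).injective]))⟩
  rintro _ ⟨g, hg, rfl⟩
  have hgM' : n * g * n⁻¹ ∈ M' := ⟨g, hg, rfl⟩
  have h1 : (⟨n * g * n⁻¹, hM'K hgM'⟩ : K) ∈ (S' : Subgroup K) := by
    show _ ∈ M'.subgroupOf K
    rw [mem_subgroupOf]; exact hgM'
  have h2 : c * ⟨n * g * n⁻¹, hM'K hgM'⟩ * c⁻¹ ∈ (S : Subgroup K) := by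
    rw [← hc, Sylow.coe_subgroup_smul, Subgroup.mem_pointwise_smul_iff_inv_smul_mem]
    simpa [MulAut.smul_def, mul_assoc] using h1
  have h3 : (c : G) * (n * g * n⁻¹) * (c : G)⁻¹ ∈ M := mem_subgroupOf.mp (show
    c * ⟨n * g * n⁻¹, hM'K hgM'⟩ * c⁻¹ ∈ M.subgroupOf K from h2)
  show (c : G) * n * g * ((c : G) * n)⁻¹ ∈ M
  rwa [show (c : G) * n * g * ((c : G) * n)⁻¹ = (c : G) * (n * g * n⁻¹) * (c : G)⁻¹ by group]

namespace Setting

variable {u n e₁ : G} {x y : Ω} {E Q P : Subgroup G} (s : Setting D u x y E Q P n e₁)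
include s

omit [Finite Ω] in
/-- An element squaring to `u` in a group `M` of `Y` with `C_Q(a) = E` for some `a` in `M`: no
translation normalises `M`. -/
theorem false_of_normalized {M : Subgroup G} {a t m : G} (haM : a ∈ M)
    (haQ : ∀ k ∈ Q, a * k * a⁻¹ ∈ Q) (hfree : ∀ k ∈ Q, Commute a k → k ∈ E)
    (hMY : M ≤ pairCentral u x y E) (htY : t ∈ pairCentral u x y E) (htt : t * t = u)
    (htM : t ∈ normalizer (M : Set G)) (hmM : m ∈ normalizer (M : Set G))
    (hmK : m ∈ normalizer (lineCentral u x E : Set G)) (hmu : m * u * m⁻¹ = u * e₁) : False := by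
  set g := m * t * m⁻¹ with hg
  have hgK : g ∈ lineCentral u x E := (mem_normalizer_iff.mp hmK t).mp (mem_pairCentral.mp htY).1
  have hgM : g ∈ normalizer (M : Set G) := mul_mem (mul_mem hmM htM) (inv_mem hmM)
  obtain ⟨q, hq, hqg⟩ := exists_factor s.line s.fix s.ne hgK
  obtain ⟨-, hsy⟩ := mem_pairCentral.mp hqg
  set w := q⁻¹ * g with hw
  have hgq : g = q * w := by rw [hw, mul_inv_cancel_left]
  have hay : a • y = y := (mem_pairCentral.mp (hMY haM)).2
  have hfix : a • q • y = q • y := by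
    have hgy : g • y = q • y := by rw [hgq, mul_smul, hsy]
    have h1 : g⁻¹ * a * g ∈ M := by
      simpa using (mem_normalizer_iff.mp (inv_mem hgM) a).mp haM
    have h2 := (mem_pairCentral.mp (hMY h1)).2
    rw [← hgy]
    calc a • g • y = g • (g⁻¹ * a * g) • y := by rw [← mul_smul, ← mul_smul]; group
      _ = g • y := by rw [h2]
  have hqE : q ∈ E := by
    refine hfree q hq ?_
    have h1 := s.line.free (q⁻¹ * (a * q * a⁻¹)) (Q.mul_mem (Q.inv_mem hq) (haQ q hq)) y s.fix s.ne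
      (by rw [mul_smul, mul_smul, mul_smul, inv_smul_eq_iff.2 hay.symm, hfix, inv_smul_smul])
    exact mul_inv_eq_iff_eq_mul.mp (inv_mul_eq_one.mp h1).symm
  have hc : Commute q w := (mem_lineCentral.mp (mem_pairCentral.mp hqg).1).2.1 q hqE
  have h1 : u * e₁ = w * w := by
    calc u * e₁ = g * g := by rw [← hmu, ← htt, hg]; group
      _ = (q * q) * (w * w) := by rw [hgq, hc.symm.mul_mul_mul_comm]
      _ = w * w := by rw [s.special.two q hqE, one_mul]
  have h2 : (u * e₁) • y = y := by rw [h1, mul_smul, hsy, hsy]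
  rw [mul_smul] at h2
  exact s.e_ne (s.line.free e₁ (s.line.E_le s.e_mem) y s.fix s.ne
    (MulAction.injective u (h2.trans s.fix.symm)))

/-- A free element in the torus: nothing at `x` and `y` squares to `u`. -/
theorem false_of_twisted {A : Subgroup G} (hA : A ≤ lineGroup D u ⊓ pairStab G x y)
    (hodd : Odd (Nat.card A)) (hAQ : A ≤ normalizer (Q : Set G)) (hcyc : IsCyclic A)
    (htr : ∀ e ∈ E, ∀ f ∈ E, e ≠ 1 → f ≠ 1 → ∃ a ∈ A, a * e * a⁻¹ = f)
    (hTA : P ⊓ stabilizer G y ≤ normalizer ((A ⊓ centralizer (E : Set G) : Subgroup G) : Set G))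
    {a₀ : G} (ha₀ : a₀ ∈ A) (ha₀E : ∀ e ∈ E, Commute a₀ e)
    (hfree₀ : ∀ k ∈ Q, Commute a₀ k → k ∈ E) {t : G} (ht : t ∈ P)
    (htY : t ∈ pairCentral u x y E) (htt : t * t = u) : False := by
  classical
  haveI : Fact (Nat.Prime 2) := ⟨Nat.prime_two⟩
  haveI := hcyc
  have hS := s.special
  by_cases hQE : Q ≤ E
  · exact s.false_of_centralizes ht htY htt
      (fun k hk => ((mem_lineCentral.mp (mem_pairCentral.mp htY).1).2.1 k (hQE hk)).symm)
      (fun k hk _ => hQE hk)
      fun c _ hcY _ k hk => ((mem_lineCentral.mp (mem_pairCentral.mp hcY).1).2.1 k (hQE hk)).symm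
  obtain ⟨k₀, hk₀, hk₀E⟩ := SetLike.not_le_iff_exists.mp hQE
  obtain ⟨a, haz, hamove, r, l, hr, hrodd, hal⟩ := exists_primary (Q := Q)
    (hodd.of_dvd_nat (Subgroup.orderOf_dvd_natCard A ha₀)) ⟨k₀, hk₀, fun hc => hk₀E (hfree₀ k₀ hk₀ hc)⟩
  haveI : Fact r.Prime := ⟨hr⟩
  have haA : a ∈ A := zpowers_le.mpr ha₀ haz
  have haE : ∀ e ∈ E, Commute a e := fun e he => by
    obtain ⟨i, rfl⟩ := mem_zpowers_iff.mp haz
    exact (ha₀E e he).zpow_left i
  have haodd : Odd (orderOf a) := hodd.of_dvd_nat (Subgroup.orderOf_dvd_natCard A haA)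
  have hAQ' : ∀ b ∈ A, ∀ k ∈ Q, b * k * b⁻¹ ∈ Q := fun b hb k hk =>
    (mem_normalizer_iff.mp (hAQ hb) k).mp hk
  have hAc : ∀ b ∈ A, ∀ c ∈ A, Commute b c := fun b hb c hc => by
    letI : CommGroup A := IsCyclic.commGroup
    exact congrArg Subtype.val (mul_comm (⟨b, hb⟩ : A) ⟨c, hc⟩)
  have hdich := fun {b : G} (hb : b ∈ A) (hbE : ∀ e ∈ E, Commute b e) =>
    hS.centralizes_or_free hAc hAQ' htr hb (hodd.of_dvd_nat (Subgroup.orderOf_dvd_natCard A hb)) hbE
  have hfree : ∀ k ∈ Q, Commute a k → k ∈ E := (hdich haA haE).resolve_left fun h => by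
    obtain ⟨k, hk, hne⟩ := hamove
    exact hne (h k hk)
  have haQ := hAQ' a haA
  set T := P ⊓ stabilizer G y with hT
  have hTmax := s.maxTwo_pair
  -- the action of `T` on the powers of `a`
  have hconj : ∀ c ∈ T, c * a * c⁻¹ ∈ zpowers a := by
    intro c hc
    have h1 := (mem_normalizer_iff.mp (hTA hc) a).mp
      (mem_inf.mpr ⟨haA, mem_centralizer_iff.mpr fun e he => (haE e he).symm.eq⟩)
    exact mem_zpowers_of_orderOf haA (mem_inf.mp h1).1 (orderOf_conj c a)
  have hlift : ∀ c ∈ P, c ∈ pairCentral u x y E → (∀ k ∈ Q, c * k * c⁻¹ * k⁻¹ ∈ E) →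
      ∀ k ∈ Q, Commute c k := by
    intro c hcP hcY hmod
    have hcT : c ∈ T := mem_inf.mpr ⟨hcP, mem_stabilizer_iff.mpr (mem_pairCentral.mp hcY).2⟩
    have hcE : ∀ e ∈ E, Commute c e := fun e he =>
      ((mem_lineCentral.mp (mem_pairCentral.mp hcY).1).2.1 e he).symm
    set w := c * a * c⁻¹ * a⁻¹ with hw
    have hwz : w ∈ zpowers a := mul_mem (hconj c hcT) (inv_mem (mem_zpowers a))
    have hwA : w ∈ A := zpowers_le.mpr haA hwz
    have hwE : ∀ e ∈ E, Commute w e := fun e he => by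
      obtain ⟨i, hi⟩ := mem_zpowers_iff.mp hwz
      rw [← hi]; exact (haE e he).zpow_left i
    have hwQ : ∀ k ∈ Q, Commute w k := by
      intro k hk
      refine hS.commute_of_conj_mul (hodd.of_dvd_nat (Subgroup.orderOf_dvd_natCard A hwA)) hwE ?_
      set k1 := a⁻¹ * k * a with hk1
      have hk1Q : k1 ∈ Q := by simpa using hAQ' a⁻¹ (inv_mem haA) k hk
      have hcK : c⁻¹ * k1 * c * k1⁻¹ ∈ E := by
        have h2 : c⁻¹ * k1 * c ∈ Q := by simpa using s.conj_Q (P.inv_mem hcP) hk1Q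
        have h3 := hmod _ h2
        rw [show c * (c⁻¹ * k1 * c) * c⁻¹ * (c⁻¹ * k1 * c)⁻¹ = k1 * (c⁻¹ * k1 * c)⁻¹ by group] at h3
        simpa [mul_assoc] using E.inv_mem h3
      set e := c⁻¹ * k1 * c * k1⁻¹ with hed
      have h5 : w * k * w⁻¹ * k⁻¹ = e * (c * k * c⁻¹ * k⁻¹) := by
        calc w * k * w⁻¹ * k⁻¹ = c * (a * (c⁻¹ * k1 * c * k1⁻¹) * a⁻¹) * k * c⁻¹ * k⁻¹ := by
              rw [hw, hk1]; group
          _ = (c * e) * k * c⁻¹ * k⁻¹ := by rw [← hed, (haE e hcK).eq, mul_inv_cancel_right]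
          _ = _ := by rw [(hcE e hcK).eq]; group
      rw [h5]
      exact E.mul_mem hcK (hmod k hk)
    intro k hk
    refine hS.commute_of_comm_mem haodd haQ haE hfree hcE (fun k hk => ?_) hk (hmod k hk)
    calc c * (a * k * a⁻¹) * c⁻¹ = w * (a * (c * k * c⁻¹) * a⁻¹) * w⁻¹ := by rw [hw]; group
      _ = _ := by
        rw [(hwQ _ (haQ _ (s.conj_Q hcP hk))).eq, mul_inv_cancel_right]
  have hnc : ∀ c ∈ P, c ∈ pairCentral u x y E → c * c = u → ¬ Commute c a := by
    intro c hcP hcY hcc hca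
    have hcE : ∀ e ∈ E, Commute c e := fun e he =>
      ((mem_lineCentral.mp (mem_pairCentral.mp hcY).1).2.1 e he).symm
    refine s.false_of_centralizes hcP hcY hcc (fun k hk => ?_)
      (fun k hk hZ => hS.mem_of_central haodd haQ haE hfree hk hZ) hlift
    refine hS.commute_of_involutive haodd haQ haE hfree (fun g hg => s.conj_Q hcP hg) hcE
      (fun g _ => ?_) (fun g hg => by rw [hcc]; exact (line2_commute s.line hg).symm) hk
    calc c * (a * g * a⁻¹) * c⁻¹ = (c * a) * g * (a⁻¹ * c⁻¹) := by group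
      _ = (a * c) * g * (c⁻¹ * a⁻¹) := by rw [hca.eq, hca.inv_inv.eq]
      _ = _ := by group
  -- elements squaring to `u` invert `a`
  have hinvert : ∀ c ∈ T, c * c = u → c * a * c⁻¹ = a⁻¹ := by
    intro c hc hcc
    obtain ⟨i, hi⟩ := mem_zpowers_iff.mp (hconj c hc)
    have hcY := hTmax.2.1 hc
    have hua : Commute u a := (commute_of_mem_lineGroup (mem_inf.mp (hA haA)).1).symm
    have h1 : a ^ (i * i - 1) = 1 := by
      rw [zpow_sub, zpow_mul, zpow_one, mul_inv_eq_one, hi, conj_zpow, hi]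
      calc c * (c * a * c⁻¹) * c⁻¹ = (c * c) * a * (c * c)⁻¹ := by group
        _ = a := by rw [hcc, hua.eq, mul_inv_cancel_right]
    rw [← orderOf_dvd_iff_zpow_eq_one, hal, show i * i - 1 = (i + 1) * (i - 1) by ring] at h1
    push_cast at h1
    have hri : Prime (r : ℤ) := Nat.prime_iff_prime_int.mp hr
    by_cases hdp : (r : ℤ) ∣ i + 1
    · have hnd : ¬ (r : ℤ) ∣ i - 1 := fun h2 => by
        have h3 := dvd_sub hdp h2
        rw [show i + 1 - (i - 1) = ((2 : ℕ) : ℤ) by push_cast; ring, Int.natCast_dvd_natCast] at h3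
        have := (Nat.prime_dvd_prime_iff_eq hr Nat.prime_two).mp h3
        rw [this] at hrodd
        exact Nat.not_odd_iff_even.mpr even_two hrodd
      have h4 := hri.pow_dvd_of_dvd_mul_right l hnd h1
      rw [← Nat.cast_pow, ← hal, orderOf_dvd_iff_zpow_eq_one, zpow_add, zpow_one] at h4
      rw [← hi, eq_inv_of_mul_eq_one_left h4]
    · have h4 := hri.pow_dvd_of_dvd_mul_left l hdp h1
      rw [← Nat.cast_pow, ← hal, orderOf_dvd_iff_zpow_eq_one, zpow_sub, zpow_one, mul_inv_eq_one] at h4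
      exact absurd (mul_inv_eq_iff_eq_mul.mp (hi.symm.trans h4))
        (hnc c (mem_inf.mp hc).1 hcY hcc)
  -- `T` is cyclic
  have huT : u ∈ T := mem_inf.mpr ⟨s.u_mem, mem_stabilizer_iff.mpr s.fix⟩
  have hTinv : ∀ c ∈ T, c * c = 1 → c = 1 ∨ c = u := fun c hc => s.involution (hTmax.2.1 hc)
  have hTc : IsCyclic T := by
    refine (cyclic_or_two_generated hTmax.1 s.pow_u s.u_ne huT hTinv).resolve_right ?_
    rintro ⟨p, hp, q, hq, hpp, hqq, hne1, hne2, -⟩
    have hpu : p⁻¹ = p * u := inv_eq_of_mul_eq_one_right (by rw [← mul_assoc, hpp, s.pow_u])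
    set w := p * q with hw
    have hwT : w ∈ T := T.mul_mem hp hq
    have hw1 : w ≠ 1 := fun e => hne2 (by rw [eq_inv_of_mul_eq_one_right e, hpu])
    have hwu : w ≠ u := fun e => hne1 (by
      rw [show q = p⁻¹ * w by rw [hw, inv_mul_cancel_left], e, hpu, mul_assoc, s.pow_u, mul_one])
    have hwa : Commute w a := by
      refine mul_inv_eq_iff_eq_mul.mp ?_
      calc w * a * w⁻¹ = p * (q * a * q⁻¹) * p⁻¹ := by rw [hw]; group
        _ = (p * a * p⁻¹)⁻¹ := by rw [hinvert q hq hqq]; group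
        _ = a := by rw [hinvert p hp hpp, inv_inv]
    obtain ⟨j, hj⟩ := s.exists_pow_sq (mem_inf.mp hwT).1 (hTmax.2.1 hwT) hw1 hwu
    exact hnc (w ^ j) (P.pow_mem (mem_inf.mp hwT).1 j) (hTmax.2.1 (T.pow_mem hwT j)) hj
      (hwa.pow_left j)
  -- a Sylow `r`-subgroup through `a` normalised by an element squaring to `u`
  set Y := pairCentral u x y E with hYdef
  have huY : u ∈ Y := self_mem_pairCentral s.line s.fix
  have haY : a ∈ Y := by
    obtain ⟨haL, hap⟩ := mem_inf.mp (hA haA)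
    exact mem_pairCentral.mpr ⟨mem_lineCentral.mpr ⟨(mem_pairStab.mp hap).1,
      fun e he => (haE e he).symm, commute_of_mem_lineGroup haL⟩, (mem_pairStab.mp hap).2⟩
  let TY : Sylow 2 Y := ⟨T.subgroupOf Y, hTmax.1.comap_of_injective Y.subtype Y.subtype_injective,
    fun {R} hR hle => by
      have h1 := hTmax.2.2 (R.map Y.subtype) (hR.map Y.subtype) (map_subtype_le _) (by
        rw [← map_subgroupOf_eq_of_le hTmax.2.1]
        exact map_mono hle)
      rw [hT, ← h1, subgroupOf, comap_map_eq_self_of_injective Y.subtype_injective]⟩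
  have hTYc : IsCyclic (TY : Subgroup Y) :=
    isCyclic_of_surjective (subgroupOfEquivOfLe hTmax.2.1).symm.toMonoidHom
      (subgroupOfEquivOfLe hTmax.2.1).symm.surjective
  have hmin : (Nat.card Y).minFac = 2 := by
    rw [Nat.minFac_eq_two_iff]
    have h1 := Subgroup.orderOf_dvd_natCard Y huY
    rwa [s.line.bad.1] at h1
  have hcompl := IsCyclic.isComplement' hmin (P := TY) hTYc
  set φ := MonoidHom.transferSylow TY (IsCyclic.normalizer_le_centralizer hmin (P := TY) hTYc) with hφ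
  set O := φ.ker with hO
  have hOodd : Odd (Nat.card O) := by
    rw [← Nat.not_even_iff_odd, even_iff_two_dvd, ← hcompl.index_eq_card]
    exact TY.not_dvd_index
  have hOmem : ∀ {c : Y}, Odd (orderOf c) → c ∈ O := by
    intro c hc
    rw [hO, MonoidHom.mem_ker, ← orderOf_eq_one_iff]
    obtain ⟨k, hk⟩ := IsPGroup.iff_orderOf.mp TY.2 (φ c)
    have h1 : orderOf (φ c) ∣ orderOf c := orderOf_map_dvd _ c
    rw [hk] at h1 ⊢
    by_contra hne
    have hk0 : k ≠ 0 := fun e => hne (by rw [e, pow_zero])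
    exact Nat.not_even_iff_odd.mpr hc (even_iff_two_dvd.mpr ((dvd_pow_self 2 hk0).trans h1))
  set aY : Y := ⟨a, haY⟩ with haYd
  have haO : aY ∈ O := hOmem (by rw [← Subgroup.orderOf_coe]; exact haodd)
  obtain ⟨M0, hM0⟩ := (IsPGroup.of_card (n := l) (by
    rw [Nat.card_zpowers, ← Subgroup.orderOf_coe, ← Subgroup.orderOf_coe]; exact hal) :
      IsPGroup r (zpowers (⟨aY, haO⟩ : O))).exists_le_sylow
  set MY := (M0 : Subgroup O).map O.subtype with hMY
  have hfrat : normalizer ((M0 : Subgroup O).map O.subtype : Set Y) ⊔ O = ⊤ :=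
    Sylow.normalizer_sup_eq_top M0
  set tY : Y := ⟨t, htY⟩ with htYd
  obtain ⟨n', hn', o, ho, hno⟩ := mem_sup_of_normal_right.mp
    (hfrat ▸ mem_top tY : tY ∈ normalizer (MY : Set Y) ⊔ O)
  set d := orderOf n' with hd
  set j := d.factorization 2 with hj
  set m := d / 2 ^ j with hm
  have hmodd : Odd m := by
    rw [Nat.odd_iff, ← Nat.two_dvd_ne_zero]
    exact Nat.not_dvd_ordCompl Nat.prime_two (orderOf_pos n').ne'
  set t' := n' ^ m with ht'
  have ht'2 : ∀ i : ℕ, ∃ b : ℕ, orderOf (t' ^ i) = 2 ^ b := fun i => by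
    have h1 : orderOf (t' ^ i) ∣ 2 ^ j := orderOf_dvd_of_pow_eq_one (by
      rw [← pow_mul, ht', ← pow_mul, mul_comm i, ← mul_assoc, hm,
        Nat.div_mul_cancel (Nat.ordProj_dvd _ _), pow_mul, hd, pow_orderOf_eq_one, one_pow])
    obtain ⟨b, -, hb⟩ := (Nat.dvd_prime_pow Nat.prime_two).mp h1
    exact ⟨b, hb⟩
  set uY : Y := ⟨u, huY⟩ with huYd
  have huO : uY ∉ O := fun h => by
    have h1 := hOodd.of_dvd_nat (Subgroup.orderOf_dvd_natCard O h)
    rw [← Subgroup.orderOf_coe, s.line.bad.1] at h1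
    exact Nat.not_odd_iff_even.mpr even_two h1
  have hφo : φ o = 1 := MonoidHom.mem_ker.mp ho
  have hφu : φ (t' * t') = φ uY := by
    have hn't : φ n' = φ tY := by rw [← hno, map_mul, hφo, mul_one]
    have htu : tY * tY = uY := Subtype.ext htt
    obtain ⟨i, hi⟩ := hmodd
    rw [ht', ← (Commute.refl n').mul_pow, map_pow, map_mul, hn't, ← map_mul, htu, hi, pow_add,
      pow_mul, pow_two, ← map_mul, show uY * uY = 1 from Subtype.ext s.pow_u, map_one, one_pow,
      one_mul, pow_one]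
  have ht'sq : (t' : G) * t' = u := by
    refine (s.involution (mul_mem t'.2 t'.2) ?_).resolve_left fun e => ?_
    · have h4 : t' ^ 4 ∈ O := by
        rw [hO, MonoidHom.mem_ker, show (4 : ℕ) = 2 * 2 by norm_num, pow_mul, map_pow,
          pow_two t', hφu, ← map_pow, pow_two, show uY * uY = 1 from Subtype.ext s.pow_u, map_one]
      have h5 : t' ^ 4 = 1 := by
        obtain ⟨b, hb⟩ := ht'2 4
        rcases b with _ | b
        · exact orderOf_eq_one_iff.mp (by rw [hb, pow_zero])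
        · exfalso
          have h6 := hOodd.of_dvd_nat (Subgroup.orderOf_dvd_natCard O h4)
          rw [hb] at h6
          exact Nat.not_odd_iff_even.mpr (even_iff_two_dvd.mpr (dvd_pow_self 2 (by omega))) h6
      have h7 := congrArg Subtype.val h5
      push_cast at h7
      rwa [show (t' : G) ^ 4 = (t' : G) * t' * ((t' : G) * t') by
        rw [show (4 : ℕ) = 2 + 2 by norm_num, pow_add, pow_two]] at h7
    · refine huO (MonoidHom.mem_ker.mpr ?_)
      rw [← hφu, show t' * t' = 1 from Subtype.ext e, map_one]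
  set M := MY.map Y.subtype with hMdef
  have hMsub : M ≤ Y := map_subtype_le MY
  have haM : a ∈ M := ⟨aY, ⟨⟨aY, haO⟩, hM0 (mem_zpowers _), rfl⟩, rfl⟩
  have ht'M : (t' : G) ∈ normalizer (M : Set G) :=
    le_normalizer_map Y.subtype ⟨t', pow_mem hn' m, rfl⟩
  -- `M` is a Sylow subgroup of `C_H(E) ∩ C(u)`
  have hcardM : Nat.card M = r ^ (Nat.card (lineCentral u x E)).factorization r := by
    rw [hMdef, Subgroup.card_map_of_injective Y.subtype_injective, hMY,
      Subgroup.card_map_of_injective O.subtype_injective, M0.card_eq_multiplicity]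
    congr 1
    have hK : Nat.card (lineCentral u x E) = Nat.card Q * Nat.card Y := by
      rw [← Nat.card_prod]
      refine (Nat.card_congr (Equiv.ofBijective (fun p : Q × Y => (⟨(p.1 : G) * p.2,
        mul_mem (line_le_lineCentral s.line p.1.2) (mem_pairCentral.mp p.2.2).1⟩ :
          lineCentral u x E)) ⟨fun p p' hp => ?_, fun g => ?_⟩)).symm
      · obtain ⟨h1, h2⟩ := factor_unique s.line s.fix s.ne p.1.2 p'.1.2 (mem_pairCentral.mp p.2.2).2
          (mem_pairCentral.mp p'.2.2).2 (congrArg Subtype.val hp)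
        exact Prod.ext (Subtype.ext h1) (Subtype.ext h2)
      · obtain ⟨q, hq, hqg⟩ := exists_factor s.line s.fix s.ne g.2
        exact ⟨(⟨q, hq⟩, ⟨_, hqg⟩), Subtype.ext (by simp)⟩
    obtain ⟨i, hi⟩ := IsPGroup.iff_card.mp s.line.isPGroup
    obtain ⟨i', hi'⟩ := IsPGroup.iff_card.mp TY.2
    have hr2 : (2 : ℕ) ≠ r := fun e => Nat.not_odd_iff_even.mpr even_two (e ▸ hrodd)
    have hY : Nat.card O * 2 ^ i' = Nat.card Y := hi' ▸ hcompl.card_mul
    rw [hK, hi, ← hY, Nat.factorization_mul (by positivity) (mul_ne_zero Nat.card_pos.ne' (by positivity)),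
      Nat.factorization_mul Nat.card_pos.ne' (by positivity), Finsupp.add_apply, Finsupp.add_apply,
      Nat.Prime.factorization_pow Nat.prime_two, Nat.Prime.factorization_pow Nat.prime_two,
      Finsupp.single_eq_of_ne hr2.symm, Finsupp.single_eq_of_ne hr2.symm, zero_add, add_zero]
  obtain ⟨c, hc, hcn⟩ := exists_conj_normalizing s.n_lineCentral
    (hMsub.trans inf_le_left) hcardM
  refine s.false_of_normalized haM haQ hfree hMsub t'.2 ht'sq ht'M hcn
    (mul_mem (le_normalizer hc) s.n_lineCentral) ?_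
  obtain ⟨-, hcE, hcu⟩ := mem_lineCentral.mp hc
  have hce : Commute c (u * e₁) := hcu.mul_right (hcE e₁ s.e_mem).symm
  calc c * n * u * (c * n)⁻¹ = c * (n * u * n⁻¹) * c⁻¹ := by group
    _ = u * e₁ := by rw [s.n_u, hce.eq, mul_inv_cancel_right]

end Setting

end Cfsg.Agent.H29.Asch
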