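import Cfsg.Agent.H29.Asch.ShapeTwo
import Cfsg.Agent.H29.Asch.ShapeThree
import Cfsg.Agent.H14.Asch.Shapes

/-!
The base of P4 for every shape: `Q⟨u⟩` is a Sylow `2`-subgroup of `C_H(E) ∩ C(u)`, a two-element at
`x` and `y` there is a power of `u`, and the torus gives the data of the climb.
-/

set_option autoImplicit false
set_option linter.style.haveILetI false

namespace Cfsg.Agent.H29.Asch

open Subgroup MulAction
open Cfsg.Agent.H14.Asch
open Cfsg.Agent.H39 (mul_self_of_orderOf_eq_two)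
open Cfsg.Agent.H73.Asch (RankTwoBad Line2 RankOnePairs)
open Cfsg.Agent.H51.Asch (coreStab mem_coreStab HasTranslation MaxTwo exists_maxTwo_ge)
open scoped commutatorElement Pointwise

universe u v

variable {G : Type u} [Group G] [Finite G] {Ω : Type v} [MulAction G Ω] [Finite Ω] {D : Set G}

namespace Setting

variable {u n e₁ : G} {x y : Ω} {E Q P : Subgroup G} (s : Setting D u x y E Q P n e₁)
include s

/-- The part of `P` at `y` is `⟨u⟩`. -/
theorem eq_one_or_eq {t : G} (ht : t ∈ P) (htY : t ∈ pairCentral u x y E) : t = 1 ∨ t = u := by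
  by_contra hcon
  push Not at hcon
  obtain ⟨j, hj⟩ := s.exists_pow_sq ht htY hcon.1 hcon.2
  set c := t ^ j
  have hcP : c ∈ P := P.pow_mem ht j
  have hcY : c ∈ pairCentral u x y E := (pairCentral u x y E).pow_mem htY j
  set T := P ⊓ stabilizer G y with hT
  have hTY := s.maxTwo_pair.2.1
  obtain ⟨A, hA, hodd, hAQ, hcyc, htr, hTA, hshape⟩ := s.line.torus y s.fix s.ne T s.maxTwo_pair.1
    (fun g hg => by
      obtain ⟨hK, hgy⟩ := mem_pairCentral.mp (hTY hg)
      obtain ⟨hgx, -, hgu⟩ := mem_lineCentral.mp hK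
      exact mem_inf.mpr ⟨mem_pairStab.mpr ⟨hgx, hgy⟩, mem_centralizer_singleton_iff.mpr hgu.eq⟩)
    (fun e he g hg => (mem_lineCentral.mp (mem_pairCentral.mp (hTY hg)).1).2.1 e he)
    (fun g hg => s.norm_Q (mem_inf.mp hg).1)
  have htr' : ∀ e ∈ E, ∀ f ∈ E, e ≠ 1 → f ≠ 1 → ∃ a ∈ A, a * e * a⁻¹ = f := htr
  rcases hshape with hQE | ⟨hinj, hrank⟩ | ⟨a, ha, haE, hfree⟩
  · refine s.false_of_centralizes hcP hcY hj (fun k hk => ?_) (fun k hk _ => hQE ▸ hk)
      fun d _ hdY _ k hk => ?_
    · exact ((mem_lineCentral.mp (mem_pairCentral.mp hcY).1).2.1 k (hQE ▸ hk)).symm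
    · exact ((mem_lineCentral.mp (mem_pairCentral.mp hdY).1).2.1 k (hQE ▸ hk)).symm
  · exact s.false_of_squaring hinj (fun g hg hgE => by
      obtain ⟨k, hk, l, -, h1, -, -⟩ := hrank g hg hgE
      exact ⟨k, hk, fun hc => h1 (commutatorElement_eq_one_iff_commute.mpr hc)⟩)
      hA hAQ htr' hcP hcY hj
  · exact s.false_of_twisted hA hodd hAQ hcyc htr' hTA ha haE hfree hcP hcY hj

/-- `P` is `Q⟨u⟩`. -/
theorem eq_sup : P = Q ⊔ zpowers u := by
  refine le_antisymm (fun g hg => ?_) (sup_le s.Q_le (zpowers_le.mpr s.u_mem))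
  obtain ⟨q, hq, t, ht, htY, rfl⟩ := s.factor hg
  refine mul_mem (mem_sup_left hq) ?_
  rcases s.eq_one_or_eq ht htY with rfl | rfl
  · exact one_mem _
  · exact mem_sup_right (mem_zpowers _)

end Setting

section

variable (h : Crit G Ω D) (hP : RankOnePairs (G := G) Ω) {u : G} {x y : Ω} {E Q : Subgroup G}
  (hl : Line2 D u x E Q) (hT : HasTranslation u x E) (hy : u • y = y) (hyx : y ≠ x)
include h hP hl hT hy hyx

/-- A two-element centralising `u` and `E` and fixing `x` and `y` is a power of `u`. -/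
theorem mem_zpowers_pair {t : G} (ht : t ∈ coreStab x E) (htu : Commute t u) (hty : t • y = y)
    (ht2 : IsPGroup 2 (zpowers t)) : t ∈ zpowers u := by
  obtain ⟨P, n, e₁, s⟩ := exists_setting h hP hl hT hy hyx
  have htY : t ∈ pairCentral u x y E := mem_pairCentral.mpr
    ⟨mem_lineCentral.mpr ⟨(mem_coreStab.mp ht).1, (mem_coreStab.mp ht).2, htu⟩, hty⟩
  obtain ⟨P', hle, hP'⟩ := exists_maxTwo_ge ht2 (zpowers_le.mpr htY)
  obtain ⟨c, hc, hcP⟩ := hP'.exists_conj s.maxTwo_pair
  have hct := (hcP t).mp (hle (mem_zpowers t))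
  have hcu : Commute c u := (mem_lineCentral.mp (mem_pairCentral.mp hc).1).2.2
  rcases s.eq_one_or_eq (mem_inf.mp hct).1 (s.maxTwo_pair.2.1 hct) with e | e
  · rw [conj_eq_one_iff.mp e]; exact one_mem _
  · have : t = u := by
      calc t = c⁻¹ * (c * t * c⁻¹) * c := by group
        _ = u := by rw [e, mul_assoc, hcu.symm.eq, inv_mul_cancel_left]
    rw [this]; exact mem_zpowers u

/-- `Q⟨u⟩` is a Sylow `2`-subgroup of `C_H(E) ∩ C(u)`. -/
theorem maxTwo_base : MaxTwo (coreStab x E ⊓ centralizer ({u} : Set G)) (Q ⊔ zpowers u) := by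
  obtain ⟨P, n, e₁, s⟩ := exists_setting h hP hl hT hy hyx
  rw [← s.eq_sup]
  exact s.maxP

/-- The data at the bottom of the climb. -/
theorem exists_shapeBase : ∃ A : Subgroup G,
    A ≤ lineGroup D u ⊓ pairStab G x y ∧ IsCyclic A ∧
      A ≤ normalizer (coreStab x E : Set G) ∧
      ShapeData (Q ⊔ zpowers u) Q E A u ∧
      (Q = E ∨ Squaring Q E ∨ Twisted A E Q) := by
  have hu2 := hl.bad.1
  have huQ : ∀ q ∈ Q, u * q * u⁻¹ = q := fun q hq => by
    rw [(line2_commute hl hq).symm.eq, mul_inv_cancel_right]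
  obtain ⟨A, hA, hodd, hAQ, hcyc, htr, -, hshape⟩ := hl.torus y hy hyx (zpowers u)
    (IsPGroup.of_card (n := 1) (by rw [Nat.card_zpowers, hu2]; rfl))
    (zpowers_le.mpr (mem_inf.mpr ⟨mem_pairStab.mpr ⟨hl.fix, hy⟩,
      mem_centralizer_singleton_iff.mpr rfl⟩))
    (fun e he g hg => by
      obtain ⟨i, rfl⟩ := mem_zpowers_iff.mp hg
      exact (line2_commute hl (hl.E_le he)).zpow_right i)
    (zpowers_le.mpr (mem_normalizer_of_subset (fun q hq => by rwa [huQ q hq]) fun q hq => by
      have h1 := huQ q hq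
      rwa [show u⁻¹ * q * u = u⁻¹ * (u * q * u⁻¹) * u by rw [h1],
        show u⁻¹ * (u * q * u⁻¹) * u = q by group]))
  have hS := special_of_line2 h hl
  have hAE : A ≤ normalizer (E : Set G) := by
    intro a ha
    have key : ∀ b ∈ A, ∀ e ∈ E, b * e * b⁻¹ ∈ E := fun b hb e he => by
      refine hS.omega _ ((mem_normalizer_iff.mp (hAQ hb) e).mp (hS.le he)) ?_
      rw [show b * e * b⁻¹ * (b * e * b⁻¹) = b * (e * e) * b⁻¹ by group, hS.two e he]; group
    exact mem_normalizer_of_subset (key a ha) fun e he => by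
      simpa using key a⁻¹ (inv_mem ha) e he
  have hau : ∀ a ∈ A, Commute a u := fun a ha => commute_of_mem_lineGroup (mem_inf.mp (hA ha)).1
  have hax : ∀ a ∈ A, a • x = x := fun a ha => (mem_pairStab.mp (mem_inf.mp (hA ha)).2).1
  have huN : zpowers u ≤ normalizer (Q : Set G) :=
    zpowers_le.mpr (mem_normalizer_of_subset (fun q hq => by rwa [huQ q hq]) fun q hq => by
      have h1 := huQ q hq
      rwa [show u⁻¹ * q * u = u⁻¹ * (u * q * u⁻¹) * u by rw [h1],
        show u⁻¹ * (u * q * u⁻¹) * u = q by group])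
  have huu := mul_self_of_orderOf_eq_two hu2
  have huK : u ∈ coreStab x E :=
    mem_coreStab.mpr ⟨hl.fix, fun e he => line2_commute hl (hl.E_le he)⟩
  have hcentral : ∀ e ∈ E, ∀ g ∈ Q ⊔ zpowers u, Commute e g := fun e he g hg =>
    (mem_coreStab.mp ((sup_le (fun q hq => mem_coreStab.mpr
      ⟨line2_smul hl hq, fun f hf => hl.central f hf q hq⟩) (zpowers_le.mpr huK)) hg)).2 e he
  have hunQ : u ∉ Q := fun hu =>
    H39.ne_one_of_orderOf_eq_two hu2 (hl.free u hu y hy hyx hy)
  refine ⟨A, hA, hcyc, fun a ha => ?_,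
    { two := hl.isPGroup.to_sup_of_normal_left' (IsPGroup.of_card (n := 1)
        (by rw [Nat.card_zpowers, hu2]; rfl)) huN
      u_mem := mem_sup_right (mem_zpowers u)
      sq_u := huu
      u_notMem := hunQ
      comm := fun a b => by
        letI : CommGroup A := hcyc.commGroup
        exact mul_comm a b
      odd := hodd
      fix := fun a ha => by rw [(hau a ha).eq, mul_inv_cancel_right]
      normM := fun a ha => Coprime.mem_normalizer_of_map_conj (by
        rw [Subgroup.map_sup, Coprime.map_conj_eq (hAQ ha), MonoidHom.map_zpowers]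
        simp [(hau a ha).eq])
      normE := hAE
      normQ := hAQ
      le_E := hl.E_le
      le := le_sup_left
      central := hcentral
      sq := fun e he => hS.two e he
      four_le := hl.four_le
      trans := fun e he he1 e' he' he'1 => htr e he e' he' he1 he'1
      commute := fun q hq => line2_commute hl hq
      omega := hS.omega
      sq_mem := hS.sq_mem
      comm_mem := hS.comm_mem
      cent := fun g hg _ => ?_ }, ?_⟩
  · exact mem_normalizer_of_subset
      (fun g hg => H51.Asch.conj_mem_coreStab (hax a ha) (hAE ha) hg) fun g hg => by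
        simpa using H51.Asch.conj_mem_coreStab (hax a⁻¹ (inv_mem ha)) (hAE (inv_mem ha)) hg
  · obtain ⟨q, hq, w, hw, rfl⟩ : ∃ q ∈ Q, ∃ w ∈ zpowers u, q * w = g := by
      have hco : ((Q ⊔ zpowers u : Subgroup G) : Set G) = (Q : Set G) * (zpowers u : Set G) :=
        coe_mul_of_right_le_normalizer_left Q (zpowers u) huN
      have hg' : g ∈ ((Q ⊔ zpowers u : Subgroup G) : Set G) := hg
      rw [hco] at hg'
      exact Set.mem_mul.mp hg'
    obtain ⟨i, rfl⟩ := mem_zpowers_iff.mp hw
    rcases Int.even_or_odd i with ⟨j, rfl⟩ | ⟨j, rfl⟩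
    · left
      rwa [← two_mul, zpow_mul, zpow_two, huu, one_zpow, mul_one]
    · right
      rwa [zpow_add, zpow_mul, zpow_two, huu, one_zpow, one_mul, zpow_one, mul_assoc, huu, mul_one]
  · rcases hshape with e | ⟨h1, h2⟩ | h3
    · exact Or.inl e
    · exact Or.inr (Or.inl ⟨h1, h2⟩)
    · exact Or.inr (Or.inr h3)

end

end Cfsg.Agent.H29.Asch
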