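import Mathlib.Tactic

/-!
The arithmetic of a four group of bad involutions with two or three proper elements
(notes/helper30_asch_rank2.md, section C).

`f = r + 1` points are fixed by the group, `fe` by a proper element, `fe - 1` being `r ^ 2` or
`r ^ 3`; `M` members at a point centralise the group, `me` the element, `m` members fix a point and
`n` is the number of points.
-/

set_option autoImplicit false

namespace Cfsg.Agent.H29.Asch

/-- A natural number is a square if it is the quotient of two squares. -/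
theorem isSquare_of_mul_sq {a : ℕ} {w z : ℤ} (hz : z ≠ 0) (h : (a : ℤ) * z ^ 2 = w ^ 2) :
    IsSquare a := by
  have h1 : z.natAbs ^ 2 ∣ w.natAbs ^ 2 := by
    refine ⟨a, ?_⟩
    have := congrArg Int.natAbs h
    rw [Int.natAbs_mul, Int.natAbs_pow, Int.natAbs_pow, Int.natAbs_natCast] at this
    rw [← this, mul_comm]
  obtain ⟨c, hc⟩ := (Nat.pow_dvd_pow_iff two_ne_zero).1 h1
  refine ⟨c, ?_⟩
  have h2 := congrArg Int.natAbs h
  rw [Int.natAbs_mul, Int.natAbs_pow, Int.natAbs_pow, Int.natAbs_natCast, hc] at h2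
  have hz' : 0 < z.natAbs ^ 2 := by positivity
  nlinarith

/-- `q + 1` is a square for a power `q` of two only if `q = 8`. -/
theorem eq_eight_of_isSquare {n : ℕ} (h : IsSquare (2 ^ n + 1)) : 2 ^ n = 8 := by
  obtain ⟨b, hb⟩ := h
  have hb1 : 1 ≤ b := by nlinarith [Nat.one_le_two_pow (n := n)]
  obtain ⟨c, rfl⟩ : ∃ c, b = c + 1 := ⟨b - 1, by omega⟩
  have hmul : c * (c + 2) = 2 ^ n := by nlinarith
  obtain ⟨i, -, hi⟩ := (Nat.dvd_prime_pow Nat.prime_two).1 ⟨c + 2, hmul.symm⟩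
  obtain ⟨j, -, hj⟩ := (Nat.dvd_prime_pow Nat.prime_two).1 ⟨c, by rw [← hmul, mul_comm]⟩
  rcases i with _ | _ | i
  · subst hi
    rcases j with _ | _ | j <;> simp [pow_succ] at hj <;> omega
  · subst hi
    norm_num at hmul
    omega
  · exfalso
    have hc4 : c = 4 * 2 ^ i := by rw [hi]; ring
    rcases j with _ | _ | j
    · rw [pow_zero] at hj; omega
    · rw [zero_add, pow_one] at hj; have := Nat.one_le_two_pow (n := i); omega
    · rw [show j + 1 + 1 = j + 2 by rfl, pow_add] at hj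
      omega

/-- Two proper elements with lines of the same size. -/
theorem two_proper_same {n r fu m M mu mw : ℕ} (k : ℕ) (hk : r = 2 ^ k) (hk0 : 1 ≤ k)
    (htype : fu = r ^ 2 + 1 ∨ (fu = r ^ 3 + 1 ∧ 4 ≤ r)) (hM : 0 < M)
    (hin : (mu : ℤ) * ((fu : ℤ) - (r + 1)) = (r + 1) * r * (M : ℤ) ^ 2)
    (houtu : (m : ℤ) * ((n : ℤ) - fu) = (fu : ℤ) * ((fu : ℤ) - 1) * (mu : ℤ) ^ 2)
    (houtw : (m : ℤ) * ((n : ℤ) - (r + 1)) = (r + 1) * r * (mw : ℤ) ^ 2)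
    (hW : m * M ^ 2 = mu * mu * mw) : False := by
  have hr2 : 2 ≤ r := hk ▸ (Nat.le_self_pow (by omega) 2)
  have hr : (2 : ℤ) ≤ r := by exact_mod_cast hr2
  have hM0 : (M : ℤ) ^ 2 ≠ 0 := pow_ne_zero _ (by exact_mod_cast hM.ne')
  have hW' : (m : ℤ) * (M : ℤ) ^ 2 = (mu : ℤ) * mu * mw := by exact_mod_cast hW
  set A : ℤ := (r + 1) * r with hA
  set g : ℤ := (fu : ℤ) - (r + 1) with hg
  set c : ℤ := (fu : ℤ) * ((fu : ℤ) - 1) with hc
  have hA0 : A ≠ 0 := mul_ne_zero (by omega) (by omega)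
  have hmu : (mu : ℤ) ≠ 0 := by
    intro e
    rw [e, zero_mul] at hin
    exact mul_ne_zero hA0 hM0 hin.symm
  -- the quadratic equation
  have hq : A * mw * mw - c * mu * mu = A * mu * mw := by
    have h1 : (m : ℤ) * g = A * mw * mw - c * mu * mu := by linear_combination houtw - houtu
    apply mul_right_cancel₀ hM0
    rw [← h1]
    linear_combination g * hW' + (mu : ℤ) * mw * hin
  have hsq : A * (A + 4 * c) * (mu : ℤ) ^ 2 = (A * (2 * mw - mu)) ^ 2 := by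
    linear_combination (-4 * A) * hq
  rcases htype with rfl | ⟨rfl, hr4⟩
  · -- squares
    have h1 : IsSquare ((r + 1) * (4 * r ^ 3 + 5 * r + 1)) := by
      refine isSquare_of_mul_sq (z := (r : ℤ) * mu) (w := A * (2 * mw - mu))
        (mul_ne_zero (by omega) hmu) ?_
      rw [← hsq, hA, hc]
      push_cast
      ring
    have hcop : Nat.Coprime (r + 1) (4 * r ^ 3 + 5 * r + 1) := by
      refine Nat.coprime_of_dvd fun p hp hp1 hp2 => ?_
      have h8 : (p : ℤ) ∣ 8 := by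
        have d1 : (p : ℤ) ∣ (r : ℤ) + 1 := by exact_mod_cast Int.natCast_dvd_natCast.2 hp1
        have d2 : (p : ℤ) ∣ 4 * (r : ℤ) ^ 3 + 5 * r + 1 := by
          have := Int.natCast_dvd_natCast.2 hp2
          push_cast at this
          exact this
        have : (8 : ℤ) = ((r : ℤ) + 1) * (4 * r ^ 2 - 4 * r + 9) - (4 * (r : ℤ) ^ 3 + 5 * r + 1) := by
          ring
        rw [this]
        exact dvd_sub (d1.mul_right _) d2
      have h8' : p ∣ 2 ^ 3 := by exact_mod_cast h8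
      obtain rfl : p = 2 := (Nat.prime_dvd_prime_iff_eq hp Nat.prime_two).1 (hp.dvd_of_dvd_pow h8')
      have : 2 ∣ r := by rw [hk]; exact dvd_pow_self 2 (by omega)
      omega
    obtain ⟨b, hb⟩ := h1
    have hbd : ∃ b₁, r + 1 = b₁ ^ 2 := by
      exact exists_eq_pow_of_mul_eq_pow (Nat.isUnit_iff.2 hcop) (by rw [hb, sq])
    obtain ⟨b₁, hb₁⟩ := hbd
    have hr8 : r = 8 := hk ▸ eq_eight_of_isSquare ⟨b₁, by rw [← hk, hb₁, sq]⟩
    subst hr8
    norm_num at hb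
    have h1 : b < 138 := by nlinarith
    have h2 : 136 < b := by nlinarith
    have : b = 137 := by omega
    subst this
    omega
  · have hr' : (4 : ℤ) ≤ r := by exact_mod_cast hr4
    have h1 : IsSquare (4 * r ^ 4 + 4 * r ^ 2 + 1 - 4 * r ^ 3) := by
      refine isSquare_of_mul_sq (z := A * mu) (w := A * (2 * mw - mu))
        (mul_ne_zero hA0 hmu) ?_
      rw [← hsq, hA, hc, Nat.cast_sub (by nlinarith [Nat.mul_le_mul_left (r ^ 3) hr2])]
      push_cast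
      ring
    obtain ⟨b, hb⟩ := h1
    have hb' : (b : ℤ) * b = 4 * (r : ℤ) ^ 4 - 4 * r ^ 3 + 4 * r ^ 2 + 1 := by
      have := congrArg (Nat.cast : ℕ → ℤ) hb
      rw [Nat.cast_sub (by nlinarith [Nat.mul_le_mul_left (r ^ 3) hr2])] at this
      push_cast at this
      linarith
    have hb0 : (0 : ℤ) ≤ b := Int.natCast_nonneg b
    rcases le_or_gt (b : ℤ) (2 * r ^ 2 - r) with hle | hlt
    · nlinarith
    · have h3 : (2 * (r : ℤ) ^ 2 - r + 1) ≤ b := by omega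
      have h4 : (0 : ℤ) ≤ 2 * (r : ℤ) ^ 2 - r + 1 := by nlinarith
      have h5 := mul_le_mul h3 h3 h4 hb0
      nlinarith

/-- Two proper elements with lines of different sizes. -/
theorem two_proper_mixed {n r m M mu mv mw : ℕ} (hr : 2 ≤ r) (hM : 0 < M)
    (hinu : (mu : ℤ) * (((r : ℤ) ^ 2 + 1) - (r + 1)) = (r + 1) * r * (M : ℤ) ^ 2)
    (hinv : (mv : ℤ) * (((r : ℤ) ^ 3 + 1) - (r + 1)) = (r + 1) * r * (M : ℤ) ^ 2)
    (houtu : (m : ℤ) * ((n : ℤ) - ((r : ℤ) ^ 2 + 1)) = ((r : ℤ) ^ 2 + 1) * r ^ 2 * (mu : ℤ) ^ 2)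
    (houtv : (m : ℤ) * ((n : ℤ) - ((r : ℤ) ^ 3 + 1)) = ((r : ℤ) ^ 3 + 1) * r ^ 3 * (mv : ℤ) ^ 2)
    (houtw : (m : ℤ) * ((n : ℤ) - (r + 1)) = (r + 1) * r * (mw : ℤ) ^ 2)
    (hW : m * M ^ 2 = mu * mv * mw) : False := by
  have hW' : (m : ℤ) * (M : ℤ) ^ 2 = (mu : ℤ) * mv * mw := by exact_mod_cast hW
  have hr' : (2 : ℤ) ≤ r := by exact_mod_cast hr
  have hM0 : (M : ℤ) ^ 2 ≠ 0 := pow_ne_zero _ (by exact_mod_cast hM.ne')
  have hr0 : (r : ℤ) ≠ 0 := by omega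
  have hmuv : (mu : ℤ) = mv * (r + 1) := by
    have h1 : (mu : ℤ) * (r * (r - 1)) = mv * (r + 1) * (r * (r - 1)) := by
      linear_combination hinu - hinv
    exact mul_right_cancel₀ (mul_ne_zero hr0 (by omega)) h1
  have hmv : (mv : ℤ) ≠ 0 := by
    intro e
    rw [e, zero_mul] at hinv
    exact mul_ne_zero (mul_ne_zero (by omega) hr0) hM0 hinv.symm
  set A : ℤ := (r + 1) * r with hA
  have e1 : A * mw * mw - ((r : ℤ) ^ 2 + 1) * r ^ 2 * mu * mu = A * mv * mw := by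
    apply mul_right_cancel₀ hM0
    linear_combination ((M : ℤ) ^ 2) * (houtu - houtw) + ((r : ℤ) ^ 2 - r) * hW' +
      (mv : ℤ) * mw * hinu
  have e2 : A * mw * mw - ((r : ℤ) ^ 3 + 1) * r ^ 3 * mv * mv = A * mu * mw := by
    apply mul_right_cancel₀ hM0
    linear_combination ((M : ℤ) ^ 2) * (houtv - houtw) + ((r : ℤ) ^ 3 - r) * hW' +
      (mu : ℤ) * mw * hinv
  rw [hmuv] at e1 e2
  have e3 : (mw : ℤ) = (2 * r ^ 2 + 1) * mv := by
    apply mul_right_cancel₀ (mul_ne_zero (mul_ne_zero (mul_ne_zero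
      (show ((r : ℤ) + 1) ≠ 0 by omega) hr0) hr0) hmv)
    linear_combination e1 - e2
  rw [e3] at e1
  have e4 : (r + 1 : ℤ) * r * (mv : ℤ) ^ 2 *
      ((2 * (r : ℤ) ^ 2 + 1) * (2 * r ^ 2) - ((r : ℤ) ^ 2 + 1) * r * (r + 1)) = 0 := by
    linear_combination e1
  rcases mul_eq_zero.1 e4 with h | h
  · exact mul_ne_zero (mul_ne_zero (by omega) hr0) (pow_ne_zero _ hmv) h
  · nlinarith [sq_nonneg ((r : ℤ) ^ 2 - r), mul_le_mul hr' hr' (by norm_num) (by omega)]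

/-- Three proper elements have lines of size `r ^ 3 + 1`. -/
theorem three_proper {n r m M : ℕ} (fe me : Fin 3 → ℕ) (k : ℕ) (hk : r = 2 ^ k) (hk0 : 1 ≤ k)
    (htype : ∀ i, fe i = r ^ 2 + 1 ∨ (fe i = r ^ 3 + 1 ∧ 4 ≤ r)) (hM : 0 < M)
    (hin : ∀ i, (me i : ℤ) * ((fe i : ℤ) - (r + 1)) = (r + 1) * r * (M : ℤ) ^ 2)
    (hout : ∀ i, (m : ℤ) * ((n : ℤ) - fe i) = (fe i : ℤ) * ((fe i : ℤ) - 1) * (me i : ℤ) ^ 2)
    (hW : m * M ^ 2 = me 0 * me 1 * me 2) :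
    (∀ i, fe i = r ^ 3 + 1) ∧ 4 ≤ r ∧
      (n : ℤ) - ((r : ℤ) ^ 3 + 1) = ((r : ℤ) ^ 3 + 1) * r ^ 3 * (r - 1) := by
  have hr2 : 2 ≤ r := hk ▸ (Nat.le_self_pow (by omega) 2)
  have hr : (2 : ℤ) ≤ r := by exact_mod_cast hr2
  have hM0 : (M : ℤ) ≠ 0 := by exact_mod_cast hM.ne'
  have hr0 : (r : ℤ) ≠ 0 := by omega
  have hA0 : ((r : ℤ) + 1) * r ≠ 0 := mul_ne_zero (by omega) hr0
  have hW' : (m : ℤ) * (M : ℤ) ^ 2 = (me 0 : ℤ) * me 1 * me 2 := by exact_mod_cast hW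
  -- `n - fe i` in terms of the sizes
  have hn : ∀ i, ((r : ℤ) + 1) * r * ((fe i : ℤ) - (r + 1)) ^ 2 * ((n : ℤ) - fe i) =
      (fe i : ℤ) * ((fe i : ℤ) - 1) * (((fe 0 : ℤ) - (r + 1)) * ((fe 1 : ℤ) - (r + 1)) *
        ((fe 2 : ℤ) - (r + 1))) := by
    intro i
    set A : ℤ := (r + 1) * r
    set g := fun i => (fe i : ℤ) - (r + 1) with hg
    have hm : (m : ℤ) * (g 0 * g 1 * g 2) = A ^ 3 * (M : ℤ) ^ 4 := by
      apply mul_right_cancel₀ (pow_ne_zero 2 hM0)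
      have := congrArg₂ (· * ·) (congrArg₂ (· * ·) (hin 0) (hin 1)) (hin 2)
      linear_combination (g 0 * g 1 * g 2) * hW' + this
    have ho : A ^ 2 * (M : ℤ) ^ 4 * ((fe i : ℤ) * ((fe i : ℤ) - 1)) =
        (m : ℤ) * ((n : ℤ) - fe i) * g i ^ 2 := by
      rw [hout i]
      have := congrArg₂ (· * ·) (hin i) (hin i)
      linear_combination -((fe i : ℤ) * ((fe i : ℤ) - 1)) * this
    apply mul_right_cancel₀ (mul_ne_zero (pow_ne_zero 2 hA0) (pow_ne_zero 4 hM0))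
    linear_combination (-((n : ℤ) - fe i) * g i ^ 2) * hm - (g 0 * g 1 * g 2) * ho
  have hodd : ¬ 2 ∣ r + 1 := by
    have : 2 ∣ r := by rw [hk]; exact dvd_pow_self 2 (by omega)
    omega
  have e0 := hn 0
  have e1 := hn 1
  have e2 := hn 2
  rcases htype 0 with h0 | ⟨h0, h0'⟩ <;> rcases htype 1 with h1 | ⟨h1, h1'⟩ <;>
    rcases htype 2 with h2 | ⟨h2, h2'⟩ <;> rw [h0, h1, h2] at e0 e1 e2 <;> push_cast at e0 e1 e2
  · exact (no_three_squares hr hodd e0).elim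
  · exact (no_two_squares h2' hodd e2).elim
  · exact (no_two_squares (n := n) h1' hodd (by linear_combination e1)).elim
  · exact (no_one_square (n := n) hr e0 (by linear_combination e1)).elim
  · exact (no_two_squares (n := n) h0' hodd (by linear_combination e0)).elim
  · exact (no_one_square (n := n) hr (by linear_combination e1) (by linear_combination e0)).elim
  · exact (no_one_square (n := n) hr (by linear_combination e2) (by linear_combination e0)).elim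
  · refine ⟨fun i => by fin_cases i <;> assumption, h0', ?_⟩
    apply mul_left_cancel₀ (mul_ne_zero hA0 (pow_ne_zero 2
      (show (r : ℤ) ^ 3 + 1 - (r + 1) ≠ 0 by nlinarith [mul_le_mul hr hr (by norm_num) (by omega)])))
    linear_combination e0
where
  no_three_squares {n r : ℕ} (hr : (2 : ℤ) ≤ r) (hodd : ¬ 2 ∣ r + 1)
      (e : ((r : ℤ) + 1) * r * ((r : ℤ) ^ 2 + 1 - (r + 1)) ^ 2 * ((n : ℤ) - ((r : ℤ) ^ 2 + 1)) =
        ((r : ℤ) ^ 2 + 1) * ((r : ℤ) ^ 2 + 1 - 1) * (((r : ℤ) ^ 2 + 1 - (r + 1)) *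
          ((r : ℤ) ^ 2 + 1 - (r + 1)) * ((r : ℤ) ^ 2 + 1 - (r + 1)))) : False := by
    have h1 : ((r : ℤ) + 1) * ((n : ℤ) - ((r : ℤ) ^ 2 + 1)) =
        ((r : ℤ) ^ 2 + 1) * r ^ 2 * (r - 1) := by
      apply mul_right_cancel₀ (mul_ne_zero (show (r : ℤ) ≠ 0 by omega)
        (pow_ne_zero 2 (show (r : ℤ) ^ 2 + 1 - (r + 1) ≠ 0 by nlinarith)))
      linear_combination e
    have h4 : ((r : ℤ) + 1) ∣ 4 := by
      have : (4 : ℤ) = ((r : ℤ) + 1) * ((r : ℤ) ^ 4 - 2 * r ^ 3 + 3 * r ^ 2 - 4 * r + 4) -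
          ((r : ℤ) ^ 2 + 1) * r ^ 2 * (r - 1) := by ring
      rw [this, ← h1]
      exact dvd_sub (dvd_mul_right _ _) (dvd_mul_right _ _)
    have h4' : r + 1 ∣ 4 := by exact_mod_cast h4
    have := Nat.le_of_dvd (by norm_num) h4'
    have hr' : 2 ≤ r := by exact_mod_cast hr
    have : r ≤ 3 := by omega
    interval_cases r <;> omega
  no_two_squares {n r : ℕ} (hr : 4 ≤ r) (hodd : ¬ 2 ∣ r + 1)
      (e : ((r : ℤ) + 1) * r * ((r : ℤ) ^ 3 + 1 - (r + 1)) ^ 2 * ((n : ℤ) - ((r : ℤ) ^ 3 + 1)) =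
        ((r : ℤ) ^ 3 + 1) * ((r : ℤ) ^ 3 + 1 - 1) * (((r : ℤ) ^ 2 + 1 - (r + 1)) *
          ((r : ℤ) ^ 2 + 1 - (r + 1)) * ((r : ℤ) ^ 3 + 1 - (r + 1)))) : False := by
    have hr' : (4 : ℤ) ≤ r := by exact_mod_cast hr
    have h1 : ((r : ℤ) + 1) * ((n : ℤ) - ((r : ℤ) ^ 3 + 1)) =
        r ^ 3 * (r - 1) * ((r : ℤ) ^ 2 - r + 1) := by
      apply mul_right_cancel₀ (mul_ne_zero (mul_ne_zero
        (pow_ne_zero 2 (show ((r : ℤ) + 1) ≠ 0 by omega))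
        (pow_ne_zero 3 (show (r : ℤ) ≠ 0 by omega)))
        (pow_ne_zero 2 (show (r : ℤ) - 1 ≠ 0 by omega)))
      linear_combination e
    have h6 : ((r : ℤ) + 1) ∣ 6 := by
      have : (6 : ℤ) = r ^ 3 * (r - 1) * ((r : ℤ) ^ 2 - r + 1) -
          ((r : ℤ) + 1) * ((r : ℤ) ^ 5 - 3 * r ^ 4 + 5 * r ^ 3 - 6 * r ^ 2 + 6 * r - 6) := by ring
      rw [this, ← h1]
      exact dvd_sub (dvd_mul_right _ _) (dvd_mul_right _ _)
    have h6' : r + 1 ∣ 6 := by exact_mod_cast h6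
    have := Nat.le_of_dvd (by norm_num) h6'
    have : r ≤ 5 := by omega
    interval_cases r <;> omega
  no_one_square {n r : ℕ} (hr : (2 : ℤ) ≤ r)
      (e : ((r : ℤ) + 1) * r * ((r : ℤ) ^ 2 + 1 - (r + 1)) ^ 2 * ((n : ℤ) - ((r : ℤ) ^ 2 + 1)) =
        ((r : ℤ) ^ 2 + 1) * ((r : ℤ) ^ 2 + 1 - 1) * (((r : ℤ) ^ 2 + 1 - (r + 1)) *
          ((r : ℤ) ^ 3 + 1 - (r + 1)) * ((r : ℤ) ^ 3 + 1 - (r + 1))))
      (e' : ((r : ℤ) + 1) * r * ((r : ℤ) ^ 3 + 1 - (r + 1)) ^ 2 * ((n : ℤ) - ((r : ℤ) ^ 3 + 1)) =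
        ((r : ℤ) ^ 3 + 1) * ((r : ℤ) ^ 3 + 1 - 1) * (((r : ℤ) ^ 2 + 1 - (r + 1)) *
          ((r : ℤ) ^ 3 + 1 - (r + 1)) * ((r : ℤ) ^ 3 + 1 - (r + 1)))) : False := by
    have hg : ((r : ℤ) ^ 3 + 1 - (r + 1)) ≠ 0 := by nlinarith
    have h1 : (n : ℤ) = (r : ℤ) ^ 6 + 1 := by
      have hg1 : ((r : ℤ) ^ 2 + 1 - (r + 1)) ≠ 0 := by nlinarith
      apply mul_left_cancel₀ (mul_ne_zero (mul_ne_zero (show ((r : ℤ) + 1) ≠ 0 by omega)
        (show (r : ℤ) ≠ 0 by omega)) (pow_ne_zero 2 hg1))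
      linear_combination e
    have h2 : (n : ℤ) = (r : ℤ) ^ 6 - 2 * r ^ 5 + 2 * r ^ 4 + 1 := by
      apply mul_left_cancel₀ (mul_ne_zero (mul_ne_zero (show ((r : ℤ) + 1) ≠ 0 by omega)
        (show (r : ℤ) ≠ 0 by omega)) (pow_ne_zero 2 hg))
      linear_combination e'
    nlinarith [pow_pos (show (0 : ℤ) < r by omega) 4]

end Cfsg.Agent.H29.Asch
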