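import Cfsg.Agent.H29.Asch.UUU
import Cfsg.Agent.H29.Asch.ProperArith
import Cfsg.Agent.H30.Asch.NoneProperCover

/-!
The elements of a four group of bad involutions with two common fixed points have the same fixed
points (`notes/helper30_asch_rank_v2.md`, sections 2 and 3).
-/

set_option autoImplicit false
set_option linter.style.haveILetI false

namespace Cfsg.Agent.H29.Asch

open Subgroup MulAction
open Cfsg.Agent.H14.Asch
open Cfsg.Agent.H39
open Cfsg.Agent.H73.Asch (RankTwoBad Line2 HasLines2)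
open Cfsg.Agent.H30.Asch (fix2 fix2_comm fix2_mul pairSwap pairSwap_comm pairSwap_mul Quad SameFix)
open scoped Pointwise

universe u v

variable {G : Type u} [Group G] [Finite G] {Ω : Type v} [MulAction G Ω] [Finite Ω] {D : Set G}

omit [Finite Ω] in
/-- A line invariant under a commuting involution. -/
theorem exists_invariant_line (h : Crit G Ω D) (hL : HasLines2 Ω D) {u v : G}
    (hv : RankTwoBad Ω D v) (hu : orderOf u = 2) (huv : Commute u v) {x : Ω} (hvx : v • x = x)
    (hux : u • x = x) :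
    ∃ E Q : Subgroup G, Line2 D v x E Q ∧ ∀ g ∈ Q, u * g * u⁻¹ ∈ Q := by
  obtain ⟨E₁, Q₁, hl₁⟩ := hL v x hv hvx
  set L := lineGroup D v ⊓ stabilizer G x with hLdef
  have huu := mul_self_of_orderOf_eq_two hu
  have hgen : ∀ b ∈ lineGroup D v, u * b * u⁻¹ ∈ lineGroup D v := by
    intro b hb
    induction hb using Subgroup.closure_induction with
    | mem d hd =>
      refine mem_lineGroup (h.conj_mem hd.1 u) ?_
      exact (huv.mul_left (mem_centralizer_singleton_iff.mp hd.2 : Commute d v)).mul_left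
        huv.inv_left
    | one => simp
    | mul a b _ _ iha ihb =>
      rw [show u * (a * b) * u⁻¹ = (u * a * u⁻¹) * (u * b * u⁻¹) by group]
      exact mul_mem iha ihb
    | inv a _ iha =>
      rw [show u * a⁻¹ * u⁻¹ = (u * a * u⁻¹)⁻¹ by group]
      exact inv_mem iha
  have hfwd : ∀ a ∈ L, u * a * u⁻¹ ∈ L := fun a ha => ⟨hgen a ha.1, mem_stabilizer_iff.2 (by
    rw [mul_smul, mul_smul, inv_smul_eq_iff.2 hux.symm, mem_stabilizer_iff.1 ha.2, hux])⟩
  have huL : zpowers u ≤ normalizer (L : Set G) := zpowers_le.2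
    (mem_normalizer_of_subset hfwd fun a ha => by
      rw [inv_eq_of_mul_eq_one_left huu]
      have := hfwd a ha
      rwa [inv_eq_of_mul_eq_one_left huu] at this)
  obtain ⟨P, hPp, hPL, huP, hmax, -⟩ :=
    exists_invariant_two_group (isPGroup_zpowers_two hu) huL
  obtain ⟨k, hk, hkP⟩ := hl₁.sylow P hPp hPL
  have hPk : P = MulAut.conj k • Q₁ := eq_of_le_of_card_ge hkP (by
    rw [← Nat.card_congr (Subgroup.equivSMul (MulAut.conj k) Q₁).toEquiv]
    exact hmax Q₁ hl₁.isPGroup hl₁.Q_le)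
  have hl := line2_conj hl₁ h hk
  rw [← hPk] at hl
  exact ⟨_, P, hl, fun g hg => (mem_normalizer_iff.1 (huP (mem_zpowers u)) g).1 hg⟩

variable {u v : G} {x y : Ω}

/-- The sizes for a proper element. -/
theorem types (hq : Quad Ω D u v x y) (h : Crit G Ω D) (hL : HasLines2 Ω D)
    (hp : Nat.card (fix2 Ω u v) < Nat.card (fixedBy Ω v)) :
    ∃ k, 1 ≤ k ∧ Nat.card (fix2 Ω u v) = 2 ^ k + 1 ∧
      (Nat.card (fixedBy Ω v) = (2 ^ k) ^ 2 + 1 ∨
        (Nat.card (fixedBy Ω v) = (2 ^ k) ^ 3 + 1 ∧ 4 ≤ 2 ^ k)) := by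
  obtain ⟨E, Q, hl, huQ⟩ := exists_invariant_line h hL hq.bv hq.bu.1 hq.comm hq.hx.2 hq.hx.1
  have hC := line2_card_centralizer hl huQ hq.comm hq.hx.1 hq.hy.2 hq.ne.symm hq.hy.1
  rw [show {p : Ω | v • p = p ∧ u • p = p} = fix2 Ω v u from rfl, fix2_comm v u] at hC
  have hQ := line2_card_Q hl hq.hy.2 hq.ne.symm
  haveI : Fact (Nat.Prime 2) := ⟨Nat.prime_two⟩
  obtain ⟨k, hk⟩ :=
    IsPGroup.iff_card.mp (hl.isPGroup.to_le (inf_le_left : Q ⊓ centralizer {u} ≤ Q))
  have hmove : ∃ g ∈ Q, ¬ Commute g u := by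
    by_contra hall
    push Not at hall
    have hle : Q ≤ Q ⊓ centralizer {u} := fun g hg =>
      ⟨hg, mem_centralizer_singleton_iff.2 (hall g hg).eq⟩
    have := Nat.le_of_dvd Nat.card_pos (card_dvd_of_le hle)
    omega
  have h4 := hl.four_le
  refine ⟨k, ?_, by omega, ?_⟩
  · by_contra hk0
    have : k = 0 := by omega
    subst this
    rcases (line2_centralizer_cases hl hq.hy.2 hq.ne.symm huQ
      (mul_self_of_orderOf_eq_two hq.bu.1) hq.comm hq.hx.1 hq.hy.1 h hmove).1 with hs | ⟨-, hE, -⟩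
    · rw [hk, pow_zero, one_pow] at hs
      rw [hk] at hC
      omega
    · omega
  · rcases (line2_centralizer_cases hl hq.hy.2 hq.ne.symm huQ
      (mul_self_of_orderOf_eq_two hq.bu.1) hq.comm hq.hx.1 hq.hy.1 h hmove).1 with hs | ⟨-, hE, hc⟩
    · rw [hk] at hs
      exact Or.inl (by omega)
    · rw [← hE, hk] at hc h4
      exact Or.inr ⟨by omega, h4⟩

/-- Not exactly two elements of the four group have further fixed points. -/
theorem not_two_proper (hq : Quad Ω D u v x y) (h : Crit G Ω D) (hL : HasLines2 Ω D)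
    (hu : Nat.card (fix2 Ω u v) < Nat.card (fixedBy Ω u))
    (hv : Nat.card (fix2 Ω u v) < Nat.card (fixedBy Ω v))
    (hw : Nat.card (fixedBy Ω (u * v)) = Nat.card (fix2 Ω u v)) : False := by
  obtain ⟨k, hk0, hf, htype⟩ := types hq h hL hv
  have heq := hq.card_eq_of_proper h hL hu hv
  have e1 := hq.out h hL
  have e1' := hq.symm.out h hL
  have e3 := hq.rot.symm.out h hL
  rw [hw] at e3
  have i1 := hq.inn h hL hv
  have i2 := hq.symm.inn h hL (by rwa [fix2_comm v u])
  rw [fix2_comm v u, pairSwap_comm v u, heq, ← i1] at i2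
  have hne : (Nat.card (fixedBy Ω v) : ℤ) - Nat.card (fix2 Ω u v) ≠ 0 := by
    have : (Nat.card (fix2 Ω u v) : ℤ) < Nat.card (fixedBy Ω v) := by exact_mod_cast hv
    omega
  have hm := mul_right_cancel₀ hne i2
  have hW := hq.wielandt h
  rw [hm] at hW
  rw [hf] at e3 i1
  push_cast at e3 i1
  refine two_proper_same (n := Nat.card Ω) (r := 2 ^ k) (m := Nat.card (swappers D x x))
    (M := Nat.card (pairSwap D u v x x)) (mu := Nat.card (commSwap D v x x))
    (mw := Nat.card (commSwap D (u * v) x x)) k rfl hk0 htype (hq.pos h) ?_ e1 ?_ ?_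
  · push_cast
    linear_combination i1
  · push_cast
    linear_combination e3
  · exact_mod_cast hW

/-- Not all three elements of the four group have further fixed points. -/
theorem not_three_proper (hq : Quad Ω D u v x y) (h : Crit G Ω D) (hL : HasLines2 Ω D)
    (hu : Nat.card (fix2 Ω u v) < Nat.card (fixedBy Ω u))
    (hv : Nat.card (fix2 Ω u v) < Nat.card (fixedBy Ω v))
    (hw : Nat.card (fix2 Ω u v) < Nat.card (fixedBy Ω (u * v))) : False := by
  have hvv := mul_self_of_orderOf_eq_two hq.bv.1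
  obtain ⟨k, hk0, hf, hty⟩ := types hq h hL hv
  have h1 := hq.card_eq_of_proper h hL hu hv
  have h2 : Nat.card (fixedBy Ω (u * v)) = Nat.card (fixedBy Ω v) :=
    hq.rot.card_eq_of_proper h hL (by rwa [fix2_mul u v hvv]) (by rwa [fix2_mul u v hvv])
  have ev := hq.out h hL
  have eu := hq.symm.out h hL
  have ew := hq.rot.symm.out h hL
  rw [h1] at eu
  rw [h2] at ew
  have iv := hq.inn h hL hv
  have iu := hq.symm.inn h hL (by rwa [fix2_comm v u])
  have iw := hq.rot.symm.inn h hL (by rwa [fix2_comm v, fix2_mul u v hvv])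
  rw [fix2_comm v u, pairSwap_comm v u, h1] at iu
  rw [fix2_comm v, fix2_mul u v hvv, pairSwap_comm v, pairSwap_mul u v hvv, h2] at iw
  rw [hf] at iu iv iw
  push_cast at iu iv iw
  have hW := hq.wielandt h
  obtain ⟨hall, hr4, -⟩ := three_proper (n := Nat.card Ω) (r := 2 ^ k)
    (m := Nat.card (swappers D x x)) (M := Nat.card (pairSwap D u v x x))
    (fun _ => Nat.card (fixedBy Ω v))
    ![Nat.card (commSwap D u x x), Nat.card (commSwap D v x x),
      Nat.card (commSwap D (u * v) x x)] k rfl hk0 (fun _ => hty) (hq.pos h)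
    (fun i => by
      fin_cases i
      · simpa using (by linear_combination iu :
          (Nat.card (commSwap D u x x) : ℤ) * ((Nat.card (fixedBy Ω v) : ℤ) - (2 ^ k + 1)) =
            (2 ^ k + 1) * 2 ^ k * (Nat.card (pairSwap D u v x x) : ℤ) ^ 2)
      · simpa using (by linear_combination iv :
          (Nat.card (commSwap D v x x) : ℤ) * ((Nat.card (fixedBy Ω v) : ℤ) - (2 ^ k + 1)) =
            (2 ^ k + 1) * 2 ^ k * (Nat.card (pairSwap D u v x x) : ℤ) ^ 2)
      · simpa using (by linear_combination iw :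
          (Nat.card (commSwap D (u * v) x x) : ℤ) * ((Nat.card (fixedBy Ω v) : ℤ) - (2 ^ k + 1)) =
            (2 ^ k + 1) * 2 ^ k * (Nat.card (pairSwap D u v x x) : ℤ) ^ 2))
    (fun i => by fin_cases i <;> simpa)
    (by exact_mod_cast hW)
  have hv3 := hall 0
  exact false_of_three_cubes h hL hq.bu hq.bv hq.bw hq.comm hq.ne hq.hx.1 hq.hy.1 hq.hx.2 hq.hy.2
    hr4 (h1.trans hv3) hv3 (h2.trans hv3) hf

/-- **Commuting bad involutions with two common fixed points have the same fixed points.** -/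
theorem sameFix (h : Crit G Ω D) (hL : HasLines2 Ω D) : SameFix Ω D := by
  intro u v x y hq
  have huu := mul_self_of_orderOf_eq_two hq.bu.1
  have hvv := mul_self_of_orderOf_eq_two hq.bv.1
  have hset : ∀ {s : Set Ω}, fix2 Ω u v ⊆ s →
      Nat.card (fix2 Ω u v) = Nat.card s → fix2 Ω u v = s := fun hs hc =>
    Set.eq_of_subset_of_ncard_le hs (by
      rw [← Nat.card_coe_set_eq, ← Nat.card_coe_set_eq, hc]) (Set.toFinite _)
  have h1 : Nat.card (fix2 Ω u v) ≤ Nat.card (fixedBy Ω u) := by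
    have := hq.symm.card_le
    rwa [fix2_comm v u] at this
  have h2 := hq.card_le
  have h3 : Nat.card (fix2 Ω u v) ≤ Nat.card (fixedBy Ω (u * v)) := by
    have := hq.rot.symm.card_le
    rwa [fix2_comm v, fix2_mul u v hvv] at this
  have hwu : (v * u) * u = v := by rw [mul_assoc, huu, mul_one]
  have hfu : fix2 Ω u (v * u) = fix2 Ω u v := by
    rw [fix2_comm, fix2_mul v u huu, fix2_comm]
  rcases h1.lt_or_eq with pu | pu <;> rcases h2.lt_or_eq with pv | pv <;>
    rcases h3.lt_or_eq with pw | pw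
  · exact (not_three_proper hq h hL pu pv pw).elim
  · exact (not_two_proper hq h hL pu pv pw.symm).elim
  · exfalso
    refine not_two_proper hq.symm.rot.symm h hL ?_ ?_ ?_
    · rwa [hfu]
    · rwa [hfu, ← hq.comm.eq]
    · rw [hfu, hq.comm.eq.symm, ← mul_assoc, huu, one_mul]; exact pv.symm
  · exfalso
    refine hq.symm.not_one_proper h hL ?_ (pv.symm.trans (by rw [fix2_comm v u])) ?_
    · rwa [fix2_comm v u]
    · rw [← hq.comm.eq]; exact (by rw [fix2_comm v u]; exact pw.symm)
  · exfalso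
    refine not_two_proper hq.rot h hL ?_ ?_ ?_
    · rwa [fix2_mul u v hvv]
    · rwa [fix2_mul u v hvv]
    · rw [fix2_mul u v hvv, mul_assoc, hvv, mul_one]; exact pu.symm
  · exfalso
    exact hq.not_one_proper h hL pv pu.symm pw.symm
  all_goals exact (hset (fun p hp => hp.1) pu).symm.trans (hset (fun p hp => hp.2) pv)

end Cfsg.Agent.H29.Asch
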