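import Mathlib.GroupTheory.Sylow
import Mathlib.GroupTheory.IndexNormal

/-!
A Sylow 2-subgroup of the centraliser of an elementary abelian normal subgroup `W`, transitively
permuted, cannot be `W` times a group which centralises an involution moving `W` and contains an
element whose square is a non-trivial element of `W`.
-/

set_option autoImplicit false

namespace Cfsg.Agent.H29.Asch

open Subgroup

/-- The square lemma. -/
theorem false_of_squares {X : Type*} [Group X] [Finite X] (W : Subgroup X) [W.Normal]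
    (hW2 : ∀ w ∈ W, w * w = 1) (htr : ∀ a ∈ W, ∀ b ∈ W, a ≠ 1 → b ≠ 1 → ∃ x : X, x * a * x⁻¹ = b)
    {u : X} (hu : ∃ w ∈ W, ¬ Commute u w) (Q : Subgroup X) (hQW : Q ≤ centralizer (W : Set X))
    (hQu : ∀ g ∈ Q, Commute g u) (P : Sylow 2 (centralizer (W : Set X)))
    (hP : (P : Subgroup _).map (centralizer (W : Set X)).subtype = W ⊔ Q)
    {g : X} (hg : g ∈ Q) (hgW : g * g ∈ W) (hg1 : g * g ≠ 1) : False := by
  haveI : Fact (Nat.Prime 2) := ⟨Nat.prime_two⟩
  have hcen : ∀ k ∈ centralizer (W : Set X), ∀ w ∈ W, w * k = k * w := fun k hk w hw => mem_centralizer_iff.1 hk w hw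
  -- every square in `W ⊔ Q` commutes with `u`
  have hsq : ∀ p ∈ W ⊔ Q, Commute (p * p) u := by
    intro p hp
    rw [← SetLike.mem_coe, Subgroup.normal_mul] at hp
    obtain ⟨w, hw, q, hq, rfl⟩ := hp
    have h1 : w * q * (w * q) = q * q := by
      calc w * q * (w * q) = w * (q * w) * q := by group
        _ = w * (w * q) * q := by rw [← hcen q (hQW hq) w hw]
        _ = w * w * (q * q) := by group
        _ = q * q := by rw [hW2 w hw, one_mul]
    show Commute (w * q * (w * q)) u
    rw [h1]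
    exact (hQu q hq).mul_left (hQu q hq)
  obtain ⟨w₀, hw₀, hne⟩ := hu
  apply hne
  by_cases h0 : w₀ = 1
  · rw [h0]; exact Commute.one_right u
  obtain ⟨x, hx⟩ := htr _ hgW w₀ hw₀ hg1 h0
  -- `x` is an element of the centraliser times one normalising the Sylow subgroup
  have htop := P.normalizer_sup_eq_top
  have hxm : x ∈ normalizer (((P : Subgroup _).map (centralizer (W : Set X)).subtype : Subgroup X) : Set X) ⊔
      centralizer (W : Set X) :=
    htop ▸ mem_top x
  rw [← SetLike.mem_coe, Subgroup.mul_normal] at hxm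
  obtain ⟨n, hn, k, hk, rfl⟩ := hxm
  have hk' : k * (g * g) * k⁻¹ = g * g := by
    rw [← hcen k hk _ hgW, mul_inv_cancel_right]
  have hgP : g ∈ W ⊔ Q := le_sup_right (a := W) hg
  have hn' : n * g * n⁻¹ ∈ W ⊔ Q := by
    have hn2 : n ∈ normalizer ((W ⊔ Q : Subgroup X) : Set X) := by rw [← hP]; exact hn
    exact (Subgroup.mem_normalizer_iff.1 hn2 g).1 hgP
  have e : w₀ = n * g * n⁻¹ * (n * g * n⁻¹) := by
    rw [← hx]
    calc n * k * (g * g) * (n * k)⁻¹ = n * (k * (g * g) * k⁻¹) * n⁻¹ := by group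
      _ = n * g * n⁻¹ * (n * g * n⁻¹) := by rw [hk']; group
  rw [e]
  exact (hsq _ hn').symm

end Cfsg.Agent.H29.Asch
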