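import Cfsg.Agent.H29.Asch.Semilinear
import Cfsg.Agent.H29.Asch.Square
import Cfsg.Agent.H1.Asch.Fusion

/-!
Piece D1 of the strong embedding criterion: an involution with two fixed points moving the group
generated by the members at one of them modulo an odd normal subgroup of the point stabiliser lies
outside `closure D`.  Only the size of a Sylow 2-subgroup of the centraliser of that group is used.
-/

set_option autoImplicit false
set_option linter.style.haveILetI false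
set_option maxHeartbeats 800000

namespace Cfsg.Agent.H29.Asch

open Subgroup MulAction
open Cfsg.Agent.H14.Asch
open Cfsg.Agent.H39

universe u v

variable {G : Type u} [Group G] [Finite G] {Ω : Type v} [MulAction G Ω] [Finite Ω] {D : Set G}

omit [Finite G] in
/-- A number dividing every orbit other than that of `x` divides the number of the other points. -/
theorem dvd_card_sub_one (x : Ω) {d : ℕ}
    (hd : ∀ C : Ω, C ≠ x → d ∣ Nat.card (orbit (stabilizer G x) C)) : d ∣ Nat.card Ω - 1 := by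
  classical
  haveI := Fintype.ofFinite Ω
  have hsum := Nat.card_congr (MulAction.selfEquivSigmaOrbits (stabilizer G x) Ω)
  rw [Nat.card_sigma, ← Finset.add_sum_erase _ _ (Finset.mem_univ
    (Quotient.mk'' x : orbitRel.Quotient (stabilizer G x) Ω))] at hsum
  have h1 : Nat.card (orbit (stabilizer G x)
      (Quotient.mk'' x : orbitRel.Quotient (stabilizer G x) Ω).out) = 1 := by
    obtain ⟨g, hg⟩ := Quotient.exact'
      (Quotient.out_eq' (Quotient.mk'' x : orbitRel.Quotient (stabilizer G x) Ω))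
    have hout : (Quotient.mk'' x : orbitRel.Quotient (stabilizer G x) Ω).out = x := by
      rw [← hg]; exact g.2
    rw [hout]
    haveI : Subsingleton (orbit (stabilizer G x) x) := ⟨fun ⟨a, ⟨g, ha⟩⟩ ⟨b, ⟨g', hb⟩⟩ =>
      Subtype.ext (ha.symm.trans (g.2.trans (g'.2.symm.trans hb)))⟩
    exact Nat.card_eq_one_iff_unique.2 ⟨inferInstance, ⟨⟨x, mem_orbit_self x⟩⟩⟩
  rw [hsum, h1, Nat.add_sub_cancel_left]
  refine Finset.dvd_sum fun ω hω => hd _ fun e => (Finset.mem_erase.1 hω).1 ?_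
  rw [← Quotient.out_eq' ω, e]

variable (h : Crit G Ω D) {x : Ω} (N : Subgroup (stabilizer G x)) [N.Normal]
  (W : Subgroup (stabilizer G x ⧸ N)) [W.Normal]
  (hW2 : ∀ w ∈ W, w * w = 1)
  (hmem : ∀ (d : G) (hd : d • x = x), d ∈ D → (QuotientGroup.mk ⟨d, hd⟩ : _ ⧸ N) ∈ W)
  (htr : ∀ C : Ω, C ≠ x → ∀ a ∈ W, ∀ b ∈ W, a ≠ 1 → b ≠ 1 → ∃ (k : G) (hk : k • x = x),
    k ∈ pairCore G x C ∧ (QuotientGroup.mk ⟨k, hk⟩ : _ ⧸ N) * a * (QuotientGroup.mk ⟨k, hk⟩)⁻¹ = b)
  (hfree : ∀ (t : G) (ht : t • x = x), orderOf t = 2 → ∀ C : Ω, C ≠ x → t • C = C →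
    ¬ ∀ w ∈ W, Commute (QuotientGroup.mk ⟨t, ht⟩ : _ ⧸ N) w)

include hW2 hfree in
omit [Finite Ω] in
/-- A 2-group centralising `W` is semiregular off `x`. -/
theorem eq_one_of_fix {P : Subgroup (stabilizer G x)} (hP2 : IsPGroup 2 P)
    (hPW : ∀ p ∈ P, ∀ w ∈ W, Commute (p : _ ⧸ N) w) {p : stabilizer G x} (hp : p ∈ P) {C : Ω}
    (hC : C ≠ x) (hpC : p • C = C) : p = 1 := by
  by_contra hp1
  haveI : Fact (Nat.Prime 2) := ⟨Nat.prime_two⟩
  have hz2 : IsPGroup 2 (zpowers p) := hP2.to_le (zpowers_le.2 hp)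
  have h2 : 2 ∣ Nat.card (zpowers p) := by
    obtain ⟨n, hn⟩ := IsPGroup.iff_card.1 hz2
    rw [hn]
    refine dvd_pow_self 2 fun hn0 => hp1 ?_
    rw [hn0, pow_zero, Nat.card_zpowers, orderOf_eq_one_iff] at hn
    exact hn
  obtain ⟨⟨t, ht⟩, ht2⟩ := exists_prime_orderOf_dvd_card' 2 h2
  rw [Subgroup.orderOf_mk, ← Subgroup.orderOf_coe] at ht2
  refine hfree t t.2 ht2 C hC ?_ (hPW t (zpowers_le.2 hp ht))
  exact (zpowers_le.2 (show p ∈ stabilizer (stabilizer G x) C from hpC)) ht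

include h hW2 hmem htr hfree in
/-- The parity kill, from a 2-group of odd index in an orbit. -/
theorem not_mem_closure_of_orbit {u : G} (hu : orderOf u = 2) (hux : u • x = x) {y : Ω}
    (hy : y ≠ x) (huy : u • y = y) (P : Subgroup (stabilizer G x)) (hP2 : IsPGroup 2 P)
    (hPW : ∀ p ∈ P, ∀ w ∈ W, Commute (p : _ ⧸ N) w) {C : Ω} (hC : C ≠ x)
    (hdiv : ¬ 2 * Nat.card P ∣ Nat.card (orbit (stabilizer G x) C)) : u ∉ closure D := by
  classical
  haveI : Fact (Nat.Prime 2) := ⟨Nat.prime_two⟩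
  let u₀ : ↥(stabilizer G x) := ⟨u, hux⟩
  obtain ⟨w₀, hw₀, huw₀⟩ : ∃ w ∈ W, ¬ Commute (u₀ : ↥(stabilizer G x) ⧸ N) w := by
    by_contra hall
    push Not at hall
    exact hfree u hux hu y hy huy hall
  letI : CommGroup W :=
    { (inferInstance : Group W) with
      mul_comm := fun a b => Subtype.ext (by
        show (a : ↥(stabilizer G x) ⧸ N) * b = b * a
        calc (a : ↥(stabilizer G x) ⧸ N) * b = (a * b)⁻¹ := eq_inv_of_mul_eq_one_left (hW2 _ (W.mul_mem a.2 b.2))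
          _ = (b : ↥(stabilizer G x) ⧸ N)⁻¹ * (a : ↥(stabilizer G x) ⧸ N)⁻¹ := mul_inv_rev _ _
          _ = b * a := by
            rw [← eq_inv_of_mul_eq_one_left (hW2 _ a.2), ← eq_inv_of_mul_eq_one_left (hW2 _ b.2)]) }
  letI : DistribMulAction ↥(stabilizer G x) (Additive W) :=
    { smul := fun g e => Additive.ofMul ⟨(g : ↥(stabilizer G x) ⧸ N) * (e.toMul : W) * (g : ↥(stabilizer G x) ⧸ N)⁻¹,
        (inferInstance : W.Normal).conj_mem _ e.toMul.2 _⟩
      one_smul := fun e => Additive.toMul.injective (Subtype.ext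
        (show ((1 : ↥(stabilizer G x)) : ↥(stabilizer G x) ⧸ N) * (e.toMul : W) * ((1 : ↥(stabilizer G x)) : ↥(stabilizer G x) ⧸ N)⁻¹ = (e.toMul : W) by simp))
      mul_smul := fun g g' e => Additive.toMul.injective (Subtype.ext
        (show ((g * g' : ↥(stabilizer G x)) : ↥(stabilizer G x) ⧸ N) * (e.toMul : W) * ((g * g' : ↥(stabilizer G x)) : ↥(stabilizer G x) ⧸ N)⁻¹ =
          (g : ↥(stabilizer G x) ⧸ N) * ((g' : ↥(stabilizer G x) ⧸ N) * (e.toMul : W) * (g' : ↥(stabilizer G x) ⧸ N)⁻¹) * (g : ↥(stabilizer G x) ⧸ N)⁻¹ by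
            simp [mul_assoc]))
      smul_zero := fun g => Additive.toMul.injective (Subtype.ext
        (show (g : ↥(stabilizer G x) ⧸ N) * ((1 : W) : ↥(stabilizer G x) ⧸ N) * (g : ↥(stabilizer G x) ⧸ N)⁻¹ = ((1 : W) : ↥(stabilizer G x) ⧸ N) by simp))
      smul_add := fun g e e' => Additive.toMul.injective (Subtype.ext
        (show (g : ↥(stabilizer G x) ⧸ N) * ((e.toMul * e'.toMul : W) : ↥(stabilizer G x) ⧸ N) * (g : ↥(stabilizer G x) ⧸ N)⁻¹ =
          ((g : ↥(stabilizer G x) ⧸ N) * (e.toMul : W) * (g : ↥(stabilizer G x) ⧸ N)⁻¹) *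
            ((g : ↥(stabilizer G x) ⧸ N) * (e'.toMul : W) * (g : ↥(stabilizer G x) ⧸ N)⁻¹) by simp [mul_assoc])) }
  haveI : Finite (AddMonoid.End (Additive W)) :=
    Finite.of_injective (fun f => (f : Additive W → Additive W)) DFunLike.coe_injective
  let τ : ↥(stabilizer G x) →* (AddMonoid.End (Additive W))ˣ :=
    (DistribMulAction.toAddMonoidEnd ↥(stabilizer G x) (Additive W)).toHomUnits
  have hτfix : ∀ (g : ↥(stabilizer G x)) (e : Additive W), τ g • e = e ↔ Commute (g : ↥(stabilizer G x) ⧸ N) (e.toMul : W) := by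
    intro g e
    constructor
    · intro hg
      have h' : (g : ↥(stabilizer G x) ⧸ N) * (e.toMul : W) * (g : ↥(stabilizer G x) ⧸ N)⁻¹ = (e.toMul : W) :=
        congrArg (fun e : Additive W => ((e.toMul : W) : ↥(stabilizer G x) ⧸ N)) hg
      exact mul_inv_eq_iff_eq_mul.1 h'
    · intro hg
      refine Additive.toMul.injective (Subtype.ext ?_)
      show (g : ↥(stabilizer G x) ⧸ N) * (e.toMul : W) * (g : ↥(stabilizer G x) ⧸ N)⁻¹ = (e.toMul : W)
      rw [hg.eq, mul_inv_cancel_right]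
  have hw1 : w₀ ≠ 1 := fun e => huw₀ (e ▸ Commute.one_right _)
  haveI : Nontrivial (Additive W) := ⟨Additive.ofMul ⟨w₀, hw₀⟩, 0, fun e =>
    hw1 (congrArg (fun e : Additive W => ((e.toMul : W) : ↥(stabilizer G x) ⧸ N)) e)⟩
  have hE : ∀ e : Additive W, 2 • e = 0 := fun e => Additive.toMul.injective (Subtype.ext (by
    show (((e.toMul : W) ^ 2 : W) : ↥(stabilizer G x) ⧸ N) = 1
    rw [Subgroup.coe_pow, sq]
    exact hW2 _ e.toMul.2))
  -- the image of the pair stabiliser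
  let A : Subgroup ↥(stabilizer G x) := (stabilizer G C).subgroupOf (stabilizer G x)
  let O : Subgroup ↥(stabilizer G x) := (pairCore G x C).subgroupOf (stabilizer G x)
  set M₀ : Subgroup (AddMonoid.End (Additive W))ˣ := A.map τ with hM₀
  set O₀ : Subgroup M₀ := (O.map τ).subgroupOf M₀ with hO₀
  have hOA : O ≤ A := fun g hg =>
    mem_subgroupOf.2 (pairCore_le x C (mem_subgroupOf.1 hg)).2
  haveI : O₀.Normal := by
    refine ⟨fun n hn m => ?_⟩
    obtain ⟨o, ho, hon⟩ := mem_subgroupOf.1 hn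
    obtain ⟨g, hg, hgm⟩ := m.2
    refine mem_subgroupOf.2 ⟨g * o * g⁻¹, ?_, by simp [hon, hgm]⟩
    obtain ⟨o', ho', hoo⟩ := mem_subgroupOf.1 ho
    haveI : (Cfsg.oddCore (pairStab G x C)).Normal := Cfsg.pPrimeCore_normal _ _
    exact mem_subgroupOf.2 ⟨(⟨(g : G), g.2, mem_subgroupOf.1 hg⟩ : pairStab G x C) * o' *
        (⟨(g : G), g.2, mem_subgroupOf.1 hg⟩ : pairStab G x C)⁻¹,
      Subgroup.Normal.conj_mem inferInstance _ ho' _, by simp [← hoo]⟩
  have hOodd : Odd (Nat.card O₀) := by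
    have h1 : Nat.card O₀ = Nat.card (O.map τ) :=
      Nat.card_congr (subgroupOfEquivOfLe (map_mono hOA)).toEquiv
    have h2 : Nat.card O = Nat.card (pairCore G x C) :=
      Nat.card_congr (subgroupOfEquivOfLe ((pairCore_le x C).trans inf_le_left)).toEquiv
    rw [h1]
    have h3 : Odd (Nat.card O) := by rw [h2]; exact odd_card_pairCore x C
    exact h3.of_dvd_nat (card_map_dvd O τ)
  have hOtr : ∀ a b : Additive W, a ≠ 0 → b ≠ 0 → ∃ o ∈ O₀, o • a = b := by
    intro a b ha hb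
    obtain ⟨k, hk, hkO, hkab⟩ := htr C hC _ a.toMul.2 _ b.toMul.2
      (fun e => ha (Additive.toMul.injective (Subtype.ext e)))
      (fun e => hb (Additive.toMul.injective (Subtype.ext e)))
    have hkm : τ ⟨k, hk⟩ ∈ M₀ := mem_map_of_mem _ (hOA (mem_subgroupOf.2 hkO))
    exact ⟨⟨_, hkm⟩, mem_subgroupOf.2 (mem_map_of_mem _ (mem_subgroupOf.2 hkO)),
      Additive.toMul.injective (Subtype.ext hkab)⟩
  obtain ⟨T, _, φ, -, hφ1, hφeq⟩ := exists_parity hE O₀ hOodd hOtr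
  -- a subgroup of odd index
  set M : Subgroup ↥(stabilizer G x) := M₀.comap τ with hM
  have hAM : A ≤ M := fun g hg => mem_map_of_mem _ hg
  have hPM : P ≤ M := fun p hp => by
    have : τ p = 1 := Units.ext (DFunLike.ext _ _ fun e =>
      (hτfix p e).2 (hPW p hp _ e.toMul.2))
    show τ p ∈ M₀
    rw [this]
    exact one_mem _
  have hA : A = stabilizer ↥(stabilizer G x) C := Subgroup.ext fun _ => Iff.rfl
  have hodd : Odd M.index := by
    rw [← Nat.not_even_iff_odd, even_iff_two_dvd]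
    intro h2
    apply hdiv
    have hPdvd : Nat.card P ∣ A.relIndex M := by
      have e : A.relIndex M = Nat.card (orbit M C) := by
        rw [Subgroup.relIndex, Nat.card_coe_set_eq, ← index_stabilizer]
        congr 1
      rw [e]
      letI : MulAction P (orbit M C) :=
        { smul := fun p c => ⟨((⟨(p : ↥(stabilizer G x)), hPM p.2⟩ : M)) • (c : Ω),
            mem_orbit_of_mem_orbit _ c.2⟩
          one_smul := fun c => Subtype.ext (one_smul M _)
          mul_smul := fun p p' c => Subtype.ext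
            (mul_smul (⟨(p : ↥(stabilizer G x)), hPM p.2⟩ : M) ⟨(p' : ↥(stabilizer G x)), hPM p'.2⟩ _) }
      have hfr : ∀ c : orbit M C, stabilizer P c = ⊥ := fun c => eq_bot_iff.2 fun p hp => by
        refine Subgroup.mem_bot.2 (Subtype.ext (eq_one_of_fix N W hW2 hfree hP2 hPW p.2
          (C := (c : Ω)) ?_ (congrArg Subtype.val hp)))
        intro hcx
        obtain ⟨m, hm⟩ := c.2
        rw [hcx] at hm
        exact hC (MulAction.injective ((m : ↥(stabilizer G x)) : G) (hm.trans (m : ↥(stabilizer G x)).2.symm))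
      rw [Nat.card_congr (selfEquivOrbitsQuotientProd hfr), Nat.card_prod]
      exact dvd_mul_left _ _
    rw [Nat.card_coe_set_eq, ← index_stabilizer, ← hA, ← relIndex_mul_index hAM, mul_comm 2]
    exact Nat.mul_dvd_mul hPdvd h2
  let ψ : M →* T := φ.comp ((τ.comp M.subtype).codRestrict M₀ fun m => m.2)
  -- a conjugate of `u` in `M`
  have huu : u₀ * u₀ = 1 := Subtype.ext (mul_self_of_orderOf_eq_two hu)
  obtain ⟨a, ha⟩ : ∃ a : ↥(stabilizer G x), a⁻¹ * u₀ * a ∈ M := by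
    have hz : IsPGroup 2 (zpowers u₀) := IsPGroup.of_card (n := 1) (by
      rw [Nat.card_zpowers, ← Subgroup.orderOf_coe, pow_one]; exact hu)
    obtain ⟨q, hq⟩ := hz.nonempty_fixed_point_of_prime_not_dvd_card (↥(stabilizer G x) ⧸ M)
      hodd.not_two_dvd_nat
    obtain ⟨a, rfl⟩ := QuotientGroup.mk_surjective q
    refine ⟨a, ?_⟩
    have h' : ((u₀ * a : ↥(stabilizer G x)) : ↥(stabilizer G x) ⧸ M) = a := hq ⟨u₀, mem_zpowers u₀⟩
    rw [eq_comm, QuotientGroup.eq, ← mul_assoc] at h'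
    exact h'
  have hval : ∀ b : ↥(stabilizer G x), b⁻¹ * u₀ * b * (b⁻¹ * u₀ * b) = 1 ∧
      ∃ e : Additive W, τ (b⁻¹ * u₀ * b) • e ≠ e := by
    intro b
    refine ⟨by rw [show b⁻¹ * u₀ * b * (b⁻¹ * u₀ * b) = b⁻¹ * (u₀ * u₀) * b by group, huu]; group,
      Additive.ofMul ⟨(b : ↥(stabilizer G x) ⧸ N)⁻¹ * w₀ * b, by
        simpa using (inferInstance : W.Normal).conj_mem _ hw₀ ((b : ↥(stabilizer G x) ⧸ N)⁻¹)⟩, fun e => huw₀ ?_⟩
    have h' : Commute ((b⁻¹ * u₀ * b : ↥(stabilizer G x)) : ↥(stabilizer G x) ⧸ N) ((b : ↥(stabilizer G x) ⧸ N)⁻¹ * w₀ * b) := (hτfix _ _).1 e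
    have h'' := h'.map (MulAut.conj (b : ↥(stabilizer G x) ⧸ N))
    simpa [mul_assoc] using h''
  have hψeq : ∀ (b c : ↥(stabilizer G x)) (hb : b⁻¹ * u₀ * b ∈ M) (hc : c⁻¹ * u₀ * c ∈ M),
      ψ ⟨_, hb⟩ = ψ ⟨_, hc⟩ := by
    intro b c hb hc
    refine hφeq _ _ (Subtype.ext ?_) (Subtype.ext ?_) (hval b).2 (hval c).2
    · show τ (b⁻¹ * u₀ * b) * τ (b⁻¹ * u₀ * b) = 1
      rw [← map_mul, (hval b).1, map_one]
    · show τ (c⁻¹ * u₀ * c) * τ (c⁻¹ * u₀ * c) = 1
      rw [← map_mul, (hval c).1, map_one]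
  have hψne : ψ ⟨_, ha⟩ ≠ 1 := by
    refine hφ1 _ (Subtype.ext ?_) (hval a).2
    show τ (a⁻¹ * u₀ * a) * τ (a⁻¹ * u₀ * a) = 1
    rw [← map_mul, (hval a).1, map_one]
  have hV : MonoidHom.transfer ψ u₀ = ψ ⟨_, ha⟩ := by
    have h1 := H1.Asch.transfer_involution ψ hodd ha (hval a).1 fun b hb => by
      have e : b⁻¹ * (a⁻¹ * u₀ * a) * b = (a * b)⁻¹ * u₀ * (a * b) := by group
      have hb' : (a * b)⁻¹ * u₀ * (a * b) ∈ M := e ▸ hb
      rw [show (⟨_, hb⟩ : M) = ⟨_, hb'⟩ from Subtype.ext e]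
      exact hψeq _ _ hb' ha
    rw [← h1, map_mul, map_mul, map_inv, mul_comm ((MonoidHom.transfer ψ) a)⁻¹,
      inv_mul_cancel_right]
  refine H1.Asch.not_mem_closure_of_stabilizer_hom h (MonoidHom.transfer ψ) (fun d hd hdD => ?_)
    hu hux (by rw [show (⟨u, mem_stabilizer_iff.mpr hux⟩ : ↥(stabilizer G x)) = u₀ from rfl, hV]; exact hψne)
  refine H1.Asch.transfer_involution_eq_one ψ
    (Subtype.ext (mul_self_of_orderOf_eq_two (h.inv hdD))) fun b hb => ?_
  have hm : ((b⁻¹ * ⟨d, hd⟩ * b : ↥(stabilizer G x)) : ↥(stabilizer G x) ⧸ N) ∈ W := by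
    simpa using (inferInstance : W.Normal).conj_mem _ (hmem d hd hdD) ((b : ↥(stabilizer G x) ⧸ N)⁻¹)
  have : τ (b⁻¹ * ⟨d, hd⟩ * b) = 1 := Units.ext (DFunLike.ext _ _ fun e =>
    (hτfix _ e).2 (congrArg Subtype.val (mul_comm (⟨_, hm⟩ : W) e.toMul)))
  show φ ⟨τ (b⁻¹ * ⟨d, hd⟩ * b), _⟩ = 1
  rw [show (⟨τ (b⁻¹ * ⟨d, hd⟩ * b), hb⟩ : M₀) = 1 from Subtype.ext this, map_one]

include h hW2 hmem htr hfree in
/-- **Piece D1**: `W` is moved by `u`; `Q` is a 2-group centralising `u` and `W`.  If twice the order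
of `W ⊔ Q` is a multiple of the 2-part of the number of points other than `x` and `Q` has an element
with square in `W#`, or already the order of `W` is such a multiple, `u` is outside `closure D`. -/
theorem not_mem_closure_of_moves {u : G} (hu : orderOf u = 2) (hux : u • x = x) {y : Ω}
    (hy : y ≠ x) (huy : u • y = y) (Q : Subgroup (stabilizer G x)) (hQ2 : IsPGroup 2 Q)
    (hQW : ∀ g ∈ Q, ∀ w ∈ W, Commute (g : _ ⧸ N) w)
    (hQu : ∀ g ∈ Q, Commute g ⟨u, hux⟩)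
    (hcases : ((∃ g ∈ Q, ((g * g : stabilizer G x) : _ ⧸ N) ∈ W ∧ g * g ∉ N) ∧
        ∀ e : ℕ, 2 ^ e ∣ Nat.card Ω - 1 →
          2 ^ e ∣ 2 * Nat.card ↥(W ⊔ Q.map (QuotientGroup.mk' N))) ∨
      ∀ e : ℕ, 2 ^ e ∣ Nat.card Ω - 1 → 2 ^ e ∣ Nat.card W) : u ∉ closure D := by
  classical
  haveI : Fact (Nat.Prime 2) := ⟨Nat.prime_two⟩
  let π := QuotientGroup.mk' N
  have hπ : π = QuotientGroup.mk' N := rfl
  let WQ : Subgroup (↥(stabilizer G x) ⧸ N) := W ⊔ Q.map π
  have hWc : W ≤ centralizer (W : Set (↥(stabilizer G x) ⧸ N)) := fun a ha => mem_centralizer_iff.2 fun b hb => by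
    calc b * a = (b * a)⁻¹ := eq_inv_of_mul_eq_one_left (hW2 _ (W.mul_mem hb ha))
      _ = a⁻¹ * b⁻¹ := mul_inv_rev _ _
      _ = a * b := by
        rw [← eq_inv_of_mul_eq_one_left (hW2 _ ha), ← eq_inv_of_mul_eq_one_left (hW2 _ hb)]
  have hQc : Q.map π ≤ centralizer (W : Set (↥(stabilizer G x) ⧸ N)) := by
    rintro _ ⟨g, hg, rfl⟩
    exact mem_centralizer_iff.2 fun w hw => (hQW g hg w hw).eq.symm
  have hWQ2 : IsPGroup 2 WQ := by
    have hW2' : IsPGroup 2 W := fun w => ⟨1, Subtype.ext (by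
      rw [Subgroup.coe_pow, pow_one, sq]; exact hW2 _ w.2)⟩
    exact IsPGroup.to_sup_of_normal_left hW2' (hQ2.map π)
  obtain ⟨P₀, hP₀⟩ := (hWQ2.of_equiv
    (subgroupOfEquivOfLe (sup_le hWc hQc)).symm).exists_le_sylow
  let P' : Subgroup (↥(stabilizer G x) ⧸ N) := (P₀ : Subgroup _).map (centralizer (W : Set (↥(stabilizer G x) ⧸ N))).subtype
  obtain ⟨a, ha⟩ := IsPGroup.iff_card.1 (P₀.isPGroup'.map (centralizer (W : Set (↥(stabilizer G x) ⧸ N))).subtype)
  have hle : WQ ≤ P' := fun g hg =>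
    ⟨⟨g, sup_le hWc hQc hg⟩, hP₀ (mem_subgroupOf.2 hg), rfl⟩
  -- lift
  obtain ⟨Pl, hPl⟩ : ∃ Pl : Subgroup (P'.comap π), Nat.card Pl = 2 ^ a := by
    refine Sylow.exists_subgroup_card_pow_prime 2 ?_
    rw [← ha]
    have h1 := card_map_dvd (P'.comap π) π
    rwa [map_comap_eq_self_of_surjective (QuotientGroup.mk'_surjective N)] at h1
  let P : Subgroup ↥(stabilizer G x) := Pl.map (P'.comap π).subtype
  have hPcard : Nat.card P = 2 ^ a := by
    rw [← hPl]; exact card_map_of_injective (subtype_injective _)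
  have hP2 : IsPGroup 2 P := IsPGroup.of_card hPcard
  have hPW : ∀ p ∈ P, ∀ w ∈ W, Commute (p : ↥(stabilizer G x) ⧸ N) w := by
    intro p hp w hw
    obtain ⟨c, -, hc⟩ := map_subtype_le Pl hp
    have hm : (p : ↥(stabilizer G x) ⧸ N) ∈ centralizer (W : Set (↥(stabilizer G x) ⧸ N)) := by
      rw [show (p : ↥(stabilizer G x) ⧸ N) = (c : ↥(stabilizer G x) ⧸ N) from hc.symm]
      exact c.2
    exact (mem_centralizer_iff.1 hm w hw).symm
  by_cases hex : ∃ C : Ω, C ≠ x ∧ ¬ 2 * Nat.card P ∣ Nat.card (orbit ↥(stabilizer G x) C)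
  · obtain ⟨C, hC, hdiv⟩ := hex
    exact not_mem_closure_of_orbit h N W hW2 hmem htr hfree hu hux hy huy P hP2 hPW hC hdiv
  exfalso
  push Not at hex
  have hdvd : 2 ^ (a + 1) ∣ Nat.card Ω - 1 := by
    have := dvd_card_sub_one (G := G) x hex
    rwa [hPcard, ← pow_succ'] at this
  have hWP : Nat.card W ∣ 2 ^ a := ha ▸ card_dvd_of_le (le_sup_left.trans hle)
  rcases hcases with ⟨⟨g, hg, hgW, hgN⟩, hbound⟩ | hbound
  · have h1 : 2 ^ a ∣ Nat.card WQ := by
      have := hbound _ hdvd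
      rw [pow_succ'] at this
      exact Nat.dvd_of_mul_dvd_mul_left two_pos this
    have heq : P' = WQ := (eq_of_le_of_card_ge hle (by
      rw [ha]; exact Nat.le_of_dvd Nat.card_pos h1)).symm
    obtain ⟨C', hC', hk⟩ : ∃ C' : Ω, C' ≠ x ∧ u • C' = C' := ⟨y, hy, huy⟩
    refine false_of_squares W hW2 (fun w hw w' hw' h0 h0' => ?_) ?_ (Q.map π) hQc ?_ P₀ heq
      (g := π g) (mem_map_of_mem _ hg) (by rw [← map_mul]; exact hgW) ?_ (u := (⟨u, hux⟩ : ↥(stabilizer G x)))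
    · obtain ⟨k, hk', -, e⟩ := htr C' hC' w hw w' hw' h0 h0'
      exact ⟨_, e⟩
    · by_contra hall
      push Not at hall
      exact hfree u hux hu C' hC' hk hall
    · rintro _ ⟨q, hq, rfl⟩
      exact (hQu q hq).map π
    · rw [← map_mul, hπ, QuotientGroup.mk'_apply, Ne, QuotientGroup.eq_one_iff]
      exact hgN
  · have h1 := Nat.le_of_dvd (by positivity) (hWP)
    have h2 := Nat.le_of_dvd Nat.card_pos (hbound _ hdvd)
    rw [pow_succ] at h2
    omega

end Cfsg.Agent.H29.Asch
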