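import Cfsg.Agent.H29.Asch.Semilinear
import Cfsg.Agent.H73.Asch.Line2

/-!
An involution acting on the regular 2-group `Q` of a line: either it centralises `Q`, or the square
of the order of its centraliser is the order of `Q`, or `Q` has order `q ^ 3` and the centraliser is
`E` of order `q`.  Only the data of `Line2` is used, no classification of lines.
-/

set_option autoImplicit false
set_option linter.style.haveILetI false

namespace Cfsg.Agent.H29.Asch

open Subgroup

universe u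

variable {G : Type u} [Group G] [Finite G] {Q E Y : Subgroup G} {u : G}
  (hQ2 : IsPGroup 2 Q) (hEQ : E ≤ Q) (hE2 : ∀ e ∈ E, e * e = 1)
  (hcen : ∀ e ∈ E, ∀ g ∈ Q, Commute e g) (homega : ∀ g ∈ Q, orderOf g = 2 → g ∈ E)
  (hsq : ∀ g ∈ Q, g * g ∈ E) (hu : u * u = 1) (huQ : ∀ g ∈ Q, u * g * u ∈ Q)
  (hYQ : ∀ y ∈ Y, ∀ g ∈ Q, y * g * y⁻¹ ∈ Q) (hYodd : Odd (Nat.card Y))
  (hYu : ∀ y ∈ Y, u * y * u ∈ Y)
  (htr : ∀ a ∈ E, ∀ b ∈ E, a ≠ 1 → b ≠ 1 → ∃ y ∈ Y, y * a * y⁻¹ = b)

omit [Finite G] in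
include homega in
theorem mem_of_mul_self {g : G} (hg : g ∈ Q) (h : g * g = 1) : g ∈ E := by
  by_cases h1 : g = 1
  · exact h1 ▸ one_mem E
  · exact homega g hg (orderOf_eq_two_of_mul_self h h1)
where
  orderOf_eq_two_of_mul_self {g : G} (h : g * g = 1) (h1 : g ≠ 1) : orderOf g = 2 :=
    orderOf_eq_prime (by rw [sq, h]) h1

include hEQ hE2 homega in
omit [Finite G] in
/-- An automorphism of `Q` maps `E` to itself. -/
theorem conj_mem_E {w : G} (hw : ∀ g ∈ Q, w * g * w⁻¹ ∈ Q) {e : G} (he : e ∈ E) :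
    w * e * w⁻¹ ∈ E :=
  mem_of_mul_self homega (hw e (hEQ he)) (by
    rw [show w * e * w⁻¹ * (w * e * w⁻¹) = w * (e * e) * w⁻¹ by group, hE2 e he]; group)

/-- The map `g ↦ g⁻¹ g ^ w` modulo `E`. -/
theorem exists_commHom (hcen : ∀ e ∈ E, ∀ g ∈ Q, Commute e g) (hsq : ∀ g ∈ Q, g * g ∈ E)
    {w : G} (hw : ∀ g ∈ Q, w * g * w⁻¹ ∈ Q) :
    ∃ (_ : (E.subgroupOf Q).Normal) (ψ : Q →* Q ⧸ E.subgroupOf Q),
      ∀ g : Q, ψ g = QuotientGroup.mk ⟨(g : G)⁻¹ * (w * g * w⁻¹), mul_mem (inv_mem g.2) (hw g g.2)⟩ := by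
  haveI hn : (E.subgroupOf Q).Normal := ⟨fun n hn g => by
    rw [mem_subgroupOf] at hn ⊢
    show (g : G) * n * (g : G)⁻¹ ∈ E
    rw [(hcen n hn g g.2).symm.eq, mul_inv_cancel_right]
    exact hn⟩
  refine ⟨hn, ⟨⟨fun g => QuotientGroup.mk ⟨(g : G)⁻¹ * (w * g * w⁻¹), mul_mem (inv_mem g.2) (hw g g.2)⟩,
    ?_⟩, ?_⟩, fun g => rfl⟩
  · rw [QuotientGroup.eq_one_iff, mem_subgroupOf]
    show ((1 : Q) : G)⁻¹ * (w * (1 : Q) * w⁻¹) ∈ E
    simp
  · intro a b
    have hc : ∀ p q : Q ⧸ E.subgroupOf Q, p * q = q * p := by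
      have h2 : ∀ p : Q ⧸ E.subgroupOf Q, p * p = 1 := fun p => by
        induction p using QuotientGroup.induction_on with | _ g =>
        exact (QuotientGroup.eq_one_iff (g * g)).2 (mem_subgroupOf.2 (hsq g g.2))
      intro p q
      calc p * q = (p * q)⁻¹ := eq_inv_of_mul_eq_one_left (h2 _)
        _ = q⁻¹ * p⁻¹ := mul_inv_rev _ _
        _ = q * p := by rw [← eq_inv_of_mul_eq_one_left (h2 p), ← eq_inv_of_mul_eq_one_left (h2 q)]
    set P : Q → Q ⧸ E.subgroupOf Q := fun g =>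
      QuotientGroup.mk ⟨(g : G)⁻¹ * (w * g * w⁻¹), mul_mem (inv_mem g.2) (hw g g.2)⟩ with hP
    have e : P (a * b) = (QuotientGroup.mk b)⁻¹ * P a * QuotientGroup.mk b * P b := by
      simp only [hP, ← QuotientGroup.mk_inv, ← QuotientGroup.mk_mul]
      congr 1
      refine Subtype.ext ?_
      simp [mul_assoc]
    show P (a * b) = P a * P b
    rw [e, hc _ (P a), inv_mul_cancel_right]

/-- The elements of `Q` whose commutator with `w` lies in `E`. -/
theorem exists_preimage (hEQ : E ≤ Q) (hcen : ∀ e ∈ E, ∀ g ∈ Q, Commute e g)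
    (hsq : ∀ g ∈ Q, g * g ∈ E) {w : G} (hw : ∀ g ∈ Q, w * g * w⁻¹ ∈ Q) :
    ∃ K M : Subgroup G, (∀ g, g ∈ K ↔ g ∈ Q ∧ g⁻¹ * (w * g * w⁻¹) ∈ E) ∧
      (∀ g, g ∈ M ↔ g ∈ Q ∧ ∃ h ∈ Q, (h⁻¹ * (w * h * w⁻¹))⁻¹ * g ∈ E) ∧
      Nat.card K * Nat.card M = Nat.card Q * Nat.card E := by
  obtain ⟨hn, ψ, hψ⟩ := exists_commHom hcen hsq hw
  refine ⟨ψ.ker.map Q.subtype, (ψ.range.comap (QuotientGroup.mk' (E.subgroupOf Q))).map Q.subtype,
    fun g => ?_, fun g => ?_, ?_⟩
  · constructor
    · rintro ⟨k, hk, rfl⟩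
      have hk' : ψ k = 1 := hk
      rw [hψ, QuotientGroup.eq_one_iff, mem_subgroupOf] at hk'
      exact ⟨k.2, hk'⟩
    · rintro ⟨hg, hgE⟩
      refine ⟨⟨g, hg⟩, ?_, rfl⟩
      show ψ _ = 1
      rw [hψ, QuotientGroup.eq_one_iff, mem_subgroupOf]
      exact hgE
  · constructor
    · rintro ⟨k, ⟨h, hh⟩, rfl⟩
      rw [hψ] at hh
      have := QuotientGroup.eq.1 hh
      exact ⟨k.2, h, h.2, this⟩
    · rintro ⟨hg, h, hh, hhg⟩
      refine ⟨⟨g, hg⟩, ⟨⟨h, hh⟩, ?_⟩, rfl⟩
      rw [hψ]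
      exact QuotientGroup.eq.2 (mem_subgroupOf.2 hhg)
  · rw [card_map_of_injective (subtype_injective _), card_map_of_injective (subtype_injective _)]
    have h1 := ψ.ker.index_mul_card
    rw [Subgroup.index_ker] at h1
    have h2 : Nat.card (ψ.range.comap (QuotientGroup.mk' (E.subgroupOf Q))) =
        Nat.card ψ.range * Nat.card E := by
      set R := ψ.range.comap (QuotientGroup.mk' (E.subgroupOf Q)) with hR
      have hle : E.subgroupOf Q ≤ R := fun e he => by
        show (QuotientGroup.mk' (E.subgroupOf Q)) e ∈ ψ.range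
        rw [QuotientGroup.mk'_apply, (QuotientGroup.eq_one_iff e).2 he]
        exact one_mem _
      have h3 := ((QuotientGroup.mk' (E.subgroupOf Q)).comp R.subtype).ker.index_mul_card
      have h4 : ((QuotientGroup.mk' (E.subgroupOf Q)).comp R.subtype).range = ψ.range := by
        rw [MonoidHom.range_comp, range_subtype, hR,
          map_comap_eq_self_of_surjective (QuotientGroup.mk'_surjective _)]
      have h5 : ((QuotientGroup.mk' (E.subgroupOf Q)).comp R.subtype).ker =
          (E.subgroupOf Q).subgroupOf R := by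
        rw [← MonoidHom.comap_ker, QuotientGroup.ker_mk']
        rfl
      rw [Subgroup.index_ker, h4, h5, Nat.card_congr (subgroupOfEquivOfLe hle).toEquiv,
        Nat.card_congr (subgroupOfEquivOfLe hEQ).toEquiv] at h3
      exact h3.symm
    rw [← h1, h2]
    ring

include hEQ hE2 hcen hsq in
omit [Finite G] in
/-- The homomorphism `g ↦ g⁻¹ g ^ u` of the elements with value in `E`. -/
theorem exists_delta {K : Subgroup G} (hK : ∀ g, g ∈ K ↔ g ∈ Q ∧ g⁻¹ * (u * g * u⁻¹) ∈ E) :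
    ∃ δ : K →* E, ∀ k : K, ((δ k : E) : G) = (k : G)⁻¹ * (u * k * u⁻¹) := by
  refine ⟨⟨⟨fun k => ⟨_, ((hK k).1 k.2).2⟩, Subtype.ext (by simp)⟩, fun a b => Subtype.ext ?_⟩,
    fun k => rfl⟩
  show ((a : G) * b)⁻¹ * (u * (a * b) * u⁻¹) =
    (a : G)⁻¹ * (u * a * u⁻¹) * ((b : G)⁻¹ * (u * b * u⁻¹))
  have h := (hcen _ ((hK a).1 a.2).2 b ((hK b).1 b.2).1).eq
  calc ((a : G) * b)⁻¹ * (u * (a * b) * u⁻¹)
      = (b : G)⁻¹ * ((a : G)⁻¹ * (u * a * u⁻¹)) * (u * b * u⁻¹) := by group
    _ = (b : G)⁻¹ * (((a : G)⁻¹ * (u * a * u⁻¹)) * b) * ((b : G)⁻¹ * (u * b * u⁻¹)) := by group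
    _ = (b : G)⁻¹ * ((b : G) * ((a : G)⁻¹ * (u * a * u⁻¹))) * ((b : G)⁻¹ * (u * b * u⁻¹)) := by
        rw [h]
    _ = _ := by group

include hQ2 hEQ homega in
/-- A subgroup between `E` and `Q` invariant under a transitive group has order a power of `|E|`. -/
theorem card_of_invariant (hcen : ∀ e ∈ E, ∀ g ∈ Q, Commute e g) (hE2 : ∀ e ∈ E, e * e = 1)
    (hsq : ∀ g ∈ Q, g * g ∈ E) (hQE : Nat.card Q ≤ Nat.card E ^ 3) (hn4 : 4 ≤ Nat.card E)
    {S : Subgroup G} (hES : E ≤ S) (hSQ : S ≤ Q)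
    (hS : ∀ a ∈ E, ∀ b ∈ E, a ≠ 1 → b ≠ 1 → ∃ y : G, y * a * y⁻¹ = b ∧
      (∀ g ∈ S, y * g * y⁻¹ ∈ S) ∧ ∀ g ∈ S, y⁻¹ * g * y ∈ S) :
    Nat.card S = Nat.card E ∨ Nat.card S = Nat.card E ^ 2 ∨ Nat.card S = Nat.card E ^ 3 := by
  classical
  haveI : Fact (Nat.Prime 2) := ⟨Nat.prime_two⟩
  obtain ⟨n, hn⟩ := IsPGroup.iff_card.1 (hQ2.to_le hEQ)
  obtain ⟨j, hj⟩ := IsPGroup.iff_card.1 (hQ2.to_le hSQ)
  have hEdvd := card_dvd_of_le hES
  rw [hn, hj, Nat.pow_dvd_pow_iff_le_right (by norm_num)] at hEdvd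
  have hjle : j ≤ 3 * n := by
    have := (Nat.card_le_card_of_injective _ (Subgroup.inclusion_injective hSQ)).trans hQE
    rw [hn, hj, ← pow_mul, mul_comm] at this
    exact (Nat.pow_le_pow_iff_right (by norm_num)).1 this
  -- squares outside `E`
  let fib : G → Type u := fun e => {g : S // (g : G) * g = e}
  haveI : ∀ e, Finite (fib e) := fun e => by infer_instance
  have hfib : ∀ a ∈ E, ∀ b ∈ E, a ≠ 1 → b ≠ 1 → Nat.card (fib a) = Nat.card (fib b) := by
    intro a ha b hb ha1 hb1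
    obtain ⟨y, hy, hyS, hyS'⟩ := hS a ha b hb ha1 hb1
    exact Nat.card_congr
      { toFun := fun g => ⟨⟨y * (g.1 : G) * y⁻¹, hyS _ g.1.2⟩, by
          show y * (g.1 : G) * y⁻¹ * (y * (g.1 : G) * y⁻¹) = b
          calc _ = y * ((g.1 : G) * g.1) * y⁻¹ := by group
            _ = y * a * y⁻¹ := congrArg (fun t => y * t * y⁻¹) g.2
            _ = b := hy⟩
        invFun := fun g => ⟨⟨y⁻¹ * (g.1 : G) * y, hyS' _ g.1.2⟩, by
          show y⁻¹ * (g.1 : G) * y * (y⁻¹ * (g.1 : G) * y) = a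
          calc _ = y⁻¹ * ((g.1 : G) * g.1) * y := by group
            _ = y⁻¹ * b * y := congrArg (fun t => y⁻¹ * t * y) g.2
            _ = a := by rw [← hy]; group⟩
        left_inv := fun g => Subtype.ext (Subtype.ext (by simp [mul_assoc]))
        right_inv := fun g => Subtype.ext (Subtype.ext (by simp [mul_assoc])) }
  haveI := Fintype.ofFinite S
  haveI := Fintype.ofFinite E
  let f : S → E := fun g => ⟨(g : G) * g, hsq g (hSQ g.2)⟩
  have hcount : Nat.card S = ∑ e : E, Nat.card (fib e) := by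
    rw [← Nat.card_sigma]
    exact Nat.card_congr
      { toFun := fun g => ⟨f g, g, rfl⟩
        invFun := fun p => p.2.1
        left_inv := fun g => rfl
        right_inv := fun ⟨e, g, hg⟩ => by
          obtain rfl : f g = e := Subtype.ext hg
          rfl }
  have h1 : Nat.card (fib 1) = Nat.card E := Nat.card_congr
    { toFun := fun g => ⟨g.1, mem_of_mul_self homega (hSQ g.1.2) g.2⟩
      invFun := fun e => ⟨⟨e, hES e.2⟩, hE2 e e.2⟩
      left_inv := fun g => Subtype.ext (Subtype.ext rfl)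
      right_inv := fun e => Subtype.ext rfl }
  obtain ⟨e₀, he₀⟩ : ∃ e : E, e ≠ 1 := by
    haveI : Nontrivial E := Finite.one_lt_card_iff_nontrivial.1 (by omega)
    exact exists_ne 1
  have hdvd : Nat.card E - 1 ∣ Nat.card S - Nat.card E := by
    refine ⟨Nat.card (fib e₀), ?_⟩
    rw [hcount, ← Finset.add_sum_erase _ _ (Finset.mem_univ (1 : E))]
    have : ∀ e ∈ Finset.univ.erase (1 : E), Nat.card (fib e) = Nat.card (fib e₀) := fun e he =>
      hfib e e.2 e₀ e₀.2 (fun h => (Finset.mem_erase.1 he).1 (Subtype.ext h))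
        (fun h => he₀ (Subtype.ext h))
    rw [Finset.sum_congr rfl this, Finset.sum_const, Finset.card_erase_of_mem (Finset.mem_univ _),
      Finset.card_univ, ← Nat.card_eq_fintype_card, smul_eq_mul,
      show fib ((1 : E) : G) = fib 1 from rfl, h1, Nat.add_sub_cancel_left]
  rw [hn, hj] at hdvd ⊢
  obtain ⟨i, rfl⟩ : ∃ i, j = n + i := ⟨j - n, by omega⟩
  have hi : 2 ^ n - 1 ∣ 2 ^ i - 1 := by
    rw [show 2 ^ (n + i) - 2 ^ n = 2 ^ n * (2 ^ i - 1) by rw [Nat.mul_sub, pow_add, mul_one]] at hdvd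
    refine (Nat.Coprime.dvd_of_dvd_mul_left ?_ hdvd)
    refine Nat.Coprime.pow_right _ (Nat.coprime_two_right.2 ?_)
    have : n ≠ 0 := fun h => by rw [h, pow_zero] at hn; omega
    exact (Nat.odd_sub' Nat.one_le_two_pow).2 ⟨fun _ => (even_two.pow_of_ne_zero this), fun _ => odd_one⟩
  have hn0 : 0 < n := by
    rcases n.eq_zero_or_pos with h | h
    · rw [h, pow_zero] at hn; omega
    · exact h
  have hg := Nat.dvd_gcd hi (dvd_refl (2 ^ n - 1))
  rw [Nat.pow_sub_one_gcd_pow_sub_one] at hg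
  have hgn : n ∣ i := by
    have hlt : 2 ^ n - 1 ≤ 2 ^ Nat.gcd i n - 1 := Nat.le_of_dvd (by
      have := Nat.one_lt_two_pow (n := Nat.gcd i n) (Nat.gcd_pos_of_pos_right _ hn0).ne'
      omega) hg
    have h2 : n ≤ Nat.gcd i n := (Nat.pow_le_pow_iff_right (a := 2) (by norm_num)).1 (by
      have := Nat.one_le_two_pow (n := n)
      have := Nat.one_le_two_pow (n := Nat.gcd i n)
      omega)
    exact (Nat.le_antisymm (Nat.gcd_le_right i hn0) h2) ▸ Nat.gcd_dvd_left i n
  obtain ⟨c, rfl⟩ := hgn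
  have hc : c ≤ 2 := by
    by_contra hc
    have : n * 3 ≤ n * c := Nat.mul_le_mul_left n (by omega)
    omega
  interval_cases c
  · left; simp
  · right; left; rw [← pow_mul]; congr 1; omega
  · right; right; rw [← pow_mul]; congr 1; omega

include hQ2 hEQ hE2 hcen homega hsq hu huQ hYQ hYodd hYu htr in
/-- **Types**: the centraliser of an involution acting on the regular group of a line. -/
theorem card_centralizer_cases (hn4 : 4 ≤ Nat.card E)
    (hcard : Nat.card Q = Nat.card E ∨ Nat.card Q = Nat.card E ^ 2 ∨ Nat.card Q = Nat.card E ^ 3)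
    (hshape : Nat.card Q ≤ Nat.card E ^ 2 ∨
      ∃ a ∈ Y, (∀ e ∈ E, Commute a e) ∧ ∀ g ∈ Q, Commute a g → g ∈ E)
    (hmove : ∃ g ∈ Q, ¬ Commute g u) :
    (Nat.card ↥(Q ⊓ centralizer {u}) ^ 2 = Nat.card Q ∨
      ((∀ e ∈ E, Commute e u) ∧ Nat.card ↥(Q ⊓ centralizer {u}) = Nat.card E ∧
        Nat.card Q = Nat.card E ^ 3)) ∧
      ((∀ e ∈ E, Commute e u) → Nat.card ↥(Q ⊓ centralizer {u}) = Nat.card E) := by
  classical
  haveI : Fact (Nat.Prime 2) := ⟨Nat.prime_two⟩
  have hui : u⁻¹ = u := inv_eq_of_mul_eq_one_left hu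
  have huQ' : ∀ g ∈ Q, u * g * u⁻¹ ∈ Q := fun g hg => by rw [hui]; exact huQ g hg
  set C := Q ⊓ centralizer ({u} : Set G) with hC
  have hCmem : ∀ g, g ∈ C ↔ g ∈ Q ∧ g⁻¹ * (u * g * u⁻¹) = 1 := fun g => by
    rw [hC, mem_inf, mem_centralizer_singleton_iff, inv_mul_eq_one]
    exact and_congr Iff.rfl ⟨fun h => by rw [← h, mul_inv_cancel_right], fun h => by
      conv_lhs => rw [h]
      group⟩
  have hinv : ∀ g : G, u * (g⁻¹ * (u * g * u⁻¹)) * u⁻¹ = (g⁻¹ * (u * g * u⁻¹))⁻¹ := fun g => by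
    calc u * (g⁻¹ * (u * g * u⁻¹)) * u⁻¹ = u * g⁻¹ * (u * g) * (u * u)⁻¹ := by group
      _ = u * g⁻¹ * u⁻¹ * g := by rw [hu, hui]; group
      _ = _ := by group
  obtain ⟨K, M, hK, hM, hKM⟩ := exists_preimage hEQ hcen hsq huQ'
  obtain ⟨δ, hδ⟩ := exists_delta hEQ hE2 hcen hsq hK
  have hCK : C ≤ K := fun g hg => (hK g).2 ⟨((hCmem g).1 hg).1, ((hCmem g).1 hg).2 ▸ one_mem E⟩
  have hker : δ.ker = C.subgroupOf K := by
    ext k
    rw [MonoidHom.mem_ker, mem_subgroupOf, hCmem, Subtype.ext_iff, hδ, OneMemClass.coe_one]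
    exact ⟨fun h => ⟨((hK k).1 k.2).1, h⟩, fun h => h.2⟩
  have hKC : Nat.card K = Nat.card δ.range * Nat.card C := by
    rw [← δ.ker.index_mul_card, index_ker, hker, Nat.card_congr (subgroupOfEquivOfLe hCK).toEquiv]
  have hMK : M ≤ K := by
    intro g hg
    obtain ⟨hgQ, h, hh, he⟩ := (hM g).1 hg
    refine (hK g).2 ⟨hgQ, ?_⟩
    set b := h⁻¹ * (u * h * u⁻¹) with hb
    obtain ⟨e, he', rfl⟩ : ∃ e ∈ E, g = b * e := ⟨b⁻¹ * g, he, by group⟩
    have hbQ : b ∈ Q := mul_mem (inv_mem hh) (huQ' h hh)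
    rw [show (b * e)⁻¹ * (u * (b * e) * u⁻¹) = e⁻¹ * (b⁻¹ * (u * b * u⁻¹)) * (u * e * u⁻¹) by group,
      hinv h]
    exact mul_mem (mul_mem (inv_mem he') (by
      rw [← hb, ← mul_inv_rev]; exact inv_mem (hsq b hbQ))) (conj_mem_E hEQ hE2 homega huQ' he')
  have hEM : E ≤ M := fun e he => (hM e).2 ⟨hEQ he, 1, one_mem Q, by simpa using he⟩
  by_cases hmE : ∃ e ∈ E, ¬ Commute e u
  · -- `u` moves `E`
    refine ⟨Or.inl ?_, fun hall => absurd hall fun hall => hmE.elim fun e he => he.2 (hall e he.1)⟩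
    obtain ⟨e₁, he₁, he₁u⟩ := hmE
    let N := normalizer (Q : Set G)
    have hN : ∀ w : G, (∀ g ∈ Q, w * g * w⁻¹ ∈ Q) → w ∈ N := fun w hw =>
      mem_normalizer_iff.2 fun g => ⟨hw g, fun hg => by
        have hbij : Function.Bijective fun g : Q => (⟨w * g * w⁻¹, hw g g.2⟩ : Q) :=
          Finite.injective_iff_bijective.1 fun a b hab => Subtype.ext (by
            simpa using congrArg Subtype.val hab)
        obtain ⟨a, ha⟩ := hbij.2 ⟨_, hg⟩
        have := congrArg Subtype.val ha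
        simp only [mul_left_inj, mul_right_inj] at this
        exact this ▸ a.2⟩
    have hNQ : ∀ (w : N), ∀ g ∈ Q, (w : G) * g * (w : G)⁻¹ ∈ Q := fun w g hg =>
      (mem_normalizer_iff.1 w.2 g).1 hg
    letI : CommGroup E :=
      { (inferInstance : Group E) with
        mul_comm := fun a b => Subtype.ext (hcen a a.2 b (hEQ b.2)).eq }
    letI : DistribMulAction N (Additive E) :=
      { smul := fun w e => Additive.ofMul ⟨(w : G) * (e.toMul : E) * (w : G)⁻¹,
          conj_mem_E hEQ hE2 homega (hNQ w) e.toMul.2⟩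
        one_smul := fun e => Additive.toMul.injective (Subtype.ext
          (show ((1 : N) : G) * (e.toMul : E) * ((1 : N) : G)⁻¹ = (e.toMul : E) by simp))
        mul_smul := fun g g' e => Additive.toMul.injective (Subtype.ext
          (show ((g * g' : N) : G) * (e.toMul : E) * ((g * g' : N) : G)⁻¹ =
            (g : G) * ((g' : G) * (e.toMul : E) * (g' : G)⁻¹) * (g : G)⁻¹ by simp [mul_assoc]))
        smul_zero := fun g => Additive.toMul.injective (Subtype.ext
          (show (g : G) * ((1 : E) : G) * (g : G)⁻¹ = ((1 : E) : G) by simp))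
        smul_add := fun g e e' => Additive.toMul.injective (Subtype.ext
          (show (g : G) * ((e.toMul * e'.toMul : E) : G) * (g : G)⁻¹ =
            ((g : G) * (e.toMul : E) * (g : G)⁻¹) * ((g : G) * (e'.toMul : E) * (g : G)⁻¹) by
              simp [mul_assoc])) }
    haveI : Nontrivial (Additive E) := ⟨Additive.ofMul ⟨e₁, he₁⟩, 0, fun h => he₁u (by
      rw [show e₁ = 1 from congrArg (fun e : Additive E => ((e.toMul : E) : G)) h]
      exact Commute.one_left _)⟩
    obtain ⟨o, ho, hofpf⟩ := exists_commutator_fpf (M := N) (E := Additive E)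
      (fun e => Additive.toMul.injective (Subtype.ext (by
        show (((e.toMul : E) ^ 2 : E) : G) = 1
        rw [Subgroup.coe_pow, sq]
        exact hE2 _ e.toMul.2)))
      (Y.subgroupOf N) (by
        rw [Nat.card_congr (subgroupOfEquivOfLe fun y hy => hN y (hYQ y hy)).toEquiv]
        exact hYodd)
      (fun a b ha hb => by
        obtain ⟨y, hy, hyab⟩ := htr _ a.toMul.2 _ b.toMul.2
          (fun e => ha (Additive.toMul.injective (Subtype.ext e)))
          (fun e => hb (Additive.toMul.injective (Subtype.ext e)))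
        exact ⟨⟨y, hN y (hYQ y hy)⟩, mem_subgroupOf.2 hy,
          Additive.toMul.injective (Subtype.ext hyab)⟩)
      (u := ⟨u, hN u huQ'⟩) (Subtype.ext hu)
      (fun y hy => mem_subgroupOf.2 (by
        show u * (y : G) * u⁻¹ ∈ Y
        rw [hui]; exact hYu y hy))
      ⟨Additive.ofMul ⟨e₁, he₁⟩, fun h => he₁u (mul_inv_eq_iff_eq_mul.1
        (congrArg (fun e : Additive E => ((e.toMul : E) : G)) h)).symm⟩
    -- no element of `Q` is centralised by `u` and by a conjugate
    have hfree : ∀ g ∈ C, (o : G)⁻¹ * g * o ∈ C → g = 1 := by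
      intro g hg hg'
      have hgQ := ((hCmem g).1 hg).1
      have h1 : Commute g u := mem_centralizer_singleton_iff.1 hg.2
      have h2 : Commute g ((o : G) * u * (o : G)⁻¹) := by
        have h0 : Commute ((o : G)⁻¹ * g * o) u := mem_centralizer_singleton_iff.1 hg'.2
        have h := h0.map (MulAut.conj (o : G))
        simpa [mul_assoc] using h
      have h3 : Commute g (u * o * u⁻¹ * (o : G)⁻¹) := by
        have := h1.mul_right h2
        rw [hui]
        simpa [mul_assoc] using this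
      have key : ∀ e ∈ E, Commute e (u * o * u⁻¹ * (o : G)⁻¹) → e = 1 := fun e he hc => by
        have h := hofpf (Additive.ofMul ⟨e, he⟩) (Additive.toMul.injective (Subtype.ext (by
          show u * o * u⁻¹ * (o : G)⁻¹ * e * (u * o * u⁻¹ * (o : G)⁻¹)⁻¹ = e
          rw [hc.symm.eq, mul_inv_cancel_right])))
        exact congrArg (fun e : Additive E => ((e.toMul : E) : G)) h
      have h4 := key _ (hsq g hgQ) (h3.mul_left h3)
      exact key g (mem_of_mul_self homega hgQ h4) h3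
    have hle : ∀ S : Subgroup G, (∀ g ∈ S, (o : G) * g * (o : G)⁻¹ ∈ S) →
        Nat.card ↥(S ⊓ C) * Nat.card ↥(S ⊓ C) ≤ Nat.card S := by
      intro S hS
      rw [← Nat.card_prod]
      refine Nat.card_le_card_of_injective (fun p : ↥(S ⊓ C) × ↥(S ⊓ C) =>
        (⟨(p.1 : G) * ((o : G) * p.2 * (o : G)⁻¹), mul_mem p.1.2.1 (hS _ p.2.2.1)⟩ : S)) ?_
      rintro ⟨a, b⟩ ⟨a', b'⟩ hab
      have e : (a' : G)⁻¹ * a = (o : G) * ((b' : G) * (b : G)⁻¹) * (o : G)⁻¹ := by
        have h : (a : G) * ((o : G) * b * (o : G)⁻¹) = a' * ((o : G) * b' * (o : G)⁻¹) :=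
          congrArg Subtype.val hab
        calc (a' : G)⁻¹ * a = (a' : G)⁻¹ * (a * ((o : G) * b * (o : G)⁻¹)) *
            ((o : G) * b * (o : G)⁻¹)⁻¹ := by
              group
          _ = _ := by rw [h]; group
      have h1 := hfree _ (mul_mem (inv_mem a'.2.2) a.2.2) (by
        rw [e, show (o : G)⁻¹ * ((o : G) * ((b' : G) * (b : G)⁻¹) * (o : G)⁻¹) * o =
          (b' : G) * (b : G)⁻¹ by group]
        exact mul_mem b'.2.2 (inv_mem b.2.2))
      rw [h1] at e
      refine Prod.ext (Subtype.ext (inv_mul_eq_one.1 h1).symm) (Subtype.ext ?_)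
      exact (mul_inv_eq_one.1 (conj_eq_one_iff.1 e.symm)).symm
    have hoY : (o : G) ∈ Y := mem_subgroupOf.1 ho
    have hCE : δ.range.map E.subtype ≤ E ⊓ C := by
      rintro _ ⟨_, ⟨k, rfl⟩, rfl⟩
      refine ⟨(δ k).2, (hCmem _).2 ⟨hEQ (δ k).2, inv_mul_eq_one.2 ?_⟩⟩
      show ((δ k : E) : G) = u * ((δ k : E) : G) * u⁻¹
      rw [hδ, hinv, ← hδ]
      exact eq_inv_of_mul_eq_one_left (hE2 _ (δ k).2)
    have hr : Nat.card δ.range ≤ Nat.card ↥(E ⊓ C) := by
      rw [← card_map_of_injective (subtype_injective E) (K := δ.range)]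
      exact Nat.le_of_dvd Nat.card_pos (card_dvd_of_le hCE)
    have h1 := hle Q (hYQ _ hoY)
    rw [inf_eq_right.2 (show C ≤ Q from inf_le_left)] at h1
    have h2 := hle E fun g hg => conj_mem_E hEQ hE2 homega (hYQ _ hoY) hg
    have h3 : Nat.card M ≤ Nat.card K := Nat.le_of_dvd Nat.card_pos (card_dvd_of_le hMK)
    refine le_antisymm (by rw [sq]; exact h1) ?_
    have h4 : Nat.card Q * Nat.card E ≤ Nat.card C ^ 2 * Nat.card E :=
      calc Nat.card Q * Nat.card E = Nat.card K * Nat.card M := hKM.symm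
        _ ≤ (Nat.card δ.range * Nat.card C) * (Nat.card δ.range * Nat.card C) := by
            rw [← hKC]; exact Nat.mul_le_mul_left _ h3
        _ ≤ (Nat.card ↥(E ⊓ C) * Nat.card C) * (Nat.card ↥(E ⊓ C) * Nat.card C) :=
            Nat.mul_le_mul (Nat.mul_le_mul_right _ hr) (Nat.mul_le_mul_right _ hr)
        _ = Nat.card C ^ 2 * (Nat.card ↥(E ⊓ C) * Nat.card ↥(E ⊓ C)) := by ring
        _ ≤ _ := Nat.mul_le_mul_left _ h2
    exact Nat.le_of_mul_le_mul_right h4 Nat.card_pos
  · -- `u` centralises `E`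
    push Not at hmE
    have hEC : E ≤ C := fun e he => (hCmem e).2 ⟨hEQ he, by
      rw [(hmE e he).symm.eq, mul_inv_cancel_right, inv_mul_cancel]⟩
    -- the centraliser of `u` in `Y` is transitive on `E#`
    have hY0 : ∀ a ∈ E, ∀ b ∈ E, a ≠ 1 → b ≠ 1 → ∃ y ∈ Y, Commute y u ∧ y * a * y⁻¹ = b := by
      intro a ha b hb ha1 hb1
      obtain ⟨y, hy, hyab⟩ := htr a ha b hb ha1 hb1
      let X := {z : Y // (z : G) * a * (z : G)⁻¹ = b}
      have huX : ∀ z : X, u * (z.1 : G) * u * a * (u * (z.1 : G) * u)⁻¹ = b := fun z => by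
        calc u * (z.1 : G) * u * a * (u * (z.1 : G) * u)⁻¹
            = u * ((z.1 : G) * (u * a * u⁻¹) * (z.1 : G)⁻¹) * u⁻¹ := by group
          _ = b := by
            rw [(hmE a ha).symm.eq, mul_inv_cancel_right, z.2, (hmE b hb).symm.eq,
              mul_inv_cancel_right]
      let σ : X → X := fun z => ⟨⟨_, hYu _ z.1.2⟩, huX z⟩
      have hσ : ∀ z, σ (σ z) = z := fun z => Subtype.ext (Subtype.ext (by
        show u * (u * (z.1 : G) * u) * u = z.1
        rw [← mul_assoc, ← mul_assoc, hu, one_mul, mul_assoc, hu, mul_one]))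
      have hodd : Odd (Nat.card X) := by
        have hst : Nat.card X = Nat.card ↥(centralizer ({a} : Set G) ⊓ Y) := Nat.card_congr
          { toFun := fun z => ⟨y⁻¹ * z.1, mem_centralizer_singleton_iff.2 (by
              calc y⁻¹ * (z.1 : G) * a = y⁻¹ * ((z.1 : G) * a * (z.1 : G)⁻¹) * z.1 := by group
                _ = y⁻¹ * b * z.1 := congrArg (fun t => y⁻¹ * t * (z.1 : G)) z.2
                _ = a * (y⁻¹ * z.1) := by
                    have hb' : y⁻¹ * b = a * y⁻¹ := by rw [← hyab]; group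
                    rw [hb', mul_assoc]),
              Y.mul_mem (Y.inv_mem hy) z.1.2⟩
            invFun := fun c => ⟨⟨y * c, mul_mem hy c.2.2⟩, by
              show y * (c : G) * a * (y * (c : G))⁻¹ = b
              rw [mul_assoc y, mem_centralizer_singleton_iff.1 c.2.1, ← hyab]; group⟩
            left_inv := fun z => Subtype.ext (Subtype.ext (by simp))
            right_inv := fun c => Subtype.ext (by simp) }
        rw [hst]
        exact hYodd.of_dvd_nat (card_dvd_of_le inf_le_right)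
      obtain ⟨z, hz⟩ : ∃ z : X, σ z = z := by
        haveI := Fintype.ofFinite X
        let p : Equiv.Perm X := ⟨σ, σ, hσ, hσ⟩
        have hp : p ^ (2 ^ 1) = 1 := Equiv.ext fun z => by
          rw [pow_one, pow_two]; exact hσ z
        exact Equiv.Perm.exists_fixed_point_of_prime (p := 2) (n := 1)
          (by rw [← Nat.card_eq_fintype_card]; exact hodd.not_two_dvd_nat) hp
      refine ⟨z.1, z.1.2, ?_, z.2⟩
      have e : u * (z.1 : G) * u = z.1 := congrArg (fun z : X => ((z.1 : Y) : G)) hz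
      show (z.1 : G) * u = u * z.1
      conv_lhs => rw [← e]
      rw [mul_assoc, hu, mul_one]
    have hinvS : ∀ S : Subgroup G,
        (∀ y ∈ Y, Commute y u → ∀ g ∈ S, y * g * y⁻¹ ∈ S) → E ≤ S → S ≤ Q →
        Nat.card S = Nat.card E ∨ Nat.card S = Nat.card E ^ 2 ∨ Nat.card S = Nat.card E ^ 3 := by
      intro S hS hES hSQ
      refine card_of_invariant hQ2 hEQ homega hcen hE2 hsq ?_ hn4 hES hSQ fun a ha b hb ha1 hb1 => ?_
      · have h1 : 1 ≤ Nat.card E := by omega
        rcases hcard with h | h | h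
        · rw [h]; exact Nat.le_self_pow (by norm_num) _
        · rw [h]; exact Nat.pow_le_pow_right h1 (by norm_num)
        · exact h.le
      obtain ⟨y, hy, hyu, hyab⟩ := hY0 a ha b hb ha1 hb1
      exact ⟨y, hyab, hS y hy hyu, fun g hg => by
        simpa using hS y⁻¹ (inv_mem hy) hyu.inv_left g hg⟩
    have hyu : ∀ y : G, Commute y u → ∀ g : G,
        (y * g * y⁻¹)⁻¹ * (u * (y * g * y⁻¹) * u⁻¹) = y * (g⁻¹ * (u * g * u⁻¹)) * y⁻¹ := by
      intro y hy g
      calc (y * g * y⁻¹)⁻¹ * (u * (y * g * y⁻¹) * u⁻¹)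
          = y * g⁻¹ * y⁻¹ * ((u * y) * g * (u * y)⁻¹) := by group
        _ = _ := by rw [← hy.eq]; group
    have hCinv : ∀ y ∈ Y, Commute y u → ∀ g ∈ C, y * g * y⁻¹ ∈ C := fun y hy hc g hg =>
      (hCmem _).2 ⟨hYQ y hy g ((hCmem g).1 hg).1, by rw [hyu y hc, ((hCmem g).1 hg).2]; group⟩
    have hMinv : ∀ y ∈ Y, Commute y u → ∀ g ∈ M, y * g * y⁻¹ ∈ M := by
      intro y hy hc g hg
      obtain ⟨hgQ, h, hh, he⟩ := (hM g).1 hg
      refine (hM _).2 ⟨hYQ y hy g hgQ, y * h * y⁻¹, hYQ y hy h hh, ?_⟩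
      rw [hyu y hc, show (y * (h⁻¹ * (u * h * u⁻¹)) * y⁻¹)⁻¹ * (y * g * y⁻¹) =
        y * ((h⁻¹ * (u * h * u⁻¹))⁻¹ * g) * y⁻¹ by group]
      exact conj_mem_E hEQ hE2 homega (hYQ y hy) he
    have hCcard := hinvS C hCinv hEC inf_le_left
    have hE0 : 0 < Nat.card E := by omega
    have hrE : Nat.card δ.range ∣ Nat.card E := card_subgroup_dvd_card _
    have hrle : Nat.card δ.range ≤ Nat.card E := Nat.le_of_dvd hE0 hrE
    by_cases hKQ : K = Q
    · -- `u` is trivial on `Q / E`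
      by_cases hC1 : Nat.card C = Nat.card E
      · rcases hcard with h | h | h
        · exfalso
          obtain ⟨g, hg, hgu⟩ := hmove
          have hEQ' := eq_of_le_of_card_ge hEQ h.le
          exact hgu (hmE g (hEQ' ▸ hg))
        · exact ⟨Or.inl (by rw [hC1, h]), fun _ => hC1⟩
        · exact ⟨Or.inr ⟨hmE, hC1, h⟩, fun _ => hC1⟩
      exfalso
      -- `|C| ≥ q ^ 2`, so `|Q| = q ^ 3`
      have hCQ : Nat.card C < Nat.card Q := by
        rcases (Nat.card_le_card_of_injective _ (Subgroup.inclusion_injective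
          (show C ≤ Q from inf_le_left))).lt_or_eq with h | h
        · exact h
        exfalso
        obtain ⟨g, hg, hgu⟩ := hmove
        have hCQ' := eq_of_le_of_card_ge (show C ≤ Q from inf_le_left) h.ge
        exact hgu (mem_centralizer_singleton_iff.1 (show g ∈ C from hCQ'.symm ▸ hg).2)
      have hsqlt : Nat.card E ^ 2 < Nat.card Q := by
        rcases hCcard with h | h | h
        · exact absurd h hC1
        · omega
        · have := Nat.pow_le_pow_right hE0 (show 2 ≤ 3 by norm_num)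
          omega
      rcases hshape with h | ⟨a, haY, haE, haQ⟩
      · omega
      -- an element centralising `E` and fixed point free on `Q / E`
      have hδa : ∀ g ∈ Q, (a * g * a⁻¹)⁻¹ * (u * (a * g * a⁻¹) * u⁻¹) = g⁻¹ * (u * g * u⁻¹) := by
        intro g hg
        set w := a⁻¹ * (u * a * u) with hw
        have hwY : w ∈ Y := mul_mem (inv_mem haY) (hYu a haY)
        have hd : ∀ k ∈ Q, k⁻¹ * (u * k * u⁻¹) ∈ E := fun k hk => ((hK k).1 (hKQ.symm ▸ hk)).2
        set d := g⁻¹ * (u * g * u⁻¹) with hd'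
        set d' := (a * g * a⁻¹)⁻¹ * (u * (a * g * a⁻¹) * u⁻¹) with hd''
        have hdE : d ∈ E := hd g hg
        have hd'E : d' ∈ E := hd _ (hYQ a haY g hg)
        have hwe : ∀ e ∈ E, Commute w e := fun e he =>
          ((haE e he).inv_left).mul_left ((((hmE e he).symm).mul_left (haE e he)).mul_left
            (hmE e he).symm)
        have h1 : w * g * w⁻¹ = g * (d' * d) := by
          calc w * g * w⁻¹ = a⁻¹ * (u * (a * (u * g * u⁻¹) * a⁻¹) * u⁻¹) * a := by
                rw [hw]; simp only [hui, mul_inv_rev, mul_assoc, inv_inv]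
            _ = a⁻¹ * (u * ((a * g * a⁻¹) * d) * u⁻¹) * a := by
                have e : a * (g * d) * a⁻¹ = (a * g * a⁻¹) * d := by
                  calc a * (g * d) * a⁻¹ = (a * g * a⁻¹) * (a * d * a⁻¹) := by group
                    _ = _ := by rw [(haE d hdE).eq, mul_inv_cancel_right]
                rw [show u * g * u⁻¹ = g * d by rw [hd']; group, e]
            _ = a⁻¹ * ((a * g * a⁻¹) * d' * d) * a := by
                congr 2
                calc u * (a * g * a⁻¹ * d) * u⁻¹ = u * (a * g * a⁻¹) * u⁻¹ * (u * d * u⁻¹) := by group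
                  _ = _ := by rw [(hmE d hdE).symm.eq, mul_inv_cancel_right, hd'']; group
            _ = g * (a⁻¹ * (d' * d) * a) := by group
            _ = g * (d' * d) := by
                rw [mul_assoc a⁻¹, ← (haE _ (mul_mem hd'E hdE)).eq, inv_mul_cancel_left]
        have h2 : ∀ n : ℕ, w ^ n * g * (w ^ n)⁻¹ = g * (d' * d) ^ n := by
          intro n
          induction n with
          | zero => simp
          | succ n ih =>
            calc w ^ (n + 1) * g * (w ^ (n + 1))⁻¹ = w * (w ^ n * g * (w ^ n)⁻¹) * w⁻¹ := by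
                  rw [pow_succ']; group
              _ = (w * g * w⁻¹) * (w * (d' * d) ^ n * w⁻¹) := by rw [ih]; group
              _ = _ := by
                rw [h1, (hwe _ (pow_mem (mul_mem hd'E hdE) n)).eq, mul_inv_cancel_right, mul_assoc,
                  ← pow_succ']
        obtain ⟨m, hm⟩ : Odd (orderOf w) := hYodd.of_dvd_nat (Subgroup.orderOf_dvd_natCard Y hwY)
        have h3 := h2 (orderOf w)
        rw [pow_orderOf_eq_one, one_mul, inv_one, mul_one, hm, pow_succ, pow_mul, sq,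
          hE2 _ (mul_mem hd'E hdE), one_pow, one_mul] at h3
        rw [eq_inv_of_mul_eq_one_left (mul_eq_left.1 h3.symm)]
        exact inv_eq_of_mul_eq_one_left (hE2 d hdE)
      obtain ⟨Ka, Ma, hKa, hMa, hKMa⟩ := exists_preimage hEQ hcen hsq (hYQ a haY)
      have hKaE : Ka ≤ E := by
        intro g hg
        obtain ⟨hgQ, hge⟩ := (hKa g).1 hg
        set e := g⁻¹ * (a * g * a⁻¹) with he
        refine haQ g hgQ ?_
        have h2 : ∀ n : ℕ, a ^ n * g * (a ^ n)⁻¹ = g * e ^ n := by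
          intro n
          induction n with
          | zero => simp
          | succ n ih =>
            calc a ^ (n + 1) * g * (a ^ (n + 1))⁻¹ = a * (a ^ n * g * (a ^ n)⁻¹) * a⁻¹ := by
                  rw [pow_succ']; group
              _ = (g * e) * (a * e ^ n * a⁻¹) := by rw [ih, he]; group
              _ = _ := by
                rw [(haE _ (pow_mem hge n)).eq, mul_inv_cancel_right, mul_assoc, ← pow_succ']
        obtain ⟨m, hm⟩ : Odd (orderOf a) := hYodd.of_dvd_nat (Subgroup.orderOf_dvd_natCard Y haY)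
        have h3 := h2 (orderOf a)
        rw [pow_orderOf_eq_one, one_mul, inv_one, mul_one, hm, pow_succ, pow_mul, sq,
          hE2 _ hge, one_pow, one_mul] at h3
        have h4 : e = 1 := mul_eq_left.1 h3.symm
        rw [he, inv_mul_eq_one] at h4
        exact (mul_inv_eq_iff_eq_mul.1 h4.symm)
      have hMaC : Ma ≤ C := by
        intro g hg
        obtain ⟨hgQ, k, hk, hkg⟩ := (hMa g).1 hg
        have hkC : k⁻¹ * (a * k * a⁻¹) ∈ C := by
          have hk1 : k ∈ K := hKQ.symm ▸ hk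
          have hk2 : a * k * a⁻¹ ∈ K := hKQ.symm ▸ hYQ a haY k hk
          let z : K := (⟨k, hk1⟩ : K)⁻¹ * ⟨_, hk2⟩
          have hz : z ∈ δ.ker := by
            rw [MonoidHom.mem_ker, map_mul, map_inv, inv_mul_eq_one]
            exact Subtype.ext (by rw [hδ, hδ]; exact (hδa k hk).symm)
          rw [hker] at hz
          exact mem_subgroupOf.1 hz
        have := mul_mem hkC (hEC hkg)
        rwa [mul_inv_cancel_left] at this
      have h5 : Nat.card Q * Nat.card E ≤ Nat.card E * Nat.card C := by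
        rw [← hKMa]
        exact Nat.mul_le_mul (Nat.le_of_dvd Nat.card_pos (card_dvd_of_le hKaE))
          (Nat.le_of_dvd Nat.card_pos (card_dvd_of_le hMaC))
      rw [mul_comm] at h5
      have := Nat.le_of_mul_le_mul_left h5 hE0
      omega
    · suffices h : Nat.card C = Nat.card E ∧ Nat.card Q = Nat.card E ^ 3 from
        ⟨Or.inr ⟨hmE, h.1, h.2⟩, fun _ => h.1⟩
      have hKle : K ≤ Q := fun g hg => ((hK g).1 hg).1
      -- `M / E` is a copy of `E`
      have hMne : Nat.card M ≠ Nat.card E := by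
        intro h
        rw [h] at hKM
        exact hKQ (eq_of_le_of_card_ge hKle (Nat.eq_of_mul_eq_mul_right hE0 hKM).ge)
      have hMC : M ⊓ C ≤ E := by
        intro g hg
        obtain ⟨hgQ, h, hh, he⟩ := (hM g).1 hg.1
        set b := h⁻¹ * (u * h * u⁻¹) with hb
        have hbC : b ∈ C := by
          have := C.mul_mem hg.2 (C.inv_mem (hEC he))
          simpa using this
        have hbb : b * b = 1 := by
          have h1 : u * b * u⁻¹ = b := (inv_mul_eq_one.1 ((hCmem b).1 hbC).2).symm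
          rw [hinv h, ← hb] at h1
          rw [← inv_eq_iff_mul_eq_one]
          exact h1
        simpa using mul_mem (mem_of_mul_self homega ((hCmem b).1 hbC).1 hbb) he
      have hM2 : Nat.card M = Nat.card E ^ 2 := by
        have hMQ : M ≤ Q := hMK.trans hKle
        have hle2 : Nat.card M ≤ Nat.card E * Nat.card E := by
          rw [← (δ.comp (Subgroup.inclusion hMK)).ker.index_mul_card, index_ker]
          refine Nat.mul_le_mul (Nat.le_of_dvd hE0 (card_subgroup_dvd_card _)) ?_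
          refine Nat.card_le_card_of_injective
            (fun k => (⟨((k : M) : G), hMC ⟨(k : M).2, ?_⟩⟩ : E)) ?_
          · have hk : Subgroup.inclusion hMK (k : M) ∈ δ.ker := k.2
            rw [hker] at hk
            exact mem_subgroupOf.1 hk
          · intro a b hab
            have h := congrArg (fun e : E => (e : G)) hab
            exact Subtype.ext (Subtype.ext h)
        rcases hinvS M hMinv hEM hMQ with h | h | h
        · exact absurd h hMne
        · exact h
        · exfalso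
          rw [h, show Nat.card E ^ 3 = Nat.card E * Nat.card E * Nat.card E by ring] at hle2
          have := Nat.mul_le_mul_left (Nat.card E * Nat.card E) hn4
          nlinarith
      have hK2 : Nat.card E ^ 2 ≤ Nat.card K := hM2 ▸ Nat.le_of_dvd Nat.card_pos (card_dvd_of_le hMK)
      have hQK : Nat.card K * Nat.card E = Nat.card Q := by
        rw [hM2, sq, ← mul_assoc] at hKM
        exact Nat.eq_of_mul_eq_mul_right hE0 hKM
      have hQ3 : Nat.card Q = Nat.card E ^ 3 := by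
        have h23 : Nat.card E ^ 3 = Nat.card E ^ 2 * Nat.card E := pow_succ _ _
        have hge : Nat.card E ^ 3 ≤ Nat.card Q := by
          rw [h23, ← hQK]; exact Nat.mul_le_mul_right _ hK2
        have h12 : Nat.card E ^ 2 < Nat.card E ^ 3 := Nat.pow_lt_pow_right (by omega) (by norm_num)
        have h11 : Nat.card E ≤ Nat.card E ^ 2 := Nat.le_self_pow (by norm_num) _
        rcases hcard with h | h | h <;> omega
      refine ⟨?_, hQ3⟩
      have hKM' : Nat.card K = Nat.card E ^ 2 := by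
        rw [hQ3, pow_succ] at hQK
        exact Nat.eq_of_mul_eq_mul_right hE0 hQK
      have hMKeq : M = K := eq_of_le_of_card_ge hMK (by omega)
      have hCM : C ≤ E := fun g hg => hMC ⟨hMKeq ▸ hCK hg, hg⟩
      rw [le_antisymm hCM hEC]

end Cfsg.Agent.H29.Asch
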