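import Cfsg.Agent.H6.Asch.Quadrangle
import Cfsg.Agent.H29.Asch.UUULine
import Cfsg.Agent.H30.Asch.NoneProperPerp

/-!
The end of the rank theorem when the stabiliser of a point fixes the class of a line there: the
conjugates of the fixed set of `u` are the lines of a generalised quadrangle, with `|Q| + 1` points
on a line and `|E|` lines through a point, so `|Q| ≤ (|E| - 1) ^ 2`.
-/

set_option autoImplicit false
set_option linter.style.haveILetI false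

namespace Cfsg.Agent.H29.Asch

open Subgroup MulAction
open Cfsg.Agent.H14.Asch
open Cfsg.Agent.H73.Asch (Line2)
open Cfsg.Agent.H30.Asch (NPCtx Quad exists_conj_mul_member)

universe u v

variable {G : Type u} [Group G] {Ω : Type v} [MulAction G Ω]

theorem mem_fixedBy_conj_iff {g t : G} {p : Ω} :
    p ∈ fixedBy Ω (g * t * g⁻¹) ↔ g⁻¹ • p ∈ fixedBy Ω t := by
  rw [mem_fixedBy, mem_fixedBy, mul_smul, mul_smul, smul_eq_iff_eq_inv_smul]

variable [Finite G] [Finite Ω] {D : Set G} {u v : G} {x y : Ω} {E Q : Subgroup G}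

/-- A line through `p ∈ fixedBy Ω u` is conjugate under the line of `u` to one of the lines of the
class at `x`. -/
theorem exists_class_of_mem (h : Crit G Ω D) (hq : Quad Ω D u v x y)
    (hclass : ∀ g : G, g • x = x → ∃ b ∈ E, fixedBy Ω (g * u * g⁻¹) = fixedBy Ω (u * b))
    {g : G} {p : Ω} (hp : u • p = p) (hgp : p ∈ fixedBy Ω (g * u * g⁻¹)) :
    ∃ m : G, ∃ b ∈ E, Commute m u ∧ m • x = p ∧
      fixedBy Ω (g * u * g⁻¹) = fixedBy Ω (m * (u * b) * m⁻¹) := by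
  have hSL := h.line hq.bu.1 hq.ne hq.hx.1 hq.hy.1
  obtain ⟨m, hm, hmx⟩ := hSL.trans hq.hx.1 hp
  obtain ⟨n, hn, hnx⟩ := hSL.trans hq.hx.1 (mem_fixedBy_conj_iff.mp hgp)
  have hmu : Commute m u := commute_of_mem_lineGroup hm
  have hnu : Commute n u := commute_of_mem_lineGroup hn
  obtain ⟨b, hb, hfix⟩ := hclass (m⁻¹ * g * n) (by
    rw [mul_smul, mul_smul, hnx, smul_inv_smul, ← hmx, inv_smul_smul])
  refine ⟨m, b, hb, hmu, hmx, Set.ext fun c => ?_⟩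
  rw [mem_fixedBy_conj_iff (g := m), ← hfix,
    show m⁻¹ * g * n * u * (m⁻¹ * g * n)⁻¹ = m⁻¹ * (g * (n * u * n⁻¹) * g⁻¹) * m by group,
    H14.Asch.conj_eq_of_commute hnu, mem_fixedBy_conj_iff (g := g)]
  constructor
  · intro hc
    rw [mem_fixedBy, mul_smul, mul_smul, smul_inv_smul,
      show (g * u * g⁻¹) • c = c from mem_fixedBy_conj_iff.mpr hc]
  · intro hc
    rw [mem_fixedBy, mul_smul, mul_smul, smul_inv_smul] at hc
    exact mem_fixedBy_conj_iff.mp (MulAction.injective m⁻¹ hc)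

/-- A line other than `fixedBy Ω u` meets it at most once. -/
theorem eq_of_mem_two (hc : NPCtx G Ω D) (hq : Quad Ω D u v x y) (hl : Line2 D u x E Q)
    (hclass : ∀ g : G, g • x = x → ∃ b ∈ E, fixedBy Ω (g * u * g⁻¹) = fixedBy Ω (u * b))
    {g : G} {p q : Ω} (hp : u • p = p) (hgp : p ∈ fixedBy Ω (g * u * g⁻¹)) (hq' : u • q = q)
    (hgq : q ∈ fixedBy Ω (g * u * g⁻¹)) (hne : fixedBy Ω (g * u * g⁻¹) ≠ fixedBy Ω u) : p = q := by
  obtain ⟨m, b, hb, hmu, hmx, hfix⟩ := exists_class_of_mem hc.crit hq hclass hp hgp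
  by_cases hb1 : b = 1
  · exfalso
    apply hne
    rw [hfix, hb1, mul_one, H14.Asch.conj_eq_of_commute hmu]
  have hbm := line2_member hl hb hb1
  rw [hfix] at hgq
  have h1 : (u * b) • m⁻¹ • q = m⁻¹ • q := mem_fixedBy_conj_iff.mp hgq
  have h2 : u • m⁻¹ • q = m⁻¹ • q := smul_fixed_of_commute hmu.inv_left hq'
  have h3 : b • m⁻¹ • q = m⁻¹ • q :=
    MulAction.injective u (show u • b • m⁻¹ • q = u • m⁻¹ • q by rw [← mul_smul, h1, h2])
  have h4 := hc.crit.eq_of_fixed hbm.1 h3 hbm.2.2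
  rw [← hmx, ← h4, smul_inv_smul]

/-- Exactly one point of `fixedBy Ω u` is on a common line with a point moved by `u`. -/
theorem existsUnique_perp (hc : NPCtx G Ω D) (hq : Quad Ω D u v x y) (hl : Line2 D u x E Q)
    (hclass : ∀ g : G, g • x = x → ∃ b ∈ E, fixedBy Ω (g * u * g⁻¹) = fixedBy Ω (u * b))
    {c : Ω} (hcu : u • c ≠ c) :
    ∃! p, p ∈ fixedBy Ω u ∧ ∃ g : G, c ∈ fixedBy Ω (g * u * g⁻¹) ∧
      p ∈ fixedBy Ω (g * u * g⁻¹) := by
  obtain ⟨a, a', p₀, hcov⟩ := hc.exists_cover_self hq hcu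
  have hau : a ∈ commMembers D u := ⟨hcov.mem_a.1, hcov.mem_a.2.1⟩
  have hp₀ : u • p₀ = p₀ := hc.crit.fix_of_commute hcov.mem_a.1 hcov.mem_a.2.1.symm hcov.smul_a
  obtain ⟨s, hs⟩ := exists_conj_mul_member hc.crit hc.lines hq.bu hau
  refine ⟨p₀, ⟨hp₀, s, ?_, ?_⟩, ?_⟩
  · rw [hs]; exact hcov.fix_c
  · rw [hs, mem_fixedBy, mul_smul, hcov.smul_a, hp₀]
  rintro p ⟨hp, g, hgc, hgp⟩
  obtain ⟨m, b, hb, hmu, hmx, hfix⟩ := exists_class_of_mem hc.crit hq hclass hp hgp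
  rw [hfix] at hgc
  have hb1 : b ≠ 1 := by
    intro e
    rw [e, mul_one, H14.Asch.conj_eq_of_commute hmu] at hgc
    exact hcu hgc
  have hbm := line2_member hl hb hb1
  have hconj : m * (u * b) * m⁻¹ = u * (m * b * m⁻¹) := by
    rw [show m * (u * b) * m⁻¹ = m * u * m⁻¹ * (m * b * m⁻¹) by group,
      H14.Asch.conj_eq_of_commute hmu]
  have hcm : m * b * m⁻¹ ∈ commMembers D u := ⟨hc.crit.conj_mem hbm.1 m,
    (hmu.mul_left hbm.2.1).mul_left hmu.inv_left⟩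
  have e := hc.middle_unique hq hcu hau hcm hcov.fix_c (by rw [← hconj]; exact hgc)
  refine hc.crit.eq_of_fixed hcov.mem_a.1 ?_ hcov.smul_a
  rw [e, ← hmx]
  exact H73.Bender.conj_smul_of_smul hbm.2.2

/-- The lines through `x`. -/
theorem card_lines_at (hc : NPCtx G Ω D) (hq : Quad Ω D u v x y) (hl : Line2 D u x E Q)
    (hclass : ∀ g : G, g • x = x → ∃ b ∈ E, fixedBy Ω (g * u * g⁻¹) = fixedBy Ω (u * b)) :
    Nat.card {l : Set Ω | l ∈ Set.range (fun g : G => fixedBy Ω (g * u * g⁻¹)) ∧ x ∈ l} =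
      Nat.card E := by
  have hline : ∀ b : E, fixedBy Ω (u * (b : G)) ∈ Set.range (fun g : G => fixedBy Ω (g * u * g⁻¹)) ∧
      x ∈ fixedBy Ω (u * (b : G)) := by
    rintro ⟨b, hb⟩
    by_cases hb1 : b = 1
    · subst hb1
      rw [mul_one]
      exact ⟨⟨1, by simp⟩, hq.hx.1⟩
    · have hbm := line2_member hl hb hb1
      obtain ⟨s, hs⟩ := exists_conj_mul_member hc.crit hc.lines hq.bu ⟨hbm.1, hbm.2.1⟩
      refine ⟨⟨s, by show fixedBy Ω (s * u * s⁻¹) = _; rw [hs]⟩, ?_⟩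
      rw [mem_fixedBy, mul_smul, hbm.2.2, hq.hx.1]
  refine (Nat.card_eq_of_bijective
    (fun b : E => (⟨_, hline b⟩ :
      {l : Set Ω | l ∈ Set.range (fun g : G => fixedBy Ω (g * u * g⁻¹)) ∧ x ∈ l}))
    ⟨?_, ?_⟩).symm
  · rintro ⟨a, ha⟩ ⟨b, hb⟩ e
    have e' : fixedBy Ω (u * a) = fixedBy Ω (u * b) := congrArg Subtype.val e
    have key : ∀ {a b : G}, a ∈ E → b ∈ E → fixedBy Ω (u * a) = fixedBy Ω (u * b) → a ≠ 1 →
        a = b := by
      intro a b ha hb e' ha1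
      obtain ⟨c, hcu, hca⟩ := hc.exists_perp_point hq hl ha ha1
      have hcb : (u * b) • c = c := (Set.ext_iff.mp e' c).mp hca
      have hb1 : b ≠ 1 := fun e1 => hcu (by rwa [e1, mul_one] at hcb)
      have ham := line2_member hl ha ha1
      have hbm := line2_member hl hb hb1
      exact hc.middle_unique hq hcu ⟨ham.1, ham.2.1⟩ ⟨hbm.1, hbm.2.1⟩ hca hcb
    apply Subtype.ext
    show a = b
    by_cases ha1 : a = 1
    · by_cases hb1 : b = 1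
      · rw [ha1, hb1]
      · exact (key hb ha e'.symm hb1).symm
    · exact key ha hb e' ha1
  · rintro ⟨l, ⟨g, rfl⟩, hxl⟩
    have hSL := hc.crit.line hq.bu.1 hq.ne hq.hx.1 hq.hy.1
    obtain ⟨n, hn, hnx⟩ := hSL.trans hq.hx.1 (mem_fixedBy_conj_iff.mp hxl)
    have hnu : Commute n u := commute_of_mem_lineGroup hn
    obtain ⟨b, hb, hfix⟩ := hclass (g * n) (by rw [mul_smul, hnx, smul_inv_smul])
    refine ⟨⟨b, hb⟩, Subtype.ext ?_⟩
    show fixedBy Ω (u * b) = fixedBy Ω (g * u * g⁻¹)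
    rw [← hfix, show g * n * u * (g * n)⁻¹ = g * (n * u * n⁻¹) * g⁻¹ by group,
      H14.Asch.conj_eq_of_commute hnu]

/-- If every element fixing `x` fixes the class of the line of `u` there then
`|Q| ≤ (|E| - 1) ^ 2`. -/
theorem card_Q_le_of_class (hc : NPCtx G Ω D) (hq : Quad Ω D u v x y) (hl : Line2 D u x E Q)
    (hclass : ∀ g : G, g • x = x → ∃ b ∈ E, fixedBy Ω (g * u * g⁻¹) = fixedBy Ω (u * b)) :
    Nat.card Q ≤ (Nat.card E - 1) ^ 2 := by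
  haveI := hc.crit.trans
  haveI : Nonempty Ω := ⟨x⟩
  have h4 := hl.four_le
  have hcard : ∀ g : G, Nat.card (fixedBy Ω (g * u * g⁻¹)) = Nat.card Q + 1 := by
    intro g
    rw [H30.Asch.card_fixedBy_conj, line2_card_Q hl hq.hy.1 hq.ne.symm]
  refine H6.Asch.Quadrangle.le_sq_of_sets
    (S := Set.range fun g : G => fixedBy Ω (g * u * g⁻¹)) (by omega) ?_ ?_ ?_ ?_
  · rintro _ ⟨g, rfl⟩
    exact hcard g
  · intro p
    obtain ⟨k, rfl⟩ := exists_smul_eq G x p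
    rw [show Nat.card E - 1 + 1 = Nat.card E by omega, ← card_lines_at hc hq hl hclass]
    have hmove : ∀ (g k : G) (c : Ω), c ∈ fixedBy Ω (k * g * u * (k * g)⁻¹) ↔
        k⁻¹ • c ∈ fixedBy Ω (g * u * g⁻¹) := fun g k c => by
      rw [show k * g * u * (k * g)⁻¹ = k * (g * u * g⁻¹) * k⁻¹ by group, mem_fixedBy_conj_iff]
    refine Nat.card_eq_of_bijective (fun l => (⟨(fun c => k • c) ⁻¹' l.1, ?_⟩ :
      {l : Set Ω | l ∈ Set.range (fun g : G => fixedBy Ω (g * u * g⁻¹)) ∧ x ∈ l})) ⟨?_, ?_⟩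
    · obtain ⟨⟨g, hg⟩, hx'⟩ := l.2
      refine ⟨⟨k⁻¹ * g, Set.ext fun c => ?_⟩, hx'⟩
      rw [Set.mem_preimage, ← hg, hmove g k⁻¹ c, inv_inv]
    · rintro ⟨l, hl1⟩ ⟨l', hl2⟩ e
      exact Subtype.ext ((Set.preimage_eq_preimage (MulAction.surjective k)).mp
        (congrArg Subtype.val e))
    · rintro ⟨_, ⟨g, rfl⟩, hx'⟩
      refine ⟨⟨fixedBy Ω (k * g * u * (k * g)⁻¹), ⟨⟨k * g, rfl⟩, ?_⟩⟩, Subtype.ext
        (Set.ext fun c => ?_)⟩
      · rw [hmove, inv_smul_smul]; exact hx'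
      · show k • c ∈ fixedBy Ω (k * g * u * (k * g)⁻¹) ↔ _
        rw [hmove, inv_smul_smul]
  · rintro _ ⟨g, rfl⟩ _ ⟨k, rfl⟩ hne p ⟨hp1, hp2⟩ q ⟨hq1, hq2⟩
    have hmove : ∀ c : Ω, c ∈ fixedBy Ω (k * u * k⁻¹) ↔
        g⁻¹ • c ∈ fixedBy Ω (g⁻¹ * k * u * (g⁻¹ * k)⁻¹) := fun c => by
      rw [show g⁻¹ * k * u * (g⁻¹ * k)⁻¹ = g⁻¹ * (k * u * k⁻¹) * g⁻¹⁻¹ by group,
        mem_fixedBy_conj_iff (g := g⁻¹), inv_inv, smul_inv_smul]
    refine MulAction.injective g⁻¹ (eq_of_mem_two hc hq hl hclass (g := g⁻¹ * k)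
      (mem_fixedBy_conj_iff.mp hp1) ((hmove p).mp hp2) (mem_fixedBy_conj_iff.mp hq1)
      ((hmove q).mp hq2) fun e => hne (Set.ext fun c => ?_))
    rw [hmove c, e, ← mem_fixedBy_conj_iff]
  · rintro _ ⟨g, rfl⟩ p hp
    have hcu : u • g⁻¹ • p ≠ g⁻¹ • p := fun e => hp (mem_fixedBy_conj_iff.mpr e)
    obtain ⟨r, ⟨hr, k, hk1, hk2⟩, huniq⟩ := existsUnique_perp hc hq hl hclass hcu
    refine ⟨g • r, ⟨mem_fixedBy_conj_iff.mpr (by rwa [inv_smul_smul]), _, ⟨g * k, rfl⟩, ?_, ?_⟩, ?_⟩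
    · show p ∈ fixedBy Ω (g * k * u * (g * k)⁻¹)
      rw [show g * k * u * (g * k)⁻¹ = g * (k * u * k⁻¹) * g⁻¹ by group, mem_fixedBy_conj_iff]
      exact hk1
    · show g • r ∈ fixedBy Ω (g * k * u * (g * k)⁻¹)
      rw [show g * k * u * (g * k)⁻¹ = g * (k * u * k⁻¹) * g⁻¹ by group, mem_fixedBy_conj_iff,
        inv_smul_smul]
      exact hk2
    rintro q ⟨hq', _, ⟨k', rfl⟩, hpk, hqk⟩
    have hmove : ∀ c : Ω, c ∈ fixedBy Ω (k' * u * k'⁻¹) →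
        g⁻¹ • c ∈ fixedBy Ω (g⁻¹ * k' * u * (g⁻¹ * k')⁻¹) := fun c hc' => by
      rw [show g⁻¹ * k' * u * (g⁻¹ * k')⁻¹ = g⁻¹ * (k' * u * k'⁻¹) * g⁻¹⁻¹ by group,
        mem_fixedBy_conj_iff, inv_inv, smul_inv_smul]
      exact hc'
    rw [← huniq (g⁻¹ • q) ⟨mem_fixedBy_conj_iff.mp hq', g⁻¹ * k', hmove p hpk, hmove q hqk⟩,
      smul_inv_smul]

/-- **Step 6**: the class of a line is not fixed by the stabiliser of the point when
`(|E| - 1) ^ 2 < |Q|`. -/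
theorem false_of_class (hc : NPCtx G Ω D) (hq : Quad Ω D u v x y) (hl : Line2 D u x E Q)
    (hclass : ∀ g : G, g • x = x → ∃ b ∈ E, fixedBy Ω (g * u * g⁻¹) = fixedBy Ω (u * b))
    (hlt : (Nat.card E - 1) ^ 2 < Nat.card Q) : False :=
  (card_Q_le_of_class hc hq hl hclass).not_gt hlt

end Cfsg.Agent.H29.Asch
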