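import Cfsg.Agent.Coprime.HalfTransField
import Cfsg.Agent.Cores.Fitting
import Cfsg.Agent.S1161
import Cfsg.Agent.S0205

/-!
Parity in a group with a normal odd subgroup transitive on the non-zero vectors of an elementary
abelian 2-group: the group maps to a cyclic group, all involutions moving a vector to the same
non-trivial element and the elements moving no vector to one.
-/

set_option autoImplicit false
set_option linter.style.haveILetI false

namespace Cfsg.Agent.H29.Asch

open Subgroup MulAction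

universe u

/-- The exponent of a proper invariant subgroup is too small. -/
theorem not_bound {g k e : ℕ} (he : 0 < e) (hek : e < k) (hg : g = Nat.gcd e k) (F : ℕ)
    (hFg : F ≤ 2 ^ g - 1) (hk : 2 ^ k - 1 ≤ k * F) : False := by
  have hgk : g ∣ k := hg ▸ Nat.gcd_dvd_right e k
  have hge : g ≤ e := hg ▸ Nat.gcd_le_left k he
  have hg0 : 0 < g := hg ▸ Nat.gcd_pos_of_pos_left k he
  obtain ⟨c, hc⟩ := hgk
  have hc2 : 2 ≤ c := by
    rcases c with _ | _ | c
    · simp at hc; omega
    · simp at hc; omega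
    · omega
  have hj : 2 * g ≤ k := by rw [hc, mul_comm 2 g]; exact Nat.mul_le_mul_left g hc2
  obtain ⟨j, rfl⟩ : ∃ j, k = g + j := ⟨k - g, by omega⟩
  have hgj : g ≤ j := by omega
  have hj2 : g + j ≤ 2 ^ j := by
    calc g + j ≤ 2 * j := by omega
      _ = 2 * ((j - 1) + 1) := by congr 1; omega
      _ ≤ 2 * 2 ^ (j - 1) := Nat.mul_le_mul_left 2 Nat.lt_two_pow_self
      _ = 2 ^ j := by rw [← pow_succ']; congr 1; omega
  have hpos : 1 ≤ 2 ^ g := Nat.one_le_two_pow
  have h1 : (g + j) * F ≤ 2 ^ j * (2 ^ g - 1) := Nat.mul_le_mul hj2 hFg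
  have h2 : 2 ^ j * (2 ^ g - 1) + 2 ^ j = 2 ^ (g + j) := by
    rw [← Nat.mul_succ, Nat.succ_eq_add_one, Nat.sub_add_cancel hpos, ← pow_add, add_comm]
  have h3 : 1 < 2 ^ j := Nat.one_lt_two_pow (by omega)
  omega

variable {M : Type*} [Group M] [Finite M] {E : Type u} [AddCommGroup E] [Finite E]
  [DistribMulAction M E]

/-- The Fitting subgroup of an odd group transitive on the non-zero vectors is irreducible. -/
theorem fitting_irreducible {D : Type*} [Group D] [Finite D] [DistribMulAction D E]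
    [FaithfulSMul D E] [Nontrivial E] (hE : ∀ e : E, 2 • e = 0) (hDodd : Odd (Nat.card D))
    (hDtr : ∀ a b : E, a ≠ 0 → b ≠ 0 → ∃ d : D, d • a = b) (E₀ : AddSubgroup E)
    (hinv : ∀ f ∈ Cfsg.fittingSubgroup D, ∀ e ∈ E₀, f • e ∈ E₀) : E₀ = ⊥ ∨ E₀ = ⊤ := by
  classical
  haveI : Group.IsSolvable D := Cfsg.Agent.S0205.result hDodd
  have hDtr' : ∀ a b : E, a ≠ 0 → b ≠ 0 → ∃ d : D, d • a = b ∨ d • a = -b := fun a b ha hb =>
    (hDtr a b ha hb).imp fun _ h => Or.inl h
  obtain ⟨-, hfpf, -⟩ := Cfsg.Agent.S1161.result hDodd Nat.prime_two hE hDtr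
  set F : Subgroup D := Cfsg.fittingSubgroup D with hF
  obtain ⟨k, hEk, hDle⟩ : ∃ k : ℕ, Nat.card E = 2 ^ k ∧ Nat.card D ≤ k * Nat.card F := by
    obtain ⟨K, fK, finK, φ, -, ψ, hψ⟩ :=
      Coprime.HalfTrans.exists_semilinear hDodd Nat.prime_two hE hDtr'
    haveI : Fact (Nat.Prime 2) := ⟨Nat.prime_two⟩
    have h2 : (2 : K) = 0 := by
      have h := hE (φ.symm 1)
      have h' := congrArg φ h
      rw [map_nsmul, φ.apply_symm_apply, map_zero, nsmul_one] at h'
      exact_mod_cast h'
    haveI : CharP K 2 := ringChar.of_eq (CharP.ringChar_of_prime_eq_zero Nat.prime_two (by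
      exact_mod_cast h2))
    obtain ⟨k, hk, hk'⟩ := Coprime.HalfTrans.card_ringAut_le K 2
    haveI : Finite (K ≃+* K) := Finite.of_injective (fun f => (f : K → K)) DFunLike.coe_injective
    refine ⟨k, by rw [Nat.card_congr φ.toEquiv, hk], ?_⟩
    rw [← ψ.ker.index_mul_card, Subgroup.index_ker]
    exact Nat.mul_le_mul (le_trans (Subgroup.card_le_card_group _) hk') (Subgroup.card_le_of_le hψ)
  have hEle : 2 ^ k - 1 ≤ Nat.card D := by
    obtain ⟨v, hv⟩ := exists_ne (0 : E)
    have h1 : Nat.card E ≤ Nat.card (Option D) := by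
      refine Nat.card_le_card_of_surjective (fun o => o.elim 0 fun d => d • v) fun y => ?_
      by_cases hy : y = 0
      · exact ⟨none, hy.symm⟩
      · obtain ⟨d, hd⟩ := hDtr v y hv hy
        exact ⟨some d, hd⟩
    rw [Finite.card_option, hEk] at h1
    omega
  by_contra hne
  rw [not_or] at hne
  obtain ⟨e, hek, he⟩ := (Nat.dvd_prime_pow Nat.prime_two).1
    (hEk ▸ E₀.card_addSubgroup_dvd_card)
  have he0 : 0 < e := by
    rcases e.eq_zero_or_pos with rfl | h
    · exact absurd (AddSubgroup.eq_bot_of_card_eq E₀ he) hne.1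
    · exact h
  have hek' : e < k := lt_of_le_of_ne hek fun h => hne.2
    (AddSubgroup.eq_top_of_card_eq E₀ (by rw [he, h, hEk]))
  let X := {x : E₀ // (x : E) ≠ 0}
  letI : MulAction F X :=
    { smul := fun f x => ⟨⟨(f : D) • ((x.1 : E₀) : E), hinv f f.2 _ x.1.2⟩,
        fun h => x.2 ((smul_eq_zero_iff_eq _).1 h)⟩
      one_smul := fun x => Subtype.ext (Subtype.ext (one_smul D _))
      mul_smul := fun f f' x => Subtype.ext (Subtype.ext (mul_smul (f : D) (f' : D) _)) }
  have hfree : ∀ x : X, stabilizer F x = ⊥ := fun x => eq_bot_iff.2 fun f hf => by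
    by_contra hf1
    exact x.2 (hfpf f f.2 (fun h => hf1 (Subgroup.mem_bot.2 (Subtype.ext h))) _
      (congrArg (fun y : X => ((y.1 : E₀) : E)) hf))
  have hFdvd : Nat.card F ∣ 2 ^ e - 1 := by
    have hX : Nat.card X = 2 ^ e - 1 := by
      rw [← he]
      have h1 : Nat.card (Option X) = Nat.card E₀ := Nat.card_congr
        ((Equiv.optionCongr (Equiv.subtypeEquivRight fun x : E₀ => by
          simp)).trans (Equiv.optionSubtypeNe (0 : E₀)))
      rw [Finite.card_option] at h1
      omega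
    rw [← hX, Nat.card_congr (MulAction.selfEquivOrbitsQuotientProd hfree), Nat.card_prod]
    exact dvd_mul_left _ _
  have hFk : Nat.card F ∣ 2 ^ k - 1 := by
    let Y := {x : E // x ≠ 0}
    letI : MulAction F Y :=
      { smul := fun f x => ⟨(f : D) • (x : E), fun h => x.2 ((smul_eq_zero_iff_eq _).1 h)⟩
        one_smul := fun x => Subtype.ext (one_smul D _)
        mul_smul := fun f f' x => Subtype.ext (mul_smul (f : D) (f' : D) _) }
    have hfree' : ∀ x : Y, stabilizer F x = ⊥ := fun x => eq_bot_iff.2 fun f hf => by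
      by_contra hf1
      exact x.2 (hfpf f f.2 (fun h => hf1 (Subgroup.mem_bot.2 (Subtype.ext h))) _
        (congrArg Subtype.val hf))
    have hY : Nat.card Y = 2 ^ k - 1 := by
      have h1 : Nat.card (Option Y) = Nat.card E := Nat.card_congr (Equiv.optionSubtypeNe (0 : E))
      rw [Finite.card_option, hEk] at h1
      omega
    rw [← hY, Nat.card_congr (MulAction.selfEquivOrbitsQuotientProd hfree'), Nat.card_prod]
    exact dvd_mul_left _ _
  have hg := Nat.dvd_gcd hFdvd hFk
  rw [Nat.pow_sub_one_gcd_pow_sub_one] at hg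
  refine not_bound he0 hek' rfl _ (Nat.le_of_dvd ?_ hg) (hEle.trans hDle)
  have : 1 < 2 ^ Nat.gcd e k :=
    Nat.one_lt_two_pow (Nat.gcd_pos_of_pos_left k he0).ne'
  omega

/-- **Parity**: a homomorphism to a commutative group with the same non-trivial value on all
involutions moving a vector. -/
theorem exists_parity [Nontrivial E] (hE : ∀ e : E, 2 • e = 0) (O : Subgroup M) [O.Normal]
    (hodd : Odd (Nat.card O)) (htr : ∀ a b : E, a ≠ 0 → b ≠ 0 → ∃ o ∈ O, o • a = b) :
    ∃ (A : Type u) (_ : CommGroup A) (φ : M →* A),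
      (∀ m : M, (∀ e : E, m • e = e) → φ m = 1) ∧
      (∀ m : M, m * m = 1 → (∃ e : E, m • e ≠ e) → φ m ≠ 1) ∧
      ∀ m m' : M, m * m = 1 → m' * m' = 1 → (∃ e : E, m • e ≠ e) → (∃ e : E, m' • e ≠ e) →
        φ m = φ m' := by
  classical
  haveI : Finite (AddMonoid.End E) :=
    Finite.of_injective (fun f => (f : E → E)) DFunLike.coe_injective
  let τ : M →* (AddMonoid.End E)ˣ := (DistribMulAction.toAddMonoidEnd M E).toHomUnits
  have hτ : ∀ (m : M) (e : E), ((τ m : (AddMonoid.End E)ˣ) : AddMonoid.End E) e = m • e :=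
    fun _ _ => rfl
  set D : Subgroup (AddMonoid.End E)ˣ := O.map τ with hD
  haveI : FaithfulSMul D E := ⟨fun {a b} h =>
    Subtype.ext (Units.ext (DFunLike.ext _ _ h))⟩
  have hDodd : Odd (Nat.card D) := hodd.of_dvd_nat (card_map_dvd O τ)
  have hDtr : ∀ a b : E, a ≠ 0 → b ≠ 0 → ∃ d : D, d • a = b := fun a b ha hb => by
    obtain ⟨o, ho, hab⟩ := htr a b ha hb
    exact ⟨⟨τ o, mem_map_of_mem _ ho⟩, hab⟩
  have hDtr' : ∀ a b : E, a ≠ 0 → b ≠ 0 → ∃ d : D, d • a = b ∨ d • a = -b := fun a b ha hb =>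
    (hDtr a b ha hb).imp fun _ h => Or.inl h
  obtain ⟨hcyc, hfpf, -⟩ := Cfsg.Agent.S1161.result hDodd Nat.prime_two hE hDtr
  haveI : Group.IsSolvable D := Cfsg.Agent.S0205.result hDodd
  set F : Subgroup D := Cfsg.fittingSubgroup D with hF
  -- `F` is irreducible
  have hirr : ∀ E₀ : AddSubgroup E, (∀ f ∈ F, ∀ e ∈ E₀, (f : D) • e ∈ E₀) → E₀ = ⊥ ∨ E₀ = ⊤ :=
    fitting_irreducible hE hDodd hDtr
  -- the field generated by `F`
  obtain ⟨z, hz⟩ := hcyc.exists_generator
  let zE : AddMonoid.End E := (((z : D) : (AddMonoid.End E)ˣ) : AddMonoid.End E)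
  set R := Subring.closure ({zE} : Set (AddMonoid.End E)) with hR
  haveI : IsMulCommutative R := Subring.isMulCommutative_closure (by rintro x rfl y rfl; rfl)
  have hFR : ∀ f ∈ F, (((f : D) : (AddMonoid.End E)ˣ) : AddMonoid.End E) ∈ R := by
    intro f hf
    obtain ⟨j, hj⟩ :=
      (IsOfFinOrder.mem_powers_iff_mem_zpowers (isOfFinOrder_of_finite z)).mpr (hz ⟨f, hf⟩)
    have h : f = (z : D) ^ j := (congrArg Subtype.val hj).symm
    rw [h, Subgroup.coe_pow, Units.val_pow_eq_pow_val]
    exact pow_mem (Subring.subset_closure (Set.mem_singleton _)) j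
  have hcomm : ∀ s ∈ R, ∀ f ∈ F, ∀ x : E, s ((f : D) • x) = (f : D) • s x := by
    intro s hs f hf x
    have h := congrArg Subtype.val (mul_comm' (⟨s, hs⟩ : R) ⟨_, hFR f hf⟩)
    exact congrArg (fun g : AddMonoid.End E => g x) h
  haveI : Nontrivial R := by
    obtain ⟨v, hv⟩ := exists_ne (0 : E)
    exact ⟨0, 1, fun h => hv (by
      have := congrArg (fun r : R => (r : AddMonoid.End E) v) h
      simpa using this.symm)⟩
  haveI : NoZeroDivisors R := by
    refine ⟨fun {s t} hst => ?_⟩
    by_contra hne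
    rw [not_or] at hne
    let E₀ : AddSubgroup E := AddMonoidHom.ker (s : AddMonoid.End E)
    rcases hirr E₀ (fun f hf e he => by
      show (s : AddMonoid.End E) ((f : D) • e) = 0
      rw [hcomm _ s.2 f hf, show (s : AddMonoid.End E) e = 0 from he, smul_zero]) with h | h
    · refine hne.2 (Subtype.ext (DFunLike.ext _ _ fun e => ?_))
      have hm : (t : AddMonoid.End E) e ∈ E₀ := congrArg (fun r : R => (r : AddMonoid.End E) e) hst
      rw [h, AddSubgroup.mem_bot] at hm
      exact hm
    · refine hne.1 (Subtype.ext (DFunLike.ext _ _ fun e => ?_))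
      exact (show e ∈ E₀ by rw [h]; exact AddSubgroup.mem_top _)
  haveI : IsDomain R := NoZeroDivisors.to_isDomain _
  letI fld : Field R := (Finite.isDomain_to_isField R).toField
  -- conjugation
  haveI hFchar : F.Characteristic := Cores.fittingSubgroup_characteristic
  have hDn : ∀ m : M, ∀ d ∈ D, τ m * d * (τ m)⁻¹ ∈ D := by
    rintro m _ ⟨o, ho, rfl⟩
    exact ⟨m * o * m⁻¹, (inferInstance : O.Normal).conj_mem o ho m, by simp⟩
  let cD : M → D ≃* D := fun m =>
    { toFun := fun d => ⟨τ m * d * (τ m)⁻¹, hDn m d d.2⟩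
      invFun := fun d => ⟨τ m⁻¹ * d * (τ m⁻¹)⁻¹, hDn m⁻¹ d d.2⟩
      left_inv := fun d => Subtype.ext (by simp [mul_assoc])
      right_inv := fun d => Subtype.ext (by simp [mul_assoc])
      map_mul' := fun a b => Subtype.ext (by simp [mul_assoc]) }
  have hRconj : ∀ m : M, ∀ s ∈ R, (τ m : AddMonoid.End E) * s * ((τ m)⁻¹ : (AddMonoid.End E)ˣ) ∈ R := by
    intro m s hs
    induction hs using Subring.closure_induction with
    | mem x hx =>
      obtain rfl := hx
      have hm : cD m (z : D) ∈ F := by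
        have h := (characteristic_iff_map_eq.mp hFchar) (cD m)
        exact SetLike.le_def.mp h.le (mem_map_of_mem _ z.2)
      have h := hFR _ hm
      simpa [cD, zE] using h
    | zero => simp
    | one => rw [mul_one, Units.mul_inv]; exact one_mem _
    | add x y _ _ hx hy => rw [mul_add, add_mul]; exact add_mem hx hy
    | neg x _ hx => rw [mul_neg, neg_mul]; exact neg_mem hx
    | mul x y _ _ hx hy =>
      have e : (τ m : AddMonoid.End E) * (x * y) * ((τ m)⁻¹ : (AddMonoid.End E)ˣ) =
          ((τ m : AddMonoid.End E) * x * ((τ m)⁻¹ : (AddMonoid.End E)ˣ)) *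
            ((τ m : AddMonoid.End E) * y * ((τ m)⁻¹ : (AddMonoid.End E)ˣ)) := by
        simp [mul_assoc]
      rw [e]
      exact mul_mem hx hy
  let cj : M → R → R := fun m s => ⟨_, hRconj m s s.2⟩
  have cj_cj : ∀ m n s, cj m (cj n s) = cj (m * n) s := fun m n s => Subtype.ext (by
    simp [cj, mul_assoc])
  have cj_one : ∀ s, cj 1 s = s := fun s => Subtype.ext (by simp [cj])
  let σ : M →* (R ≃+* R) :=
    { toFun := fun m =>
        { toFun := cj m
          invFun := cj m⁻¹
          left_inv := fun s => by rw [cj_cj, inv_mul_cancel, cj_one]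
          right_inv := fun s => by rw [cj_cj, mul_inv_cancel, cj_one]
          map_mul' := fun s t => Subtype.ext (by simp [cj, mul_assoc])
          map_add' := fun s t => Subtype.ext (by simp [cj, mul_add, add_mul]) }
      map_one' := RingEquiv.ext cj_one
      map_mul' := fun m n => RingEquiv.ext fun s => (cj_cj m n s).symm }
  haveI hAcyc : IsCyclic (R ≃+* R) := Coprime.HalfTrans.isCyclic_ringAut R
  haveI : Finite (R ≃+* R) := Finite.of_injective (fun f => (f : R → R)) DFunLike.coe_injective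
  -- the fixed vectors of an involution
  have hmove : ∀ m : M, m * m = 1 → (∃ e : E, m • e ≠ e) → σ m ≠ 1 := by
    rintro m hm ⟨e₁, he₁⟩ hσ
    let E₀ : AddSubgroup E :=
      { carrier := {e | m • e = e}
        zero_mem' := smul_zero m
        add_mem' := fun {a b} ha hb => by simp_all [smul_add]
        neg_mem' := fun {a} ha => by simp_all [smul_neg] }
    rcases hirr E₀ (fun f hf e he => by
      have h := congrArg (fun a : R ≃+* R => ((a ⟨_, hFR f hf⟩ : R) : AddMonoid.End E)) hσ
      have h' := congrArg (fun g : AddMonoid.End E => g (m • e)) h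
      change m • ((f : D) • (m⁻¹ • m • e)) = (f : D) • (m • e) at h'
      rw [inv_smul_smul, show m • e = e from he] at h'
      exact h') with h | h
    · have hfix : e₁ + m • e₁ ∈ E₀ := by
        show m • (e₁ + m • e₁) = e₁ + m • e₁
        rw [smul_add, ← mul_smul, hm, one_smul, add_comm]
      rw [h, AddSubgroup.mem_bot] at hfix
      apply he₁
      have h2 := hE e₁
      rw [two_nsmul] at h2
      exact add_left_cancel (hfix.trans h2.symm)
    · exact he₁ (show e₁ ∈ E₀ by rw [h]; exact AddSubgroup.mem_top _)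
  refine ⟨R ≃+* R, IsCyclic.commGroup, σ, fun m hm => ?_, hmove, fun m m' hm hm' h h' => ?_⟩
  · refine RingEquiv.ext fun s => Subtype.ext (DFunLike.ext _ _ fun e => ?_)
    show m • ((s : AddMonoid.End E) (m⁻¹ • e)) = (s : AddMonoid.End E) e
    rw [hm, inv_smul_eq_iff.2 (hm e).symm]
  · haveI : Fintype (R ≃+* R) := Fintype.ofFinite _
    by_contra hne
    have hc := IsCyclic.card_pow_eq_one_le (α := R ≃+* R) (n := 2) two_pos
    have hsub : ({1, σ m, σ m'} : Finset (R ≃+* R)) ⊆ Finset.univ.filter fun a => a ^ 2 = 1 := by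
      intro a ha
      simp only [Finset.mem_insert, Finset.mem_singleton] at ha
      rcases ha with rfl | rfl | rfl <;>
        simp [sq, ← map_mul, hm, hm']
    have h3 : ({1, σ m, σ m'} : Finset (R ≃+* R)).card = 3 :=
      Finset.card_eq_three.2 ⟨_, _, _, Ne.symm (hmove m hm h), Ne.symm (hmove m' hm' h'), hne, rfl⟩
    have := Finset.card_le_card hsub
    omega

/-- An involution normalising a transitive odd group and moving a vector inverts a fixed point free
element of it: a commutator with it is fixed point free. -/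
theorem exists_commutator_fpf [Nontrivial E] (hE : ∀ e : E, 2 • e = 0) (O : Subgroup M)
    (hodd : Odd (Nat.card O)) (htr : ∀ a b : E, a ≠ 0 → b ≠ 0 → ∃ o ∈ O, o • a = b) {u : M}
    (hu : u * u = 1) (hn : ∀ o ∈ O, u * o * u⁻¹ ∈ O) (hmove : ∃ e : E, u • e ≠ e) :
    ∃ o ∈ O, ∀ e : E, (u * o * u⁻¹ * o⁻¹) • e = e → e = 0 := by
  classical
  haveI : Finite (AddMonoid.End E) :=
    Finite.of_injective (fun f => (f : E → E)) DFunLike.coe_injective
  let τ : M →* (AddMonoid.End E)ˣ := (DistribMulAction.toAddMonoidEnd M E).toHomUnits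
  set D : Subgroup (AddMonoid.End E)ˣ := O.map τ with hD
  haveI : FaithfulSMul D E := ⟨fun {a b} h =>
    Subtype.ext (Units.ext (DFunLike.ext _ _ h))⟩
  have hDodd : Odd (Nat.card D) := hodd.of_dvd_nat (card_map_dvd O τ)
  have hDtr : ∀ a b : E, a ≠ 0 → b ≠ 0 → ∃ d : D, d • a = b := fun a b ha hb => by
    obtain ⟨o, ho, hab⟩ := htr a b ha hb
    exact ⟨⟨τ o, mem_map_of_mem _ ho⟩, hab⟩
  obtain ⟨hcyc, hfpf, -⟩ := Cfsg.Agent.S1161.result hDodd Nat.prime_two hE hDtr
  set F : Subgroup D := Cfsg.fittingSubgroup D with hF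
  haveI hFchar : F.Characteristic := Cores.fittingSubgroup_characteristic
  have hn' : ∀ m : M, m = u → ∀ d ∈ D, τ m * d * (τ m)⁻¹ ∈ D := by
    rintro m rfl _ ⟨o, ho, rfl⟩
    exact ⟨m * o * m⁻¹, hn o ho, by simp⟩
  have huu : τ u * τ u = 1 := by rw [← map_mul, hu, map_one]
  have hui : (τ u)⁻¹ = τ u := inv_eq_of_mul_eq_one_left huu
  let c : D ≃* D :=
    { toFun := fun d => ⟨τ u * d * (τ u)⁻¹, hn' u rfl d d.2⟩
      invFun := fun d => ⟨τ u * d * (τ u)⁻¹, hn' u rfl d d.2⟩
      left_inv := fun d => Subtype.ext (by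
        show τ u * (τ u * d * (τ u)⁻¹) * (τ u)⁻¹ = d
        rw [hui, ← mul_assoc, ← mul_assoc, huu, one_mul, mul_assoc, huu, mul_one])
      right_inv := fun d => Subtype.ext (by
        show τ u * (τ u * d * (τ u)⁻¹) * (τ u)⁻¹ = d
        rw [hui, ← mul_assoc, ← mul_assoc, huu, one_mul, mul_assoc, huu, mul_one])
      map_mul' := fun a b => Subtype.ext (by simp [mul_assoc]) }
  obtain ⟨f, hf, hfne⟩ : ∃ f ∈ F, c f ≠ f := by
    by_contra hall
    push Not at hall
    obtain ⟨e₁, he₁⟩ := hmove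
    let E₀ : AddSubgroup E :=
      { carrier := {e | u • e = e}
        zero_mem' := smul_zero u
        add_mem' := fun {a b} ha hb => by simp_all [smul_add]
        neg_mem' := fun {a} ha => by simp_all [smul_neg] }
    rcases fitting_irreducible hE hDodd hDtr E₀ (fun f hf e he => by
      have h := congrArg (fun d : D => ((d : (AddMonoid.End E)ˣ) : AddMonoid.End E) (u • e))
        (hall f hf)
      change u • ((f : D) • (u⁻¹ • u • e)) = (f : D) • (u • e) at h
      rw [inv_smul_smul, show u • e = e from he] at h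
      exact h) with h | h
    · have hfix : e₁ + u • e₁ ∈ E₀ := by
        show u • (e₁ + u • e₁) = e₁ + u • e₁
        rw [smul_add, ← mul_smul, hu, one_smul, add_comm]
      rw [h, AddSubgroup.mem_bot] at hfix
      apply he₁
      have h2 := hE e₁
      rw [two_nsmul] at h2
      exact add_left_cancel (hfix.trans h2.symm)
    · exact he₁ (show e₁ ∈ E₀ by rw [h]; exact AddSubgroup.mem_top _)
  obtain ⟨o, ho, hof⟩ := f.2
  refine ⟨o, ho, fun e he => hfpf (c f * f⁻¹) ?_ (mt mul_inv_eq_one.1 hfne) e ?_⟩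
  · have h := (characteristic_iff_map_eq.mp hFchar) c
    exact mul_mem (SetLike.le_def.mp h.le (mem_map_of_mem _ hf)) (inv_mem hf)
  · refine Eq.trans ?_ he
    show ((τ u * (f : (AddMonoid.End E)ˣ) * (τ u)⁻¹ * (f : (AddMonoid.End E)ˣ)⁻¹ :
      (AddMonoid.End E)ˣ) : AddMonoid.End E) e = (u * o * u⁻¹ * o⁻¹) • e
    rw [← hof, ← map_inv, ← map_inv, ← map_mul, ← map_mul, ← map_mul]
    rfl

end Cfsg.Agent.H29.Asch
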