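import Cfsg.Agent.H86.ClassSizes.CC

/-!
Algebra of a `2`-group `Q` with central `E`, all involutions in `E`, squares and commutators in `E`,
and of elements acting on it trivially on `E`; two-groups with one involution.
-/

set_option autoImplicit false
set_option linter.style.haveILetI false

namespace Cfsg.Agent.H29.Asch

open Subgroup
open scoped commutatorElement

universe u

variable {G : Type u} [Group G]

/-- A group `Q` with centre containing `E`, involutions in `E`, and `Q / E` elementary abelian. -/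
structure Special (E Q : Subgroup G) : Prop where
  le : E ≤ Q
  two : ∀ e ∈ E, e * e = 1
  central : ∀ e ∈ E, ∀ g ∈ Q, Commute e g
  omega : ∀ g ∈ Q, g * g = 1 → g ∈ E
  sq_mem : ∀ g ∈ Q, g * g ∈ E
  comm_mem : ∀ g ∈ Q, ∀ k ∈ Q, ⁅g, k⁆ ∈ E

namespace Special

variable {E Q : Subgroup G} (S : Special E Q)
include S

theorem odd_pow {e : G} (he : e ∈ E) {m : ℕ} (hm : Odd m) : e ^ m = e := by
  obtain ⟨j, rfl⟩ := hm
  rw [pow_add, pow_mul, pow_two, S.two e he, one_pow, one_mul, pow_one]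

theorem eq_inv {e : G} (he : e ∈ E) : e⁻¹ = e := inv_eq_of_mul_eq_one_left (S.two e he)

theorem mul_comm_E {e f : G} (he : e ∈ E) (hf : f ∈ E) : e * f = f * e :=
  (S.central e he f (S.le hf)).eq

/-- An element of odd order centralising `E` fixes what it moves by an element of `E`. -/
theorem commute_of_conj_mul [Finite G] {b k : G} (hb : Odd (orderOf b))
    (hbE : ∀ e ∈ E, Commute b e) (h : b * k * b⁻¹ * k⁻¹ ∈ E) : Commute b k := by
  set e := b * k * b⁻¹ * k⁻¹ with he
  have hstep : ∀ n : ℕ, b ^ n * k * (b ^ n)⁻¹ = e ^ n * k := by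
    intro n
    induction n with
    | zero => group
    | succ n ih =>
      calc b ^ (n + 1) * k * (b ^ (n + 1))⁻¹ = b * (b ^ n * k * (b ^ n)⁻¹) * b⁻¹ := by
            rw [pow_succ']; group
        _ = (b * e ^ n * b⁻¹) * (b * k * b⁻¹) := by rw [ih]; group
        _ = e ^ n * (e * k) := by
            rw [((hbE e h).pow_right n).eq, mul_inv_cancel_right, he]; group
        _ = e ^ (n + 1) * k := by rw [← mul_assoc, ← pow_succ]
  have h1 := hstep (orderOf b)
  rw [pow_orderOf_eq_one, S.odd_pow h hb] at h1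
  have h2 : e = 1 := by
    simpa using h1.symm
  rw [he] at h2
  exact mul_inv_eq_iff_eq_mul.mp (mul_inv_eq_one.mp h2)

/-- Squares modulo `E`. -/
theorem sq_mul_eq {g e : G} (hg : g ∈ Q) (he : e ∈ E) : e * g * (e * g) = g * g := by
  calc e * g * (e * g) = e * (g * e) * g := by group
    _ = (e * e) * (g * g) := by rw [(S.central e he g hg).symm.eq]; group
    _ = g * g := by rw [S.two e he, one_mul]

/-- Commuting elements with the same square are congruent modulo `E`. -/
theorem mem_of_sq_eq {g k : G} (hg : g ∈ Q) (hk : k ∈ Q) (hc : Commute g k)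
    (h : g * g = k * k) : g * k⁻¹ ∈ E := by
  refine S.omega _ (mul_mem hg (inv_mem hk)) ?_
  rw [hc.inv_right.symm.mul_mul_mul_comm, h]
  group

/-- In a torus orbit an element of odd order centralising `E` centralises `Q` or nothing outside
`E`. -/
theorem centralizes_or_free [Finite G] {A : Subgroup G} (hAc : ∀ a ∈ A, ∀ c ∈ A, Commute a c)
    (hAQ : ∀ a ∈ A, ∀ k ∈ Q, a * k * a⁻¹ ∈ Q)
    (htr : ∀ e ∈ E, ∀ f ∈ E, e ≠ 1 → f ≠ 1 → ∃ a ∈ A, a * e * a⁻¹ = f)
    {b : G} (hb : b ∈ A) (hodd : Odd (orderOf b)) (hbE : ∀ e ∈ E, Commute b e) :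
    (∀ k ∈ Q, Commute b k) ∨ ∀ k ∈ Q, Commute b k → k ∈ E := by
  by_contra hcon
  push Not at hcon
  obtain ⟨⟨k, hk, hkb⟩, h₀, hh₀, hhb₀, hhE₀⟩ := hcon
  set k1 := b * k * b⁻¹ * k⁻¹ with hk1
  have hk1Q : k1 ∈ Q := Q.mul_mem (hAQ b hb k hk) (Q.inv_mem hk)
  have hk1E : k1 ∉ E := fun h => hkb (S.commute_of_conj_mul hodd hbE h)
  -- what commutes with `b` commutes with `k1`
  have horth : ∀ h ∈ Q, Commute b h → Commute h k1 := by
    intro h hh hbh
    have he := S.comm_mem h hh k hk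
    set e := ⁅h, k⁆ with hedef
    have hek : h * k * h⁻¹ = e * k := by rw [hedef, commutatorElement_def]; group
    have h1 : h * (b * k * b⁻¹) * h⁻¹ = e * (b * k * b⁻¹) := by
      have hinv : Commute b⁻¹ h⁻¹ := hbh.inv_inv
      calc h * (b * k * b⁻¹) * h⁻¹ = (h * b) * k * (b⁻¹ * h⁻¹) := by group
        _ = (b * h) * k * (h⁻¹ * b⁻¹) := by rw [hbh.symm.eq, hinv.eq]
        _ = b * (e * k) * b⁻¹ := by rw [← hek]; group
        _ = b * e * (k * b⁻¹) := by group
        _ = _ := by rw [(hbE e he).eq]; group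
    refine mul_inv_eq_iff_eq_mul.mp ?_
    calc h * k1 * h⁻¹ = (h * (b * k * b⁻¹) * h⁻¹) * (h * k * h⁻¹)⁻¹ := by rw [hk1]; group
      _ = e * k1 * e⁻¹ := by rw [h1, hek, hk1]; group
      _ = k1 := by rw [(S.central e he k1 hk1Q).eq, mul_inv_cancel_right]
  obtain ⟨a, ha, hah⟩ := htr (h₀ * h₀) (S.sq_mem h₀ hh₀) (k1 * k1) (S.sq_mem k1 hk1Q)
    (fun e => hhE₀ (S.omega h₀ hh₀ e)) (fun e => hk1E (S.omega k1 hk1Q e))
  set h' := a * h₀ * a⁻¹ with hh'
  have hh'Q : h' ∈ Q := hAQ a ha h₀ hh₀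
  have hbh' : Commute b h' :=
    (((hAc b hb a ha).mul_right hhb₀)).mul_right (hAc b hb a ha).inv_right
  have hsq : h' * h' = k1 * k1 := by rw [← hah, hh']; group
  have hmem := S.mem_of_sq_eq hh'Q hk1Q (horth h' hh'Q hbh') hsq
  have hbk1 : Commute b k1 := by
    have := ((hbE _ hmem).inv_right).mul_right hbh'
    rwa [show (h' * k1⁻¹)⁻¹ * h' = k1 by group] at this
  have hstep : ∀ n : ℕ, b ^ n * k * (b ^ n)⁻¹ = k1 ^ n * k := by
    intro n
    induction n with
    | zero => group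
    | succ n ih =>
      calc b ^ (n + 1) * k * (b ^ (n + 1))⁻¹ = b * (b ^ n * k * (b ^ n)⁻¹) * b⁻¹ := by
            rw [pow_succ']; group
        _ = (b * k1 ^ n * b⁻¹) * (b * k * b⁻¹) := by rw [ih]; group
        _ = k1 ^ n * (k1 * k) := by
            rw [(hbk1.pow_right n).eq, mul_inv_cancel_right, hk1]; group
        _ = k1 ^ (n + 1) * k := by rw [← mul_assoc, ← pow_succ]
  have h1 : k1 ^ orderOf b = 1 := by
    have := hstep (orderOf b)
    rw [pow_orderOf_eq_one] at this
    simpa using this.symm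
  have h2 : (k1 * k1) ^ orderOf b = 1 := by rw [(Commute.refl k1).mul_pow, h1, one_mul]
  rw [S.odd_pow (S.sq_mem k1 hk1Q) hodd] at h2
  exact hk1E (S.omega k1 hk1Q h2)

/-- The elements of `Q` fixed modulo `E` by an element commuting with a free element are fixed. -/
theorem commute_of_comm_mem [Finite G] {b t : G} (hodd : Odd (orderOf b))
    (hbQ : ∀ k ∈ Q, b * k * b⁻¹ ∈ Q) (hbE : ∀ e ∈ E, Commute b e)
    (hfree : ∀ k ∈ Q, Commute b k → k ∈ E) (htE : ∀ e ∈ E, Commute t e)
    (htb : ∀ k ∈ Q, t * (b * k * b⁻¹) * t⁻¹ = b * (t * k * t⁻¹) * b⁻¹)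
    {k : G} (hk : k ∈ Q) (hkE : t * k * t⁻¹ * k⁻¹ ∈ E) : Commute t k := by
  let δ : G → G := fun g => t * g * t⁻¹ * g⁻¹
  have hmul : ∀ g ∈ Q, ∀ g' ∈ Q, δ g ∈ E → δ g' ∈ E → δ (g * g') = δ g * δ g' := by
    intro g hg g' _ _ h2
    calc δ (g * g') = (t * g * t⁻¹) * δ g' * g⁻¹ := by simp only [δ]; group
      _ = δ g * (g * δ g') * g⁻¹ := by simp only [δ]; group
      _ = δ g * δ g' := by rw [← (S.central _ h2 g hg).eq]; group
  have hconj : ∀ g ∈ Q, δ g ∈ E → δ (b * g * b⁻¹) = δ g := by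
    intro g hg h1
    calc δ (b * g * b⁻¹) = b * δ g * b⁻¹ := by simp only [δ]; rw [htb g hg]; group
      _ = δ g := by rw [(hbE _ h1).eq, mul_inv_cancel_right]
  have hp : ∀ n : ℕ, (k * b) ^ n * (b ^ n)⁻¹ ∈ Q ∧ δ ((k * b) ^ n * (b ^ n)⁻¹) = δ k ^ n := by
    intro n
    induction n with
    | zero => exact ⟨by simp, by simp [δ]⟩
    | succ n ih =>
      set p := (k * b) ^ n * (b ^ n)⁻¹ with hp
      have hpE : δ p ∈ E := ih.2 ▸ pow_mem hkE n
      have e : (k * b) ^ (n + 1) * (b ^ (n + 1))⁻¹ = k * (b * p * b⁻¹) := by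
        rw [hp, pow_succ', pow_succ']; group
      rw [e]
      refine ⟨Q.mul_mem hk (hbQ p ih.1), ?_⟩
      rw [hmul k hk _ (hbQ p ih.1) hkE (by rw [hconj p ih.1 hpE]; exact hpE), hconj p ih.1 hpE,
        ih.2, ← pow_succ']
  obtain ⟨hpQ, hpδ⟩ := hp (orderOf b)
  rw [pow_orderOf_eq_one, inv_one, mul_one] at hpQ hpδ
  set p := (k * b) ^ orderOf b with hpdef
  have hbp : Commute b p := by
    refine S.commute_of_conj_mul hodd hbE ?_
    have hshift : ∀ n : ℕ, k * (b * k) ^ n = (k * b) ^ n * k := by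
      intro n
      induction n with
      | zero => group
      | succ n ih => rw [pow_succ, ← mul_assoc, ih, pow_succ]; group
    have e : b * p * b⁻¹ = (b * k) ^ orderOf b := by
      rw [hpdef, ← conj_pow]
      congr 1
      group
    have e2 : (b * k) ^ orderOf b = k⁻¹ * p * k := by
      rw [hpdef, mul_assoc, ← hshift, inv_mul_cancel_left]
    rw [e, e2]
    have := S.comm_mem k⁻¹ (Q.inv_mem hk) p hpQ
    rwa [commutatorElement_def, inv_inv] at this
  have hpE : p ∈ E := hfree p hpQ hbp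
  rw [S.odd_pow hkE hodd] at hpδ
  have h1 : δ p = 1 := by simp only [δ]; rw [(htE p hpE).eq]; group
  rw [h1] at hpδ
  exact mul_inv_eq_iff_eq_mul.mp (mul_inv_eq_one.mp hpδ.symm)

/-- An element whose square centralises `Q`, commuting with a free element, centralises `Q`. -/
theorem commute_of_involutive [Finite G] {b t : G} (hodd : Odd (orderOf b))
    (hbQ : ∀ k ∈ Q, b * k * b⁻¹ ∈ Q) (hbE : ∀ e ∈ E, Commute b e)
    (hfree : ∀ k ∈ Q, Commute b k → k ∈ E) (htQ : ∀ k ∈ Q, t * k * t⁻¹ ∈ Q)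
    (htE : ∀ e ∈ E, Commute t e)
    (htb : ∀ k ∈ Q, t * (b * k * b⁻¹) * t⁻¹ = b * (t * k * t⁻¹) * b⁻¹)
    (htt : ∀ k ∈ Q, Commute (t * t) k) {k : G} (hk : k ∈ Q) : Commute t k := by
  have key := fun {g : G} (hg : g ∈ Q) (hgE : t * g * t⁻¹ * g⁻¹ ∈ E) =>
    S.commute_of_comm_mem hodd hbQ hbE hfree htE htb hg hgE
  set η := k⁻¹ * (t * k * t⁻¹) with hη
  have hηQ : η ∈ Q := Q.mul_mem (Q.inv_mem hk) (htQ k hk)
  have hinv : t * η * t⁻¹ = η⁻¹ := by
    calc t * η * t⁻¹ = (t * k * t⁻¹)⁻¹ * ((t * t) * k * (t * t)⁻¹) := by rw [hη]; group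
      _ = η⁻¹ := by rw [(htt k hk).eq, mul_inv_cancel_right, hη]; group
  have hfix := key hηQ (by
    rw [hinv, show η⁻¹ * η⁻¹ = (η * η)⁻¹ by group]
    exact E.inv_mem (S.sq_mem η hηQ))
  rw [hfix.eq, mul_inv_cancel_right] at hinv
  have hηE : η ∈ E := S.omega η hηQ (eq_inv_iff_mul_eq_one.mp hinv)
  refine key hk ?_
  rw [show t * k * t⁻¹ * k⁻¹ = k * η * k⁻¹ by rw [hη]; group,
    ← (S.central η hηE k hk).eq, mul_inv_cancel_right]
  exact hηE

/-- With a free element the centre is `E`. -/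
theorem mem_of_central [Finite G] {b : G} (hodd : Odd (orderOf b))
    (hbQ : ∀ k ∈ Q, b * k * b⁻¹ ∈ Q) (hbE : ∀ e ∈ E, Commute b e)
    (hfree : ∀ k ∈ Q, Commute b k → k ∈ E) {k : G} (hk : k ∈ Q)
    (hc : ∀ g ∈ Q, Commute k g) : k ∈ E := by
  refine hfree k hk (S.commute_of_conj_mul hodd hbE ?_)
  refine S.mem_of_sq_eq (hbQ k hk) hk (hc _ (hbQ k hk)).symm ?_
  calc b * k * b⁻¹ * (b * k * b⁻¹) = b * (k * k) * b⁻¹ := by group
    _ = k * k := by rw [(hbE _ (S.sq_mem k hk)).eq, mul_inv_cancel_right]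

end Special

/-- A `2`-group with one involution is cyclic or is generated by two elements squaring to the
involution which do not agree modulo the involution. -/
theorem cyclic_or_two_generated [Finite G] {T : Subgroup G} {u : G} (hT : IsPGroup 2 T)
    (huu : u * u = 1) (hu1 : u ≠ 1) (huT : u ∈ T)
    (huniq : ∀ t ∈ T, t * t = 1 → t = 1 ∨ t = u) :
    IsCyclic T ∨ ∃ x ∈ T, ∃ y ∈ T, x * x = u ∧ y * y = u ∧ y ≠ x ∧ y ≠ x * u ∧
      T ≤ closure {x, y} := by
  haveI : Fact (Nat.Prime 2) := ⟨Nat.prime_two⟩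
  have hu : ∀ A B : Subgroup ↥T, Nat.card A = 2 → Nat.card B = 2 → A = B := by
    have hgen : ∀ A : Subgroup ↥T, Nat.card A = 2 → A = zpowers (⟨u, huT⟩ : T) := by
      intro A hA
      obtain ⟨z, hz⟩ := exists_prime_orderOf_dvd_card' (G := A) 2 (by rw [hA])
      rw [← Subgroup.orderOf_coe] at hz
      have hzu : (z : T) = ⟨u, huT⟩ := by
        have h1 : (z : T) * z = 1 := by rw [← pow_two, ← hz, pow_orderOf_eq_one]
        rcases huniq _ (z : T).2 (congrArg Subtype.val h1) with e | e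
        · have : (z : T) = 1 := Subtype.ext e
          rw [this, orderOf_one] at hz
          omega
        · exact Subtype.ext e
      refine (eq_of_le_of_card_ge (zpowers_le.2 (hzu ▸ z.2)) ?_).symm
      rw [hA, Nat.card_zpowers, ← hzu, hz]
    intro A B hA hB
    rw [hgen A hA, hgen B hB]
  rcases S0016.result 2 hT hu with h | ⟨-, n, ⟨e⟩⟩
  · exact Or.inl h
  · rcases Nat.eq_zero_or_pos n with rfl | hn
    · rw [pow_zero] at e
      haveI := QuaternionGroup.quaternionGroup_one_isCyclic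
      exact Or.inl (isCyclic_of_surjective e.symm e.symm.surjective)
    right
    set N := 2 ^ n with hN
    haveI : NeZero N := ⟨by positivity⟩
    have hN2 : 2 ≤ N := le_trans (by norm_num) (Nat.pow_le_pow_right (by norm_num) hn)
    set x := (e.symm (QuaternionGroup.xa 0) : G) with hx
    set y := (e.symm (QuaternionGroup.xa 1) : G) with hy
    have hsq : ∀ i : ZMod (2 * N), (e.symm (QuaternionGroup.xa i) : G) *
        (e.symm (QuaternionGroup.xa i) : G) = (e.symm (QuaternionGroup.a (N : ZMod (2 * N))) : G) := by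
      intro i
      rw [← coe_mul, ← map_mul, QuaternionGroup.xa_mul_xa, add_sub_cancel_right]
    have hNne : (N : ZMod (2 * N)) ≠ 0 := by
      rw [Ne, ZMod.natCast_eq_zero_iff]
      intro hd
      have := Nat.le_of_dvd (by omega) hd
      omega
    have hua : (e.symm (QuaternionGroup.a (N : ZMod (2 * N))) : G) = u := by
      refine (huniq _ (e.symm _).2 ?_).resolve_left fun h1 => hNne ?_
      · rw [← coe_mul, ← map_mul, QuaternionGroup.a_mul_a, show ((N : ZMod (2 * N)) + N) = 0 by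
          rw [← Nat.cast_add, ← two_mul, ZMod.natCast_self], ← QuaternionGroup.one_def, map_one,
          coe_one]
      · have h2 : QuaternionGroup.a (N : ZMod (2 * N)) = 1 := by
          have := congrArg e (show e.symm (QuaternionGroup.a (N : ZMod (2 * N))) = 1 from Subtype.ext h1)
          rwa [MulEquiv.apply_symm_apply, map_one] at this
        rw [QuaternionGroup.one_def] at h2
        exact QuaternionGroup.a.inj h2
    refine ⟨x, (e.symm _).2, y, (e.symm _).2, by rw [hx, hsq, hua], by rw [hy, hsq, hua], ?_, ?_, ?_⟩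
    · intro h
      rw [hx, hy] at h
      have h1 : (1 : ZMod (2 * N)) = 0 := QuaternionGroup.xa.inj (e.symm.injective (Subtype.ext h))
      rw [← Nat.cast_one, ZMod.natCast_eq_zero_iff, Nat.dvd_one] at h1
      omega
    · intro h
      rw [← hua, hx, hy, ← coe_mul, ← map_mul, QuaternionGroup.xa_mul_a, zero_add] at h
      have h1 : (1 : ZMod (2 * N)) = (N : ZMod (2 * N)) :=
        QuaternionGroup.xa.inj (e.symm.injective (Subtype.ext h))
      rw [← Nat.cast_one, ZMod.natCast_eq_natCast_iff', Nat.mod_eq_of_lt (by omega),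
        Nat.mod_eq_of_lt (by omega)] at h1
      omega
    · intro t ht
      have hyx : ∀ i : ℕ, (e.symm (QuaternionGroup.a (i : ZMod (2 * N))) : G) ∈ closure {x, y} := by
        intro i
        have h1 : (e.symm (QuaternionGroup.a (1 : ZMod (2 * N))) : G) = x⁻¹ * y := by
          rw [hx, hy, ← coe_inv, ← coe_mul, ← map_inv, ← map_mul]
          congr 2
          rw [eq_inv_mul_iff_mul_eq, QuaternionGroup.xa_mul_a, zero_add]
        induction i with
        | zero => rw [Nat.cast_zero, ← QuaternionGroup.one_def, map_one, coe_one]; exact one_mem _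
        | succ i ih =>
          rw [Nat.cast_succ, ← QuaternionGroup.a_mul_a, map_mul, coe_mul, h1]
          exact mul_mem ih (mul_mem (inv_mem (subset_closure (by simp)))
            (subset_closure (by simp)))
      have ht' : t = (e.symm (e ⟨t, ht⟩) : G) := by rw [MulEquiv.symm_apply_apply]
      rw [ht']
      cases e ⟨t, ht⟩ with
      | a i => rw [← ZMod.natCast_zmod_val i]; exact hyx _
      | xa i =>
        rw [← ZMod.natCast_zmod_val i, show QuaternionGroup.xa ((i.val : ℕ) : ZMod (2 * N)) =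
          QuaternionGroup.xa 0 * QuaternionGroup.a ((i.val : ℕ) : ZMod (2 * N)) by
            rw [QuaternionGroup.xa_mul_a, zero_add], map_mul, coe_mul]
        exact mul_mem (subset_closure (by simp [hx])) (hyx _)

end Cfsg.Agent.H29.Asch
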