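import Cfsg.Agent.H29.Asch.ShapeAlg
import Cfsg.Agent.H51.Asch.Chain
import Cfsg.Agent.H29.Asch.UUULine

/-!
The start of P4 for lines with `Q ≠ E`: what fixes `y`, centralises `u` and `E` and has two-power
order is a power of `u`.  The decomposition `P = Q T` of a Sylow `2`-subgroup of `C_H(E) ∩ C(u)`,
and the translation normalising it.
-/

set_option autoImplicit false
set_option linter.style.haveILetI false

namespace Cfsg.Agent.H29.Asch

open Subgroup MulAction
open Cfsg.Agent.H14.Asch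
open Cfsg.Agent.H39 (mul_self_of_orderOf_eq_two ne_one_of_orderOf_eq_two)
open Cfsg.Agent.H73.Asch (RankTwoBad Line2 RankOnePairs)
open Cfsg.Agent.H51.Asch (coreStab mem_coreStab HasTranslation MaxTwo exists_maxTwo_ge)
open scoped commutatorElement Pointwise

universe u v

variable {G : Type u} [Group G] {Ω : Type v} [MulAction G Ω] {D : Set G}

/-- `C_H(E) ∩ C(u)`. -/
def lineCentral (u : G) (x : Ω) (E : Subgroup G) : Subgroup G :=
  coreStab x E ⊓ centralizer ({u} : Set G)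

/-- `C(u) ∩ C(E)` at `x` and `y`. -/
def pairCentral (u : G) (x y : Ω) (E : Subgroup G) : Subgroup G :=
  lineCentral u x E ⊓ stabilizer G y

theorem mem_lineCentral {u g : G} {x : Ω} {E : Subgroup G} :
    g ∈ lineCentral u x E ↔ g • x = x ∧ (∀ e ∈ E, Commute e g) ∧ Commute g u := by
  rw [lineCentral, mem_inf, mem_coreStab, mem_centralizer_singleton_iff, and_assoc]
  exact Iff.rfl

theorem mem_pairCentral {u g : G} {x y : Ω} {E : Subgroup G} :
    g ∈ pairCentral u x y E ↔ g ∈ lineCentral u x E ∧ g • y = y := by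
  rw [pairCentral, mem_inf, mem_stabilizer_iff]

theorem special_of_line2 [Finite G] (h : Crit G Ω D) {u : G} {x : Ω} {E Q : Subgroup G}
    (hl : Line2 D u x E Q) : Special E Q := by
  refine ⟨hl.E_le, fun e he => line2_mul_self hl h he, hl.central, fun g hg hgg => ?_, hl.sq_mem,
    hl.comm_mem⟩
  by_cases hg1 : g = 1
  · rw [hg1]; exact one_mem _
  · exact hl.omega g hg (orderOf_eq_prime (by rw [pow_two]; exact hgg) hg1)

theorem line_le_lineCentral {u : G} {x : Ω} {E Q : Subgroup G} (hl : Line2 D u x E Q) :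
    Q ≤ lineCentral u x E := fun _ hq =>
  mem_lineCentral.mpr ⟨line2_smul hl hq, fun e he => hl.central e he _ hq, line2_commute hl hq⟩

theorem self_mem_pairCentral {u : G} {x y : Ω} {E Q : Subgroup G} (hl : Line2 D u x E Q)
    (hy : u • y = y) : u ∈ pairCentral u x y E :=
  mem_pairCentral.mpr ⟨mem_lineCentral.mpr ⟨hl.fix, fun _ he => line2_commute hl (hl.E_le he),
    Commute.refl u⟩, hy⟩

/-- An element of `C(u)` fixing `x` normalises the part of `lineGroup D u` at `x`. -/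
theorem conj_lineGroup_stab (h : Crit G Ω D) {u g b : G} {x : Ω} (hgu : Commute g u)
    (hgx : g • x = x) (hb : b ∈ lineGroup D u ⊓ stabilizer G x) :
    g * b * g⁻¹ ∈ lineGroup D u ⊓ stabilizer G x := by
  obtain ⟨hbL, hbx⟩ := mem_inf.mp hb
  refine mem_inf.mpr ⟨?_, mem_stabilizer_iff.mpr ?_⟩
  · clear hb hbx
    induction hbL using Subgroup.closure_induction with
    | mem d hd =>
      refine mem_lineGroup (h.conj_mem hd.1 g) ?_
      exact (hgu.mul_left (mem_centralizer_singleton_iff.mp hd.2 : Commute d u)).mul_left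
        hgu.inv_left
    | one => simp
    | mul a b _ _ iha ihb =>
      rw [show g * (a * b) * g⁻¹ = (g * a * g⁻¹) * (g * b * g⁻¹) by group]
      exact mul_mem iha ihb
    | inv a _ iha =>
      rw [show g * a⁻¹ * g⁻¹ = (g * a * g⁻¹)⁻¹ by group]
      exact inv_mem iha
  · rw [mul_smul, mul_smul, inv_smul_eq_iff.2 hgx.symm, mem_stabilizer_iff.mp hbx, hgx]

variable [Finite G]

/-- Every element of `C_H(E) ∩ C(u)` is a product of an element of `Q` and one fixing `y`. -/
theorem exists_factor {u : G} {x y : Ω} {E Q : Subgroup G} (hl : Line2 D u x E Q) (hy : u • y = y)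
    (hyx : y ≠ x) {g : G} (hg : g ∈ lineCentral u x E) :
    ∃ q ∈ Q, q⁻¹ * g ∈ pairCentral u x y E := by
  obtain ⟨hgx, -, hgu⟩ := mem_lineCentral.mp hg
  obtain ⟨q, hq, hqy⟩ := hl.trans y (g • y) hy (smul_fixed_of_commute hgu hy) hyx
    fun e => hyx (MulAction.injective g (e.trans hgx.symm))
  refine ⟨q, hq, mem_pairCentral.mpr ⟨mul_mem (inv_mem (line_le_lineCentral hl hq)) hg, ?_⟩⟩
  rw [mul_smul, ← hqy, inv_smul_smul]

omit [Finite G] in
/-- The factorisation is unique. -/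
theorem factor_unique {u : G} {x y : Ω} {E Q : Subgroup G} (hl : Line2 D u x E Q) (hy : u • y = y)
    (hyx : y ≠ x) {q q' s s' : G} (hq : q ∈ Q) (hq' : q' ∈ Q) (hs : s • y = y) (hs' : s' • y = y)
    (e : q * s = q' * s') : q = q' ∧ s = s' := by
  have h1 := hl.free (q'⁻¹ * q) (mul_mem (inv_mem hq') hq) y hy hyx (by
    calc (q'⁻¹ * q) • y = (q'⁻¹ * q) • s • y := by rw [hs]
      _ = (q'⁻¹ * (q * s)) • y := by rw [← mul_smul, mul_assoc]
      _ = y := by rw [e, inv_mul_cancel_left, hs'])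
  have h2 : q = q' := (inv_mul_eq_one.mp h1).symm
  subst h2
  exact ⟨rfl, mul_left_cancel e⟩

/-- A Sylow `2`-subgroup of `C_H(E) ∩ C(u)` through `Q`, and a translation normalising it. -/
structure Setting (D : Set G) (u : G) (x y : Ω) (E Q P : Subgroup G) (n e₁ : G) : Prop where
  crit : Crit G Ω D
  pairs : RankOnePairs (G := G) Ω
  line : Line2 D u x E Q
  fix : u • y = y
  ne : y ≠ x
  maxP : MaxTwo (lineCentral u x E) P
  Q_le : Q ≤ P
  norm_Q : P ≤ normalizer (Q : Set G)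
  n_norm : n ∈ normalizer (P : Set G)
  n_lineCentral : n ∈ normalizer (lineCentral u x E : Set G)
  n_E : ∀ e ∈ E, Commute n e
  n_u : n * u * n⁻¹ = u * e₁
  e_mem : e₁ ∈ E
  e_ne : e₁ ≠ 1

variable [Finite Ω]

/-- The setting exists. -/
theorem exists_setting (h : Crit G Ω D) (hP : RankOnePairs (G := G) Ω) {u : G} {x y : Ω}
    {E Q : Subgroup G} (hl : Line2 D u x E Q) (hT : HasTranslation u x E) (hy : u • y = y)
    (hyx : y ≠ x) : ∃ (P : Subgroup G) (n e₁ : G), Setting D u x y E Q P n e₁ := by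
  haveI : Fact (Nat.Prime 2) := ⟨Nat.prime_two⟩
  obtain ⟨P, hQP, hPmax⟩ := exists_maxTwo_ge hl.isPGroup (line_le_lineCentral hl)
  -- `Q` is the part of `P` in `lineGroup D u`
  have hPL : P ⊓ (lineGroup D u ⊓ stabilizer G x) = Q := by
    have hle : Q ≤ P ⊓ (lineGroup D u ⊓ stabilizer G x) := fun q hq =>
      mem_inf.mpr ⟨hQP hq, hl.Q_le hq⟩
    refine (eq_of_le_of_card_ge hle ?_).symm
    obtain ⟨k, -, hk⟩ := hl.sylow _ (hPmax.1.to_le inf_le_left) inf_le_right
    exact (Nat.le_of_dvd Nat.card_pos (card_dvd_of_le hk)).trans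
      (Nat.card_congr (Subgroup.equivSMul (MulAut.conj k) Q).toEquiv).ge
  have hPn : P ≤ normalizer (Q : Set G) := fun g hg => by
    have key : ∀ c ∈ P, ∀ q ∈ Q, c * q * c⁻¹ ∈ Q := by
      intro c hc q hq
      obtain ⟨hcx, -, hcu⟩ := mem_lineCentral.mp (hPmax.2.1 hc)
      rw [← hPL]
      exact mem_inf.mpr ⟨P.mul_mem (P.mul_mem hc (hQP hq)) (P.inv_mem hc),
        conj_lineGroup_stab h hcu hcx (hl.Q_le hq)⟩
    exact mem_normalizer_of_subset (key g hg) fun q hq => by
      simpa using key g⁻¹ (inv_mem hg) q hq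
  -- the translation
  obtain ⟨k, hk, e₁, he₁, he₁1, hke⟩ := hT
  have hkK : k ∈ normalizer (lineCentral u x E : Set G) := by
    refine mem_normalizer_iff.mpr fun g => ?_
    have hiff : ∀ {g}, g ∈ coreStab x E → (Commute g (u * e₁) ↔ Commute g u) := fun {g} hg => by
      have hge : Commute g e₁ := ((mem_coreStab.mp hg).2 e₁ he₁).symm
      constructor
      · intro hc
        have := hc.mul_right hge.inv_right
        rwa [mul_inv_cancel_right] at this
      · exact fun hc => hc.mul_right hge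
    rw [lineCentral, mem_inf, mem_inf, mem_centralizer_singleton_iff, mem_centralizer_singleton_iff]
    constructor
    · rintro ⟨hg, hgu⟩
      have hgk : k * g * k⁻¹ ∈ coreStab x E := mul_mem (mul_mem hk hg) (inv_mem hk)
      exact ⟨hgk, ((hiff hgk).mp (hke ▸ H14.Asch.commute_conj hgu k)).eq⟩
    · rintro ⟨hgk, hgu⟩
      have hg : g ∈ coreStab x E := by
        have := mul_mem (mul_mem (inv_mem hk) hgk) hk
        simpa [mul_assoc] using this
      have h1 := H14.Asch.commute_conj ((hiff hgk).mpr hgu) k⁻¹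
      rw [← hke] at h1
      exact ⟨hg, (show Commute g u by simpa [mul_assoc] using h1).eq⟩
  set K := lineCentral u x E with hK
  have hP' : MaxTwo K (P.map (MulAut.conj k).toMonoidHom) := by
    refine ⟨hPmax.1.map _, ?_, fun P' h1 h2 h3 => ?_⟩
    · rintro _ ⟨g, hg, rfl⟩
      exact (mem_normalizer_iff.mp hkK g).mp (hPmax.2.1 hg)
    · have h4 := hPmax.2.2 (P'.map (MulAut.conj k⁻¹).toMonoidHom) (h1.map _) (by
        rintro _ ⟨g, hg, rfl⟩
        exact (mem_normalizer_iff.mp (inv_mem hkK) g).mp (h2 hg)) (by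
        intro g hg
        refine ⟨k * g * k⁻¹, h3 ⟨g, hg, rfl⟩, ?_⟩
        simp [mul_assoc])
      rw [← h4, Subgroup.map_map]
      convert (Subgroup.map_id P').symm using 2
      ext g; simp [mul_assoc]
  obtain ⟨c, hc, hcP⟩ := hP'.exists_conj hPmax
  obtain ⟨hcx, hcE, hcu⟩ := mem_lineCentral.mp hc
  refine ⟨P, c * k, e₁, h, hP, hl, hy, hyx, hPmax, hQP, hPn, ?_, ?_, ?_, ?_, he₁, he₁1⟩
  · have hfwd : ∀ g ∈ P, c * k * g * (c * k)⁻¹ ∈ P := by
      intro g hg
      have := (hcP (k * g * k⁻¹)).mp ⟨g, hg, rfl⟩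
      convert this using 1
      group
    refine Coprime.mem_normalizer_of_map_conj (eq_of_le_of_card_ge ?_ (by
      rw [Subgroup.card_map_of_injective (f := (MulAut.conj (c * k)).toMonoidHom)
        (MulAut.conj (c * k)).injective]))
    rintro _ ⟨g, hg, rfl⟩
    exact hfwd g hg
  · exact mul_mem (le_normalizer hc) hkK
  · exact fun e he => ((hcE e he).mul_right ((mem_coreStab.mp hk).2 e he)).symm
  · have hce : Commute c (u * e₁) := hcu.mul_right (hcE e₁ he₁).symm
    calc c * k * u * (c * k)⁻¹ = c * (k * u * k⁻¹) * c⁻¹ := by group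
      _ = u * e₁ := by rw [hke, hce.eq, mul_inv_cancel_right]

namespace Setting

variable {u n e₁ : G} {x y : Ω} {E Q P : Subgroup G} (s : Setting D u x y E Q P n e₁)
include s

omit [Finite Ω] in
theorem pow_u : u * u = 1 := mul_self_of_orderOf_eq_two s.line.bad.1

omit [Finite Ω] in
theorem u_ne : u ≠ 1 := ne_one_of_orderOf_eq_two s.line.bad.1

omit [Finite G] [Finite Ω] in
theorem u_notMem : u ∉ Q := fun hu =>
  ne_one_of_orderOf_eq_two s.line.bad.1 (s.line.free u hu y s.fix s.ne s.fix)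

omit [Finite Ω] in
theorem special : Special E Q := special_of_line2 s.crit s.line

omit [Finite Ω] in
theorem u_mem : u ∈ P := by
  haveI : Fact (Nat.Prime 2) := ⟨Nat.prime_two⟩
  refine s.maxP.le_of_normal (W := zpowers u) (IsPGroup.of_card (n := 1) (by
    rw [Nat.card_zpowers, s.line.bad.1]; rfl)) (zpowers_le.mpr
      (mem_pairCentral.mp (self_mem_pairCentral s.line s.fix)).1) ?_ (mem_zpowers u)
  intro g hg
  have hgu : g * u * g⁻¹ = u := by
    rw [(mem_lineCentral.mp hg).2.2.eq, mul_inv_cancel_right]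
  refine Coprime.mem_normalizer_of_map_conj ?_
  rw [MonoidHom.map_zpowers]
  simp [hgu]

omit [Finite Ω] in
/-- Factorisation inside `P`. -/
theorem factor {g : G} (hg : g ∈ P) :
    ∃ q ∈ Q, ∃ t ∈ P, t ∈ pairCentral u x y E ∧ g = q * t := by
  obtain ⟨q, hq, ht⟩ := exists_factor s.line s.fix s.ne (s.maxP.2.1 hg)
  exact ⟨q, hq, _, P.mul_mem (P.inv_mem (s.Q_le hq)) hg, ht, by group⟩

omit [Finite Ω] in
theorem conj_Q {g q : G} (hg : g ∈ P) (hq : q ∈ Q) : g * q * g⁻¹ ∈ Q :=
  (mem_normalizer_iff.mp (s.norm_Q hg) q).mp hq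

omit [Finite Ω] in
/-- The only involution at `x` and `y` in `C(u)` is `u`. -/
theorem involution {t : G} (ht : t ∈ pairCentral u x y E) (htt : t * t = 1) : t = 1 ∨ t = u := by
  by_cases h1 : t = 1
  · exact Or.inl h1
  obtain ⟨htK, hty⟩ := mem_pairCentral.mp ht
  obtain ⟨htx, -, htu⟩ := mem_lineCentral.mp htK
  exact Or.inr (s.pairs u t x y s.line.bad.1 (orderOf_eq_prime (by rw [pow_two]; exact htt) h1)
    htu.symm s.ne.symm s.line.fix s.fix htx hty).symm

omit [Finite Ω] in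
/-- A non-trivial two-element at `x` and `y` has `u` among its powers. -/
theorem exists_pow_eq {t : G} (ht : t ∈ P) (htY : t ∈ pairCentral u x y E) (ht1 : t ≠ 1) :
    ∃ j : ℕ, t ^ j = u := by
  obtain ⟨k, hk⟩ := IsPGroup.iff_orderOf.mp s.maxP.1 ⟨t, ht⟩
  rw [Subgroup.orderOf_mk] at hk
  rcases k with _ | k
  · exact absurd (orderOf_eq_one_iff.mp (by rw [hk, pow_zero])) ht1
  refine ⟨2 ^ k, (s.involution (pow_mem htY _) ?_).resolve_left ?_⟩
  · rw [← pow_add, ← two_mul, ← pow_succ', ← hk, pow_orderOf_eq_one]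
  · intro e
    have h1 := Nat.le_of_dvd (by positivity) (hk ▸ orderOf_dvd_of_pow_eq_one e)
    have h2 : 2 ^ k < 2 ^ (k + 1) := Nat.pow_lt_pow_right (by norm_num) (by omega)
    omega

omit [Finite Ω] in
/-- Unless a two-element at `x` and `y` lies in `⟨u⟩`, a power of it squares to `u`. -/
theorem exists_pow_sq {t : G} (ht : t ∈ P) (htY : t ∈ pairCentral u x y E) (h1 : t ≠ 1)
    (hu : t ≠ u) : ∃ j : ℕ, t ^ j * t ^ j = u := by
  obtain ⟨k, hk⟩ := IsPGroup.iff_orderOf.mp s.maxP.1 ⟨t, ht⟩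
  rw [Subgroup.orderOf_mk] at hk
  rcases k with _ | _ | k
  · exact absurd (orderOf_eq_one_iff.mp (by rw [hk, pow_zero])) h1
  · refine absurd ((s.involution htY ?_).resolve_left h1) hu
    rw [← pow_two, show (2 : ℕ) = orderOf t by rw [hk, zero_add, pow_one], pow_orderOf_eq_one]
  refine ⟨2 ^ k, ?_⟩
  rw [← pow_add, ← two_mul, ← pow_succ']
  refine (s.involution (pow_mem htY _) ?_).resolve_left ?_
  · rw [← pow_add, ← two_mul, ← pow_succ', ← hk, pow_orderOf_eq_one]
  · intro e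
    have h2 := Nat.le_of_dvd (by positivity) (hk ▸ orderOf_dvd_of_pow_eq_one e)
    have h3 : 2 ^ (k + 1) < 2 ^ (k + 1 + 1) := Nat.pow_lt_pow_right (by norm_num) (by omega)
    omega

omit [Finite Ω] in
/-- The image of an element squaring to `u`. -/
theorem exists_image {t : G} (ht : t ∈ P) :
    ∃ q ∈ Q, ∃ t' ∈ P, t' ∈ pairCentral u x y E ∧ n * t * n⁻¹ = q * t' :=
  s.factor ((mem_normalizer_iff.mp s.n_norm t).mp ht)

omit [Finite Ω] in
/-- The `Q`-part of the image of an element squaring to `u` lies outside `E`. -/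
theorem notMem_of_image {t q t' : G} (htt : t * t = u) (ht' : t' ∈ pairCentral u x y E)
    (he : n * t * n⁻¹ = q * t') : q ∉ E := by
  intro hqE
  obtain ⟨htK, hty⟩ := mem_pairCentral.mp ht'
  have hc : Commute q t' := (mem_lineCentral.mp htK).2.1 q hqE
  have h1 : u * e₁ = t' * t' := by
    calc u * e₁ = (n * t * n⁻¹) * (n * t * n⁻¹) := by rw [← s.n_u, ← htt]; group
      _ = (q * q) * (t' * t') := by rw [he, hc.symm.mul_mul_mul_comm]
      _ = t' * t' := by rw [s.special.two q hqE, one_mul]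
  have h2 : (u * e₁) • y = y := by rw [h1, mul_smul, hty, hty]
  rw [mul_smul] at h2
  have h3 : e₁ • y = y := MulAction.injective u (h2.trans s.fix.symm)
  exact s.e_ne (s.line.free e₁ (s.line.E_le s.e_mem) y s.fix s.ne h3)

omit [Finite Ω] in
/-- The image of an element centralising `Q` centralises `Q`. -/
theorem commute_image {t : G} (ht : t ∈ P) (htY : t ∈ pairCentral u x y E)
    (htQ : ∀ k ∈ Q, Commute t k) {h : G} (hh : h ∈ Q) : Commute (n * t * n⁻¹) h := by
  set g := n⁻¹ * h * n with hg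
  have hgP : g ∈ P := by
    have := (mem_normalizer_iff.mp (inv_mem s.n_norm) h).mp (s.Q_le hh)
    rwa [inv_inv] at this
  obtain ⟨q, hq, t₂, ht₂, ht₂Y, he⟩ := s.factor hgP
  set c := ⁅t, t₂⁆ with hc
  have hcP : c ∈ P := P.mul_mem (P.mul_mem (P.mul_mem ht ht₂) (P.inv_mem ht)) (P.inv_mem ht₂)
  have hcY : c ∈ pairCentral u x y E :=
    (pairCentral u x y E).mul_mem ((pairCentral u x y E).mul_mem
      ((pairCentral u x y E).mul_mem htY ht₂Y) (inv_mem htY)) (inv_mem ht₂Y)
  set F := n * t * n⁻¹ with hF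
  have hFP : F ∈ P := (mem_normalizer_iff.mp s.n_norm t).mp ht
  have hFQ : F * h * F⁻¹ * h⁻¹ ∈ Q := Q.mul_mem (s.conj_Q hFP hh) (Q.inv_mem hh)
  set p := n * q with hp
  have hFc : F * h * F⁻¹ * h⁻¹ = p * c * p⁻¹ := by
    calc F * h * F⁻¹ * h⁻¹ = n * (t * g * t⁻¹ * g⁻¹) * n⁻¹ := by rw [hF, hg]; group
      _ = n * ((t * q * t⁻¹) * c * q⁻¹) * n⁻¹ := by
          rw [he, hc, commutatorElement_def]; group
      _ = _ := by rw [(htQ q hq).eq, mul_inv_cancel_right, hp]; group
  by_cases hc1 : c = 1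
  · rw [hc1, mul_one, mul_inv_cancel] at hFc
    exact mul_inv_eq_iff_eq_mul.mp (mul_inv_eq_one.mp hFc)
  exfalso
  obtain ⟨j, hj⟩ := s.exists_pow_eq hcP hcY hc1
  have h1 : p * u * p⁻¹ ∈ Q := by
    rw [← hj, ← conj_pow, ← hFc]
    exact pow_mem hFQ j
  rw [hp, show n * q * u * (n * q)⁻¹ = n * (q * u * q⁻¹) * n⁻¹ by group,
    (line2_commute s.line hq).eq, mul_inv_cancel_right, s.n_u] at h1
  have h2 := Q.mul_mem h1 (Q.inv_mem (s.line.E_le s.e_mem))
  rw [mul_inv_cancel_right] at h2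
  exact s.u_notMem h2

omit [Finite Ω] in
/-- With centre `E`, an element squaring to `u` does not centralise `Q` unless the image of it
moves `Q` modulo `E`. -/
theorem false_of_centralizes {t : G} (ht : t ∈ P) (htY : t ∈ pairCentral u x y E) (htt : t * t = u)
    (htQ : ∀ k ∈ Q, Commute t k) (hZ : ∀ k ∈ Q, (∀ g ∈ Q, Commute k g) → k ∈ E)
    (hlift : ∀ c ∈ P, c ∈ pairCentral u x y E → (∀ k ∈ Q, c * k * c⁻¹ * k⁻¹ ∈ E) →
      ∀ k ∈ Q, Commute c k) : False := by
  obtain ⟨q, hq, t', ht', ht'Y, he⟩ := s.exists_image ht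
  have hF : ∀ k ∈ Q, Commute (q * t') k := fun k hk => he ▸ s.commute_image ht htY htQ hk
  have hmod : ∀ k ∈ Q, t' * k * t'⁻¹ * k⁻¹ ∈ E := by
    intro k hk
    have h1 : t' * k * t'⁻¹ = q⁻¹ * k * q := by
      calc t' * k * t'⁻¹ = q⁻¹ * ((q * t') * k * (q * t')⁻¹) * q := by group
        _ = _ := by rw [(hF k hk).eq, mul_inv_cancel_right]
    rw [h1]
    have := s.special.comm_mem q⁻¹ (Q.inv_mem hq) k hk
    rwa [commutatorElement_def, inv_inv] at this
  have hc := hlift t' ht' ht'Y hmod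
  refine s.notMem_of_image htt ht'Y he (hZ q hq fun k hk => ?_)
  have := (hF k hk).mul_left (hc k hk).inv_left
  rwa [mul_inv_cancel_right] at this

/-- A two-group at `x` and `y` in `C(u) ∩ C(E)` is no larger than the part of `P`. -/
theorem maxTwo_pair : MaxTwo (pairCentral u x y E) (P ⊓ stabilizer G y) := by
  haveI : Fact (Nat.Prime 2) := ⟨Nat.prime_two⟩
  have hsplit : Nat.card P = Nat.card Q * Nat.card ↥(P ⊓ stabilizer G y) := by
    rw [← Nat.card_prod]
    refine (Nat.card_congr (Equiv.ofBijective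
      (fun p : Q × ↥(P ⊓ stabilizer G y) => (⟨(p.1 : G) * p.2,
        P.mul_mem (s.Q_le p.1.2) (mem_inf.mp p.2.2).1⟩ : P)) ⟨fun p p' hp => ?_, fun g => ?_⟩)).symm
    · obtain ⟨h1, h2⟩ := factor_unique s.line s.fix s.ne p.1.2 p'.1.2
        (mem_stabilizer_iff.mp (mem_inf.mp p.2.2).2) (mem_stabilizer_iff.mp (mem_inf.mp p'.2.2).2)
        (congrArg Subtype.val hp)
      exact Prod.ext (Subtype.ext h1) (Subtype.ext h2)
    · obtain ⟨q, hq, t, ht, htY, he⟩ := s.factor g.2
      exact ⟨(⟨q, hq⟩, ⟨t, mem_inf.mpr ⟨ht, mem_stabilizer_iff.mpr (mem_pairCentral.mp htY).2⟩⟩),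
        Subtype.ext he.symm⟩
  refine ⟨s.maxP.1.to_le inf_le_left, fun g hg => mem_pairCentral.mpr
    ⟨s.maxP.2.1 (mem_inf.mp hg).1, mem_stabilizer_iff.mp (mem_inf.mp hg).2⟩,
    fun T' hT' hT'Y hle => (eq_of_le_of_card_ge hle ?_).symm⟩
  -- `T'` with the part of `lineGroup D u` of a Sylow subgroup through it
  obtain ⟨P', hT'P', hP'⟩ := exists_maxTwo_ge (K := lineCentral u x E) hT'
    (hT'Y.trans inf_le_left)
  obtain ⟨c, hc, hcP⟩ := s.maxP.exists_conj hP'
  obtain ⟨hcx, -, hcu⟩ := mem_lineCentral.mp hc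
  let f : Q × T' → P' := fun p => ⟨c * p.1 * c⁻¹ * p.2,
    P'.mul_mem ((hcP _).mp (s.Q_le p.1.2)) (hT'P' p.2.2)⟩
  have hodd := line2_odd_card s.line s.crit s.fix s.ne
  have hf : Function.Injective f := by
    intro p p' hp
    have h0 : c * p.1 * c⁻¹ * p.2 = c * p'.1 * c⁻¹ * p'.2 := congrArg Subtype.val hp
    set w := (p.2 : G) * (p'.2 : G)⁻¹ with hw
    have hw' : w = c * ((p.1 : G)⁻¹ * p'.1) * c⁻¹ := by
      rw [hw, show (p.2 : G) = (c * (p.1 : G) * c⁻¹)⁻¹ * (c * p.1 * c⁻¹ * p.2) by group, h0]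
      group
    have hwT : w ∈ T' := T'.mul_mem p.2.2 (T'.inv_mem p'.2.2)
    have hwL : w ∈ lineGroup D u ⊓ pairStab G x y := by
      obtain ⟨h1, h2⟩ := mem_inf.mp (conj_lineGroup_stab s.crit hcu hcx
        (s.line.Q_le (Q.mul_mem (Q.inv_mem p.1.2) p'.1.2)))
      rw [← hw'] at h1 h2
      exact mem_inf.mpr ⟨h1, mem_pairStab.mpr
        ⟨mem_stabilizer_iff.mp h2, (mem_pairCentral.mp (hT'Y hwT)).2⟩⟩
    have hw1 : w = 1 := by
      obtain ⟨k, hk⟩ := IsPGroup.iff_orderOf.mp hT' ⟨w, hwT⟩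
      rw [Subgroup.orderOf_mk] at hk
      have h2 : orderOf w ∣ Nat.card ↥(lineGroup D u ⊓ pairStab G x y) :=
        Subgroup.orderOf_dvd_natCard _ hwL
      rw [hk] at h2
      rcases k with _ | k
      · exact orderOf_eq_one_iff.mp (by rw [hk, pow_zero])
      · exact absurd (even_iff_two_dvd.mpr ((dvd_pow_self 2 (by omega)).trans h2))
          (Nat.not_even_iff_odd.mpr hodd)
    have h3 : (p.1 : G) = p'.1 := by
      rw [hw1] at hw'
      exact inv_mul_eq_one.mp (conj_eq_one_iff.mp hw'.symm)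
    exact Prod.ext (Subtype.ext h3) (Subtype.ext (mul_inv_eq_one.mp hw1))
  have h1 := Nat.card_le_card_of_injective f hf
  have h2 : Nat.card P' = Nat.card P := by
    refine (Nat.card_congr (Equiv.ofBijective (fun g : P => (⟨c * g * c⁻¹, (hcP _).mp g.2⟩ : P'))
      ⟨fun a b e => Subtype.ext (by simpa using congrArg Subtype.val e), fun g => ?_⟩)).symm
    exact ⟨⟨c⁻¹ * g * c, (hcP _).mpr (by simp [mul_assoc])⟩, Subtype.ext (by group)⟩
  rw [Nat.card_prod, h2, hsplit] at h1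
  exact Nat.le_of_mul_le_mul_left h1 Nat.card_pos

end Setting

end Cfsg.Agent.H29.Asch
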