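import Cfsg.Agent.H6.Asch.Chain
import Cfsg.Agent.H14.Asch.Local
import Cfsg.Agent.H1.Asch.Fusion
import Cfsg.Agent.H51.Asch.Chain

/-!
The conjugates of `u` centralising `E` at `x` are conjugate to it under the normaliser of `E` at `x`,
so with fusion under the centraliser of `E`.
-/

set_option autoImplicit false
set_option linter.style.haveILetI false

namespace Cfsg.Agent.H29.Asch

open Subgroup MulAction
open Cfsg.Agent.H14.Asch
open Cfsg.Agent.H73.Asch (Line2)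
open Cfsg.Agent.H51.Asch (coreStab mem_coreStab)

universe u v

variable {G : Type u} [Group G] [Finite G] {Ω : Type v} [MulAction G Ω] [Finite Ω] {D : Set G}

/-- A conjugate of `u` centralising `E` at `x` is a conjugate under the normaliser of `E` at `x`. -/
theorem exists_norm_conj (h : Crit G Ω D) {u : G} {x : Ω} {E Q : Subgroup G}
    (hl : Line2 D u x E Q) {g₀ : G} (hv : g₀ * u * g₀⁻¹ ∈ coreStab x E) :
    ∃ k ∈ H6.Asch.normAt x E, g₀ * u * g₀⁻¹ = k * u * k⁻¹ := by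
  obtain ⟨hu2, -, -⟩ := hl.bad
  obtain ⟨hvx, hvE⟩ := mem_coreStab.mp hv
  obtain ⟨a, hax, hau⟩ : ∃ a : G, a • x = x ∧ a * u * a⁻¹ = g₀ * u * g₀⁻¹ := by
    have hfx : u • g₀⁻¹ • x = g₀⁻¹ • x := by
      rw [mul_smul, mul_smul] at hvx
      exact (inv_smul_eq_iff.mpr hvx.symm).symm
    obtain ⟨c, hc, hcx⟩ := H1.Asch.exists_commute_smul h hu2 hl.fix hfx
    refine ⟨g₀ * c, by rw [mul_smul, hcx, smul_inv_smul], ?_⟩
    calc g₀ * c * u * (g₀ * c)⁻¹ = g₀ * (c * u * c⁻¹) * g₀⁻¹ := by group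
      _ = _ := by rw [H14.Asch.conj_eq_of_commute hc]
  set W := E.map (MulAut.conj a⁻¹).toMonoidHom with hW
  have hWu : ∀ g ∈ W, Commute g u := by
    rintro _ ⟨g, hg, rfl⟩
    have := H14.Asch.commute_conj (hvE g hg) a⁻¹
    rw [← hau] at this
    simpa [mul_assoc] using this
  have hWx : ∀ g ∈ W, g • x = x := by
    rintro _ ⟨g, hg, rfl⟩
    simp only [MulEquiv.coe_toMonoidHom, MulAut.conj_apply, inv_inv]
    rw [mul_smul, mul_smul, hax, line2_smul hl (hl.E_le hg), inv_smul_eq_iff, hax]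
  obtain ⟨b, hb, hbE⟩ := h.exists_conj_members hl ((hl.isPGroup.to_le hl.E_le).map _) hWu hWx
  have hbu : Commute b u := commute_of_mem_lineGroup hb.1
  have hbx : b • x = x := mem_stabilizer_iff.mp hb.2
  set t := b⁻¹ * a⁻¹ with ht
  have htE : t ∈ normalizer (E : Set G) := by
    refine Coprime.mem_normalizer_of_map_conj (eq_of_le_of_card_ge ?_ (by
      rw [Subgroup.card_map_of_injective (f := (MulAut.conj t).toMonoidHom) (MulAut.conj t).injective]))
    rintro _ ⟨e, he, rfl⟩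
    by_cases he1 : e = 1
    · simp [he1]
    have := hbE (a⁻¹ * e * a⁻¹⁻¹) (h.conj_mem (line2_member hl he he1).1 _) ⟨e, he, rfl⟩
    simp only [MulEquiv.coe_toMonoidHom, MulAut.conj_apply, ht]
    convert this using 1
    group
  refine ⟨a * b, mem_inf.mpr ⟨mem_stabilizer_iff.mpr (by rw [mul_smul, hbx, hax]), ?_⟩, ?_⟩
  · rw [show a * b = t⁻¹ by rw [ht]; group]
    exact inv_mem htE
  · rw [← hau, show a * b * u * (a * b)⁻¹ = a * (b * u * b⁻¹) * a⁻¹ by group,
      H14.Asch.conj_eq_of_commute hbu]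

/-- With fusion: a conjugate of `u` centralising `E` at `x` is one under `C_H(E)`. -/
theorem exists_cent_conj (h : Crit G Ω D) {u : G} {x : Ω} {E Q : Subgroup G}
    (hl : Line2 D u x E Q)
    (hfused : ∀ g ∈ H6.Asch.normAt x E, ∃ c ∈ H6.Asch.centAt x E,
      g * u * g⁻¹ = c * u * c⁻¹) {g₀ : G} (hv : g₀ * u * g₀⁻¹ ∈ coreStab x E) :
    ∃ c ∈ coreStab x E, g₀ * u * g₀⁻¹ = c * u * c⁻¹ := by
  obtain ⟨k, hk, hkv⟩ := exists_norm_conj h hl hv
  obtain ⟨c, hc, hcv⟩ := hfused k hk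
  exact ⟨c, hc, hkv.trans hcv⟩

end Cfsg.Agent.H29.Asch
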