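import Cfsg.Agent.H29.Asch.ShapeExists
import Cfsg.Agent.H6.Asch.Chain
import Cfsg.Agent.H51.Asch.Core

/-!
A torus in `lineGroup D u` at `x` and `y` lies in the odd core of `pairNorm u x y E`, so every element
of what it generates with `C_H(E)` acts on `E` through that core.
-/

set_option autoImplicit false
set_option linter.style.haveILetI false

namespace Cfsg.Agent.H29.Asch

open Subgroup MulAction
open Cfsg.Agent.H14.Asch
open Cfsg.Agent.H73.Asch (Line2)
open Cfsg.Agent.H51.Asch (coreStab)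
open scoped Pointwise

universe u v

variable {G : Type u} [Group G] [Finite G] {Ω : Type v} [MulAction G Ω] [Finite Ω] {D : Set G}

omit [Finite Ω] in
/-- A subgroup of `lineGroup D u` at `x` and `y` normalising `E` lies in the core. -/
theorem le_core (h : Crit G Ω D) {u : G} {x y : Ω} {E Q : Subgroup G} (hl : Line2 D u x E Q)
    (hy : u • y = y) (hyx : y ≠ x) {A : Subgroup G} (hA : A ≤ lineGroup D u ⊓ pairStab G x y)
    (hAE : A ≤ normalizer (E : Set G)) : A ≤ H6.Asch.core u x y E := by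
  set N := H6.Asch.pairNorm u x y E with hN
  have hmemN : ∀ {g}, g ∈ N ↔ (g ∈ pairStab G x y ∧
      (g • x = x ∧ g ∈ normalizer (E : Set G)) ∧ Commute g u) := fun {g} => by
    rw [hN, H6.Asch.pairNorm, H6.Asch.normAt, mem_inf, mem_inf, mem_inf, mem_stabilizer_iff,
      mem_centralizer_singleton_iff]
    exact Iff.rfl
  set S := lineGroup D u ⊓ N with hS
  have hSodd : Odd (Nat.card S) := (line2_odd_card hl h hy hyx).of_dvd_nat
    (card_dvd_of_le (inf_le_inf_left _ inf_le_left))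
  have hSn : ∀ m ∈ N, ∀ k ∈ S, m * k * m⁻¹ ∈ S := by
    intro m hm k hk
    obtain ⟨hkL, hkN⟩ := mem_inf.mp hk
    obtain ⟨-, ⟨hmx, -⟩, hmu⟩ := hmemN.mp hm
    refine mem_inf.mpr ⟨(mem_inf.mp (conj_lineGroup_stab h hmu hmx
      (mem_inf.mpr ⟨hkL, ?_⟩))).1, mul_mem (mul_mem hm hkN) (inv_mem hm)⟩
    exact mem_stabilizer_iff.mpr (hmemN.mp hkN).2.1.1
  intro a ha
  obtain ⟨haL, hap⟩ := mem_inf.mp (hA ha)
  have haN : a ∈ N :=
    hmemN.mpr ⟨hap, ⟨(mem_pairStab.mp hap).1, hAE ha⟩, commute_of_mem_lineGroup haL⟩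
  haveI : (S.subgroupOf N).Normal := ⟨fun k hk m => mem_subgroupOf.mpr
    (hSn m m.2 k (mem_subgroupOf.mp hk))⟩
  refine ⟨⟨a, haN⟩, Cores.le_oddCore ?_ (mem_subgroupOf.mpr (mem_inf.mpr ⟨haL, haN⟩)), rfl⟩
  rwa [Nat.card_congr (subgroupOfEquivOfLe (inf_le_right : S ≤ N)).toEquiv]

omit [Finite G] [Finite Ω] in
/-- The action on `E` of what a torus generates with `C_H(E)` is that of the torus. -/
theorem exists_mem_inv_mul {x : Ω} {E A : Subgroup G}
    (hA : A ≤ normalizer (coreStab x E : Set G)) {a : G} (ha : a ∈ A ⊔ coreStab x E) :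
    ∃ b ∈ A, b⁻¹ * a ∈ coreStab x E := by
  have h1 : a ∈ ((A ⊔ coreStab x E : Subgroup G) : Set G) := ha
  rw [coe_mul_of_left_le_normalizer_right A (coreStab x E) hA] at h1
  obtain ⟨b, hb, c, hc, rfl⟩ := Set.mem_mul.mp h1
  exact ⟨b, hb, by rwa [inv_mul_cancel_left]⟩

/-- The field `A_image` of the chain. -/
theorem exists_core_image (h : Crit G Ω D) {u : G} {x y : Ω} {E Q : Subgroup G}
    (hl : Line2 D u x E Q) (hy : u • y = y) (hyx : y ≠ x) {A₀ : Subgroup G}
    (hA : A₀ ≤ lineGroup D u ⊓ pairStab G x y) (hAE : A₀ ≤ normalizer (E : Set G))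
    (hAK : A₀ ≤ normalizer (coreStab x E : Set G)) {a : G} (ha : a ∈ A₀ ⊔ coreStab x E) :
    ∃ b ∈ H6.Asch.core u x y E, b⁻¹ * a ∈ H6.Asch.centAt x E := by
  obtain ⟨b, hb, hc⟩ := exists_mem_inv_mul hAK ha
  exact ⟨b, le_core h hl hy hyx hA hAE hb, hc⟩

end Cfsg.Agent.H29.Asch
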