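import Cfsg.Agent.H29.Asch.ShapeBase

/-!
Squaring injective on `Q / E`: no two-element at `x` and `y` centralising `u` and `E` squares to `u`.
-/

set_option autoImplicit false
set_option linter.style.haveILetI false

namespace Cfsg.Agent.H29.Asch

open Subgroup MulAction
open Cfsg.Agent.H14.Asch
open Cfsg.Agent.H73.Asch (Line2)
open Cfsg.Agent.H51.Asch (coreStab mem_coreStab MaxTwo exists_maxTwo_ge)
open scoped commutatorElement

universe u v

variable {G : Type u} [Group G] {Ω : Type v} [MulAction G Ω] {D : Set G}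

/-- `g` acts on `Q` as the inner automorphism by `h`. -/
def ActsAs (Q : Subgroup G) (g h : G) : Prop := ∀ k ∈ Q, g * k * g⁻¹ = h * k * h⁻¹

theorem Special.actsAs_congr {E Q : Subgroup G} (S : Special E Q) {g h h' : G} (hh' : h' ∈ Q)
    (he : h * h'⁻¹ ∈ E) (hg : ActsAs Q g h) : ActsAs Q g h' := by
  intro k hk
  have hc := S.central _ he (h' * k * h'⁻¹) (Q.mul_mem (Q.mul_mem hh' hk) (Q.inv_mem hh'))
  calc g * k * g⁻¹ = (h * h'⁻¹) * (h' * k * h'⁻¹) * (h * h'⁻¹)⁻¹ := by rw [hg k hk]; group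
    _ = h' * k * h'⁻¹ := by rw [hc.eq, mul_inv_cancel_right]

/-- A subgroup grows at most twofold when an element of `Q` is added. -/
theorem Special.exists_extend [Finite G] {E Q : Subgroup G} (S : Special E Q) {X : Subgroup G}
    (hEX : E ≤ X) (hXQ : X ≤ Q) {h : G} (hh : h ∈ Q) :
    ∃ X' : Subgroup G, X ≤ X' ∧ X' ≤ Q ∧ h ∈ X' ∧ Nat.card X' ≤ 2 * Nat.card X := by
  classical
  have hn : ∀ {g z}, g ∈ Q → z ∈ X → g * z * g⁻¹ ∈ X := fun {g z} hg hz => by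
    have h1 := X.mul_mem (hEX (S.comm_mem g hg z (hXQ hz))) hz
    rwa [commutatorElement_def, inv_mul_cancel_right] at h1
  have hhh : h * h ∈ X := hEX (S.sq_mem h hh)
  have hn' : ∀ {z}, z ∈ X → h⁻¹ * z * h ∈ X := fun {z} hz => by
    simpa using hn (Q.inv_mem hh) hz
  let X' : Subgroup G :=
    { carrier := {g | g ∈ Q ∧ (g ∈ X ∨ g * h ∈ X)}
      mul_mem' := by
        rintro g g' ⟨hg, h1⟩ ⟨hg', h2⟩
        refine ⟨Q.mul_mem hg hg', ?_⟩
        rcases h1 with h1 | h1 <;> rcases h2 with h2 | h2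
        · exact Or.inl (X.mul_mem h1 h2)
        · exact Or.inr (by rw [mul_assoc]; exact X.mul_mem h1 h2)
        · refine Or.inr ?_
          rw [show g * g' * h = (g * h) * (h⁻¹ * g' * h) by group]
          exact X.mul_mem h1 (hn' h2)
        · refine Or.inl ?_
          rw [show g * g' = (g * h) * (h⁻¹ * (g' * h) * h) * (h * h)⁻¹ by group]
          exact X.mul_mem (X.mul_mem h1 (hn' h2)) (X.inv_mem hhh)
      one_mem' := ⟨Q.one_mem, Or.inl X.one_mem⟩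
      inv_mem' := by
        rintro g ⟨hg, h1 | h1⟩
        · exact ⟨Q.inv_mem hg, Or.inl (X.inv_mem h1)⟩
        · refine ⟨Q.inv_mem hg, Or.inr ?_⟩
          rw [show g⁻¹ * h = (h * (g * h)⁻¹ * h⁻¹) * (h * h) by group]
          exact X.mul_mem (hn hh (X.inv_mem h1)) hhh }
  refine ⟨X', fun g hg => ⟨hXQ hg, Or.inl hg⟩, fun g hg => hg.1, ⟨hh, Or.inr hhh⟩, ?_⟩
  let f : X' → Bool × X := fun g =>
    if hg : (g : G) ∈ X then (true, ⟨g, hg⟩) else (false, ⟨(g : G) * h, g.2.2.resolve_left hg⟩)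
  have hf : Function.Injective f := by
    intro g g' e
    simp only [f] at e
    split_ifs at e with h1 h2 h2 <;> simp at e
    · exact e
    · exact e
  have := Nat.card_le_card_of_injective f hf
  rwa [Nat.card_prod, Nat.card_eq_fintype_card (α := Bool), Fintype.card_bool] at this

variable [Finite G] [Finite Ω]

namespace Setting

variable {u n e₁ : G} {x y : Ω} {E Q P : Subgroup G} (s : Setting D u x y E Q P n e₁)
include s

omit [Finite Ω] in
/-- An element normalising `Q` and centralising `E` fixes `Q / E` if squaring is injective. -/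
theorem comm_mem_of_inj (hinj : ∀ g ∈ Q, ∀ k ∈ Q, g * g = k * k → g * k⁻¹ ∈ E) {c : G}
    (hc : c ∈ lineCentral u x E) (hcQ : c ∈ normalizer (Q : Set G)) {k : G} (hk : k ∈ Q) :
    c * k * c⁻¹ * k⁻¹ ∈ E := by
  refine hinj _ ((mem_normalizer_iff.mp hcQ k).mp hk) k hk ?_
  calc c * k * c⁻¹ * (c * k * c⁻¹) = c * (k * k) * c⁻¹ := by group
    _ = k * k := by
      rw [((mem_lineCentral.mp hc).2.1 _ (s.line.sq_mem k hk)).symm.eq, mul_inv_cancel_right]

omit [Finite Ω] in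
/-- An element acting as an inner automorphism, outside `E`. -/
theorem exists_inner (hinj : ∀ g ∈ Q, ∀ k ∈ Q, g * g = k * k → g * k⁻¹ ∈ E) {t : G} (ht : t ∈ P)
    (htY : t ∈ pairCentral u x y E) (htt : t * t = u) :
    ∃ g ∈ pairCentral u x y E ⊓ normalizer (Q : Set G), ∃ h ∈ Q, h ∉ E ∧ ActsAs Q g h := by
  obtain ⟨q, hq, t', ht', ht'Y, he⟩ := s.exists_image ht
  set F := n * t * n⁻¹ with hF
  have hFP : F ∈ P := (mem_normalizer_iff.mp s.n_norm t).mp ht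
  have hcent : ∀ {c e}, c ∈ P → e ∈ E → Commute e c := fun hc he' =>
    (mem_lineCentral.mp (s.maxP.2.1 hc)).2.1 _ he'
  have hu : ∀ {c}, c ∈ P → Commute c u := fun hc => (mem_lineCentral.mp (s.maxP.2.1 hc)).2.2
  have hFh : ∀ h ∈ Q, t * h * t⁻¹ = F * h * F⁻¹ := by
    intro h hh
    obtain ⟨h1, hh1, s1, hs1, hs1Y, he1⟩ := s.factor ((mem_normalizer_iff.mp s.n_norm h).mp
      (s.Q_le hh))
    have hsq : h1 * (s1 * h1 * s1⁻¹) * (s1 * s1) = h * h := by
      calc h1 * (s1 * h1 * s1⁻¹) * (s1 * s1) = (h1 * s1) * (h1 * s1) := by group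
        _ = n * (h * h) * n⁻¹ := by rw [← he1]; group
        _ = h * h := by rw [(s.n_E _ (s.line.sq_mem h hh)).eq, mul_inv_cancel_right]
    have hss : s1 * s1 ∈ Q := by
      rw [show s1 * s1 = (h1 * (s1 * h1 * s1⁻¹))⁻¹ * (h * h) by rw [← hsq, inv_mul_cancel_left]]
      exact Q.mul_mem (Q.inv_mem (Q.mul_mem hh1 (s.conj_Q hs1 hh1))) (Q.mul_mem hh hh)
    have hs1y := (mem_pairCentral.mp hs1Y).2
    have hs11 : s1 * s1 = 1 :=
      s.line.free _ hss y s.fix s.ne (by rw [mul_smul, hs1y, hs1y])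
    have hs1c : ∀ {c}, c ∈ P → Commute c s1 := by
      rcases s.involution hs1Y hs11 with rfl | rfl
      · exact fun _ => Commute.one_right _
      · exact hu
    rw [(hs1c (s.Q_le hh1)).symm.eq, mul_inv_cancel_right, hs11, mul_one] at hsq
    have hε := hinj h1 hh1 h hh hsq
    set d := t * h * t⁻¹ * h⁻¹ with hd
    have hdE : d ∈ E := s.comm_mem_of_inj hinj (s.maxP.2.1 ht) (s.norm_Q ht) hh
    have hdc : d = F * h * F⁻¹ * h⁻¹ := by
      set ε := h1 * h⁻¹ with hεd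
      have hεF : Commute ε (F * h * F⁻¹ * h⁻¹) :=
        hcent (P.mul_mem (P.mul_mem (P.mul_mem hFP (s.Q_le hh)) (P.inv_mem hFP))
          (P.inv_mem (s.Q_le hh))) hε
      calc d = n * d * n⁻¹ := by rw [(s.n_E d hdE).eq, mul_inv_cancel_right]
        _ = F * (h1 * s1) * F⁻¹ * (h1 * s1)⁻¹ := by rw [← he1, hd, hF]; group
        _ = F * h1 * (s1 * F⁻¹ * s1⁻¹) * h1⁻¹ := by group
        _ = F * h1 * F⁻¹ * h1⁻¹ := by
            rw [(hs1c (P.inv_mem hFP)).symm.eq, mul_inv_cancel_right]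
        _ = (F * ε) * h * F⁻¹ * h⁻¹ * ε⁻¹ := by rw [hεd]; group
        _ = ε * (F * h * F⁻¹ * h⁻¹) * ε⁻¹ := by rw [(hcent hFP hε).symm.eq]; group
        _ = _ := by rw [hεF.eq, mul_inv_cancel_right]
    rw [hd] at hdc
    exact mul_right_cancel hdc
  set q1 := t⁻¹ * q * t with hq1
  have hq1Q : q1 ∈ Q := by
    have := s.conj_Q (P.inv_mem ht) hq
    rwa [inv_inv] at this
  refine ⟨t⁻¹ * t', mem_inf.mpr ⟨(pairCentral u x y E).mul_mem (inv_mem htY) ht'Y,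
    s.norm_Q (P.mul_mem (P.inv_mem ht) ht')⟩, q1⁻¹, Q.inv_mem hq1Q, fun hE => ?_, fun k hk => ?_⟩
  · have h1 : q1 ∈ E := by simpa using E.inv_mem hE
    have h2 : q = q1 := by
      calc q = t * q1 * t⁻¹ := by rw [hq1]; group
        _ = q1 := by rw [(hcent ht h1).symm.eq, mul_inv_cancel_right]
    exact s.notMem_of_image htt ht'Y he (h2 ▸ h1)
  · have h1 : F * k * F⁻¹ = t * k * t⁻¹ := (hFh k hk).symm
    calc t⁻¹ * t' * k * (t⁻¹ * t')⁻¹ = q1⁻¹ * (t⁻¹ * (q * t' * k * (q * t')⁻¹) * t) * q1⁻¹⁻¹ := by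
          rw [hq1]; group
      _ = q1⁻¹ * k * q1⁻¹⁻¹ := by rw [← he, h1]; group

/-- Squaring injective on `Q / E`: nothing at `x` and `y` squares to `u`. -/
theorem false_of_squaring (hinj : ∀ g ∈ Q, ∀ k ∈ Q, g * g = k * k → g * k⁻¹ ∈ E)
    (hrank : ∀ g ∈ Q, g ∉ E → ∃ k ∈ Q, ¬ Commute g k) {A : Subgroup G}
    (hA : A ≤ lineGroup D u ⊓ pairStab G x y) (hAQ : A ≤ normalizer (Q : Set G))
    (htr : ∀ e ∈ E, ∀ f ∈ E, e ≠ 1 → f ≠ 1 → ∃ a ∈ A, a * e * a⁻¹ = f) {t : G} (ht : t ∈ P)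
    (htY : t ∈ pairCentral u x y E) (htt : t * t = u) : False := by
  classical
  haveI : Fact (Nat.Prime 2) := ⟨Nat.prime_two⟩
  obtain ⟨g₀, hg₀, h₀, hh₀, hh₀E, hact₀⟩ := s.exists_inner hinj ht htY htt
  set Y0 := pairCentral u x y E ⊓ normalizer (Q : Set G) with hY0
  set T := P ⊓ stabilizer G y with hT
  have hmaxT := s.maxTwo_pair
  have hTY0 : T ≤ Y0 := fun g hg => mem_inf.mpr ⟨hmaxT.2.1 hg, s.norm_Q (mem_inf.mp hg).1⟩
  have hmax0 : MaxTwo Y0 T :=
    ⟨hmaxT.1, hTY0, fun P' h1 h2 h3 => hmaxT.2.2 P' h1 (h2.trans inf_le_left) h3⟩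
  have hS := s.special
  have hconjA : ∀ a ∈ A, ∀ g ∈ Y0, a * g * a⁻¹ ∈ Y0 := by
    intro a ha g hg
    obtain ⟨hgY, hgQ⟩ := mem_inf.mp hg
    obtain ⟨hgK, hgy⟩ := mem_pairCentral.mp hgY
    obtain ⟨hgx, hgE, hgu⟩ := mem_lineCentral.mp hgK
    obtain ⟨haL, hap⟩ := mem_inf.mp (hA ha)
    obtain ⟨hax, hay⟩ := mem_pairStab.mp hap
    refine mem_inf.mpr ⟨mem_pairCentral.mpr ⟨mem_lineCentral.mpr ⟨?_, fun e he => ?_, ?_⟩, ?_⟩,
      mul_mem (mul_mem (hAQ ha) hgQ) (inv_mem (hAQ ha))⟩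
    · rw [mul_smul, mul_smul, inv_smul_eq_iff.2 hax.symm, hgx, hax]
    · have he' : a⁻¹ * e * a ∈ E := by
        refine hS.omega _ ?_ ?_
        · simpa using (mem_normalizer_iff.mp (inv_mem (hAQ ha)) e).mp (hS.le he)
        · rw [show a⁻¹ * e * a * (a⁻¹ * e * a) = a⁻¹ * (e * e) * a by group, hS.two e he]; group
      have h1 := H14.Asch.commute_conj (g := a) (hgE _ he')
      rwa [show a * (a⁻¹ * e * a) * a⁻¹ = e by group] at h1
    · have hau : Commute a u := commute_of_mem_lineGroup haL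
      exact (hau.mul_left hgu).mul_left hau.inv_left
    · rw [mul_smul, mul_smul, inv_smul_eq_iff.2 hay.symm, hgy, hay]
  -- every element of `Q` is induced from `T`
  have hall : ∀ h ∈ Q, h ∉ E → ∃ τ ∈ T, ActsAs Q τ h := by
    intro h hh hhE
    obtain ⟨a, ha, hah⟩ := htr (h₀ * h₀) (hS.sq_mem h₀ hh₀) (h * h) (hS.sq_mem h hh)
      (fun e => hh₀E (hS.omega h₀ hh₀ e)) (fun e => hhE (hS.omega h hh e))
    have haQ : ∀ k ∈ Q, a * k * a⁻¹ ∈ Q := fun k hk => (mem_normalizer_iff.mp (hAQ ha) k).mp hk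
    have haQ' : ∀ k ∈ Q, a⁻¹ * k * a ∈ Q := fun k hk => by
      simpa using (mem_normalizer_iff.mp (inv_mem (hAQ ha)) k).mp hk
    set g := a * g₀ * a⁻¹ with hg
    have hgY0 : g ∈ Y0 := hconjA a ha g₀ hg₀
    have hact : ActsAs Q g h := by
      refine hS.actsAs_congr hh (h := a * h₀ * a⁻¹) ?_ fun k hk => ?_
      · exact hinj _ (haQ h₀ hh₀) h hh (by rw [← hah]; group)
      · calc a * g₀ * a⁻¹ * k * (a * g₀ * a⁻¹)⁻¹ = a * (g₀ * (a⁻¹ * k * a) * g₀⁻¹) * a⁻¹ := by group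
          _ = _ := by rw [hact₀ _ (haQ' k hk)]; group
    -- the two-part
    set d := orderOf g with hd
    set j := d.factorization 2 with hj
    set m := d / 2 ^ j with hm
    have hmodd : Odd m := by
      rw [Nat.odd_iff, ← Nat.two_dvd_ne_zero]
      exact Nat.not_dvd_ordCompl Nat.prime_two (orderOf_pos g).ne'
    have hgn : ∀ k ∈ Q, g * k * g⁻¹ ∈ Q := fun k hk =>
      (mem_normalizer_iff.mp (mem_inf.mp hgY0).2 k).mp hk
    have hpow : ∀ i : ℕ, ActsAs Q (g ^ i) (h ^ i) := by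
      intro i
      induction i with
      | zero => intro k _; simp
      | succ i ih =>
        intro k hk
        calc g ^ (i + 1) * k * (g ^ (i + 1))⁻¹ = g ^ i * (g * k * g⁻¹) * (g ^ i)⁻¹ := by
              rw [pow_succ]; group
          _ = h ^ i * (g * k * g⁻¹) * (h ^ i)⁻¹ := ih _ (hgn k hk)
          _ = _ := by rw [hact k hk, pow_succ]; group
    have hactm : ActsAs Q (g ^ m) h := by
      refine hS.actsAs_congr hh ?_ (hpow m)
      obtain ⟨i, hi⟩ := hmodd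
      rw [hi, pow_succ, mul_inv_cancel_right, pow_mul, pow_two]
      exact pow_mem (hS.sq_mem h hh) i
    have hg2 : IsPGroup 2 (zpowers (g ^ m)) := by
      intro z
      refine ⟨j, Subtype.ext ?_⟩
      obtain ⟨i, hi⟩ := mem_zpowers_iff.mp z.2
      push_cast
      rw [← hi, ← zpow_natCast ((g ^ m) ^ i) (2 ^ j), ← zpow_mul, mul_comm, zpow_mul, zpow_natCast,
        ← pow_mul, hm, Nat.div_mul_cancel (Nat.ordProj_dvd _ _), hd, pow_orderOf_eq_one, one_zpow]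
    obtain ⟨P', hP'le, hP'⟩ := exists_maxTwo_ge (K := Y0) hg2 (zpowers_le.mpr (pow_mem hgY0 m))
    obtain ⟨c, hc, hcP⟩ := hP'.exists_conj hmax0
    obtain ⟨hcY, hcQ⟩ := mem_inf.mp hc
    refine ⟨c * g ^ m * c⁻¹, (hcP _).mp (hP'le (mem_zpowers _)),
      hS.actsAs_congr hh (h := c * h * c⁻¹) ?_ fun k hk => ?_⟩
    · exact s.comm_mem_of_inj hinj (mem_pairCentral.mp hcY).1 hcQ hh
    · calc c * g ^ m * c⁻¹ * k * (c * g ^ m * c⁻¹)⁻¹
          = c * (g ^ m * (c⁻¹ * k * c) * (g ^ m)⁻¹) * c⁻¹ := by group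
        _ = _ := by
          rw [hactm _ (by simpa using (mem_normalizer_iff.mp (inv_mem hcQ) k).mp hk)]; group
  -- the elements of `T` acting as inner automorphisms
  let T' : Subgroup G :=
    { carrier := {τ | τ ∈ T ∧ ∃ h ∈ Q, ActsAs Q τ h}
      mul_mem' := by
        rintro τ τ' ⟨hτ, h, hh, ha⟩ ⟨hτ', h', hh', ha'⟩
        refine ⟨T.mul_mem hτ hτ', h * h', Q.mul_mem hh hh', fun k hk => ?_⟩
        calc τ * τ' * k * (τ * τ')⁻¹ = τ * (τ' * k * τ'⁻¹) * τ⁻¹ := by group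
          _ = h * (h' * k * h'⁻¹) * h⁻¹ := by
              rw [ha' k hk, ha _ (Q.mul_mem (Q.mul_mem hh' hk) (Q.inv_mem hh'))]
          _ = _ := by group
      one_mem' := ⟨T.one_mem, 1, Q.one_mem, fun k _ => rfl⟩
      inv_mem' := by
        rintro τ ⟨hτ, h, hh, ha⟩
        refine ⟨T.inv_mem hτ, h⁻¹, Q.inv_mem hh, fun k hk => ?_⟩
        have h1 := ha (h⁻¹ * k * h) (Q.mul_mem (Q.mul_mem (Q.inv_mem hh) hk) hh)
        calc τ⁻¹ * k * τ⁻¹⁻¹ = τ⁻¹ * (h * (h⁻¹ * k * h) * h⁻¹) * τ := by group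
          _ = _ := by rw [← h1]; group }
  have huT : u ∈ T' := by
    refine ⟨mem_inf.mpr ⟨s.u_mem, mem_stabilizer_iff.mpr s.fix⟩, 1, Q.one_mem, fun k hk => ?_⟩
    rw [(line2_commute s.line hk).symm.eq, mul_inv_cancel_right]; group
  obtain ⟨τx, hτx, τy, hτy, hgen⟩ : ∃ a ∈ T', ∃ b ∈ T', T' ≤ closure {a, b} := by
    rcases cyclic_or_two_generated (u := u) (hmaxT.1.to_le (show T' ≤ T from fun τ hτ => hτ.1)) s.pow_u
      s.u_ne huT
      (fun τ hτ hττ => s.involution (hmaxT.2.1 hτ.1) hττ) with hc | ⟨a, ha, b, hb, -, -, -, -, hab⟩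
    · obtain ⟨⟨a, ha⟩, hga⟩ := hc.exists_generator
      refine ⟨a, ha, a, ha, fun τ hτ => ?_⟩
      obtain ⟨i, hi⟩ := mem_zpowers_iff.mp (hga ⟨τ, hτ⟩)
      have hi' : a ^ i = τ := by simpa using congrArg Subtype.val hi
      rw [← hi']
      exact zpow_mem (subset_closure (by simp)) i
    · exact ⟨a, ha, b, hb, hab⟩
  obtain ⟨hτxT, hx, hhx, hax⟩ := hτx
  obtain ⟨hτyT, hy', hhy, hay⟩ := hτy
  obtain ⟨X₁, hX₁, hX₁Q, hxX, hcX₁⟩ := hS.exists_extend le_rfl hS.le hhx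
  obtain ⟨W, hW₁, hWQ, hyW, hcW⟩ := hS.exists_extend hX₁ hX₁Q hhy
  have hτW : ∀ τ ∈ closure ({τx, τy} : Set G), ∃ w ∈ W, ActsAs Q τ w := by
    intro τ hτ
    induction hτ using Subgroup.closure_induction with
    | mem τ hτ =>
      rcases hτ with rfl | rfl
      · exact ⟨hx, hW₁ hxX, hax⟩
      · exact ⟨hy', hyW, hay⟩
    | one => exact ⟨1, W.one_mem, fun k _ => rfl⟩
    | mul a b _ _ iha ihb =>
      obtain ⟨w, hw, ha⟩ := iha
      obtain ⟨w', hw', hb⟩ := ihb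
      refine ⟨w * w', W.mul_mem hw hw', fun k hk => ?_⟩
      calc a * b * k * (a * b)⁻¹ = a * (b * k * b⁻¹) * a⁻¹ := by group
        _ = w * (w' * k * w'⁻¹) * w⁻¹ := by
            rw [hb k hk, ha _ (Q.mul_mem (Q.mul_mem (hWQ hw') hk) (Q.inv_mem (hWQ hw')))]
        _ = _ := by group
    | inv a _ iha =>
      obtain ⟨w, hw, ha⟩ := iha
      refine ⟨w⁻¹, W.inv_mem hw, fun k hk => ?_⟩
      have h1 := ha (w⁻¹ * k * w) (Q.mul_mem (Q.mul_mem (Q.inv_mem (hWQ hw)) hk) (hWQ hw))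
      calc a⁻¹ * k * a⁻¹⁻¹ = a⁻¹ * (w * (w⁻¹ * k * w) * w⁻¹) * a := by group
        _ = _ := by rw [← h1]; group
  have hQW : Q ≤ W := by
    intro h hh
    by_cases hhE : h ∈ E
    · exact hW₁ (hX₁ hhE)
    obtain ⟨τ, hτ, hτh⟩ := hall h hh hhE
    obtain ⟨w, hw, hτw⟩ := hτW τ (hgen ⟨hτ, h, hh, hτh⟩)
    have hwhE : w⁻¹ * h ∈ E := by
      by_contra hne
      obtain ⟨k, hk, hnk⟩ := hrank _ (Q.mul_mem (Q.inv_mem (hWQ hw)) hh) hne
      refine hnk (mul_inv_eq_iff_eq_mul.mp ?_)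
      calc w⁻¹ * h * k * (w⁻¹ * h)⁻¹ = w⁻¹ * (h * k * h⁻¹) * w := by group
        _ = k := by rw [← hτh k hk, hτw k hk]; group
    have := W.mul_mem hw (hW₁ (hX₁ hwhE))
    rwa [mul_inv_cancel_left] at this
  have hQ4 : Nat.card Q ≤ 4 * Nat.card E := by
    have := Nat.le_of_dvd Nat.card_pos (card_dvd_of_le hQW)
    omega
  -- squaring bounds `Q`
  let rep : E → G := fun e => if hex : ∃ g ∈ Q, g * g = e then hex.choose else 1
  have hrep : ∀ g ∈ Q, ∀ hgE : g * g ∈ E, g * (rep ⟨g * g, hgE⟩)⁻¹ ∈ E := by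
    intro g hg hgE
    have hex : ∃ a ∈ Q, a * a = g * g := ⟨g, hg, rfl⟩
    simp only [rep, dif_pos hex]
    exact hinj g hg _ hex.choose_spec.1 hex.choose_spec.2.symm
  have hle : Nat.card Q ≤ Nat.card E ^ 2 := by
    rw [sq, ← Nat.card_prod]
    refine Nat.card_le_card_of_injective (fun g : Q =>
      ((⟨(g : G) * g, hS.sq_mem g g.2⟩ : E), (⟨_, hrep g g.2 (hS.sq_mem g g.2)⟩ : E))) ?_
    intro a b hab
    simp only [Prod.mk.injEq] at hab
    obtain ⟨h1, h2⟩ := hab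
    have h3 := congrArg Subtype.val h2
    simp only at h3
    rw [h1] at h3
    exact Subtype.ext (mul_right_cancel h3)
  have h4 := s.line.four_le
  have hpos := hS.le
  rcases s.line.card_cases with hc | hc | hc
  · exact hh₀E ((eq_of_le_of_card_ge hS.le hc.le).ge hh₀)
  · have hE4 : Nat.card E = 4 := by
      rw [hc, sq] at hQ4
      have := Nat.le_of_mul_le_mul_right hQ4 (by omega)
      omega
    exact s.line.card_four hE4 (by rw [hc, hE4]; norm_num)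
  · rw [hc] at hle
    have := Nat.pow_lt_pow_right (a := Nat.card E) (by omega) (show 2 < 3 by norm_num)
    omega

end Setting

end Cfsg.Agent.H29.Asch
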