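import Cfsg.Agent.H29.Asch.ShapeTwoMain
import Cfsg.Agent.H6.Asch.Dispatch

/-!
The statement `ShapeTwoStep` of the dispatcher from the class statement for shape two.
-/

set_option autoImplicit false
set_option linter.style.haveILetI false

namespace Cfsg.Agent.H29.Asch

open Subgroup MulAction
open Cfsg.Agent.H14.Asch
open Cfsg.Agent.H73.Asch (Line2 RankOnePairs)
open Cfsg.Agent.H51.Asch (coreStab HasTranslation MaxTwo)
open Cfsg.Agent.H26.Asch (ClassResidue)
open scoped commutatorElement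

universe u v

variable {G : Type u} [Group G] [Finite G] {Ω : Type v} [MulAction G Ω] [Finite Ω] {D : Set G}

/-- `ShapeTwoStep` from the class statement. -/
theorem shapeTwoStep_of_class (h : Crit G Ω D)
    (hclass : RankOnePairs (G := G) Ω → ∀ (u : G) (x y : Ω) (E Q A₀ R A : Subgroup G),
      Line2 D u x E Q → u • y = y → y ≠ x → HasTranslation u x E → Squaring Q E → ¬ Q ≤ E →
      A₀ ≤ lineGroup D u ⊓ pairStab G x y → A₀ ≤ normalizer (E : Set G) →
      A₀ ≤ normalizer (coreStab x E : Set G) → A ≤ A₀ ⊔ coreStab x E → MaxTwo (coreStab x E) R →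
      ShapeData R Q E A u →
      (∀ g ∈ H6.Asch.normAt x E, ∃ c ∈ H6.Asch.centAt x E, g * u * g⁻¹ = c * u * c⁻¹) ∨
        ∃ N : Subgroup G, ClassResidue u x E R ⁅R, A⁆ N A) :
    H6.Asch.ShapeTwoStep Ω D :=
  fun hP u x y E Q hl hy hyx hT hs hQE =>
    exists_chain_or_residue_shapeTwo h hP hl hT hy hyx hs hQE fun A₀ R A h1 h2 h3 h4 h5 h6 =>
      hclass hP u x y E Q A₀ R A hl hy hyx hT hs hQE h1 h2 h3 h4 h5 h6

end Cfsg.Agent.H29.Asch
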