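import Cfsg.Agent.H29.Asch.UUULine

/-!
A four group of bad involutions with two common fixed points whose three involutions all have lines
of size `r ^ 3 + 1` over a common `r + 1` points does not exist (no weights, no types, `r ≥ 4`).
-/

set_option autoImplicit false
set_option linter.style.haveILetI false

namespace Cfsg.Agent.H29.Asch

open Subgroup MulAction
open Cfsg.Agent.H14.Asch
open Cfsg.Agent.H39
open Cfsg.Agent.H73.Asch (RankTwoBad Line2 HasLines2)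
open scoped Pointwise

universe u v

variable {G : Type u} [Group G] [Finite G] {Ω : Type v} [MulAction G Ω] [Finite Ω] {D : Set G}

/-- The centraliser of `v` and of `Z` at `x`. -/
def moduleStab (G : Type u) [Group G] {Ω : Type v} [MulAction G Ω] (v : G) (Z : Subgroup G)
    (x : Ω) : Subgroup G :=
  centralizer ({v} : Set G) ⊓ centralizer (Z : Set G) ⊓ stabilizer G x

omit [Finite G] [Finite Ω] in
theorem mem_moduleStab {v g : G} {Z : Subgroup G} {x : Ω} :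
    g ∈ moduleStab G v Z x ↔ Commute g v ∧ (∀ e ∈ Z, Commute g e) ∧ g • x = x := by
  simp only [moduleStab, mem_inf, mem_stabilizer_iff]
  exact ⟨fun ⟨⟨a, b⟩, c⟩ => ⟨mem_centralizer_singleton_iff.1 a,
      fun e he => ((mem_centralizer_iff.1 b) e he).symm, c⟩,
    fun ⟨a, b, c⟩ => ⟨⟨mem_centralizer_singleton_iff.2 a,
      mem_centralizer_iff.2 fun e he => (b e he).symm.eq⟩, c⟩⟩

omit [Finite G] [Finite Ω] in
theorem commute_map_conj {a b g : G} (h : Commute a b) :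
    Commute (g * a * g⁻¹) (g * b * g⁻¹) := by
  simpa using h.map (MulAut.conj g)

omit [Finite Ω] in
/-- An element centralising `Z`, fixing `x` and moving `v` to `v z` normalises the centraliser of `v`
and `Z` at `x`. -/
theorem mem_normalizer_moduleStab {v s z : G} {Z : Subgroup G} {x : Ω} (hz : z ∈ Z)
    (hsZ : ∀ e ∈ Z, Commute s e) (hsx : s • x = x) (hsv : s * v * s⁻¹ = v * z) :
    s ∈ normalizer (moduleStab G v Z x : Set G) := by
  have hfwd : ∀ a ∈ moduleStab G v Z x, s * a * s⁻¹ ∈ moduleStab G v Z x := by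
    intro a ha
    obtain ⟨h1, h2, h3⟩ := mem_moduleStab.1 ha
    have hZ : ∀ e ∈ Z, Commute (s * a * s⁻¹) e := fun e he =>
      ((hsZ e he).mul_left (h2 e he)).mul_left (hsZ e he).inv_left
    refine mem_moduleStab.2 ⟨?_, hZ, by rw [mul_smul, mul_smul, inv_smul_eq_iff.2 hsx.symm, h3, hsx]⟩
    have h4 := commute_map_conj (g := s) h1
    rw [hsv] at h4
    simpa [mul_assoc] using h4.mul_right (hZ z hz).inv_right
  refine mem_normalizer_iff.2 fun a => ⟨hfwd a, fun ha => ?_⟩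
  have hbij : Function.Bijective fun g : moduleStab G v Z x =>
      (⟨s * g * s⁻¹, hfwd g g.2⟩ : moduleStab G v Z x) :=
    Finite.injective_iff_bijective.1 fun p q hpq => Subtype.ext (by
      simpa using congrArg Subtype.val hpq)
  obtain ⟨p, hp⟩ := hbij.2 ⟨_, ha⟩
  have := congrArg Subtype.val hp
  simp only [mul_left_inj, mul_right_inj] at this
  exact this ▸ p.2

/-- The 2-group of a line with its complement at `y`, invariant under `S`. -/
structure PairData (D : Set G) (v u : G) (x y : Ω) (Z S P Q T : Subgroup G) : Prop where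
  line : Line2 D v x Z Q
  pair : CubePair Q Z T u
  Q_le : Q ≤ P
  T_le : T ≤ P
  T_fix : ∀ t ∈ T, t • y = y
  decomp : ∀ p ∈ P, ∃ q ∈ Q, ∃ t ∈ T, p = q * t
  mem : ∀ p ∈ S, p ∈ moduleStab G v Z x → p ∈ P
  norm : S ≤ normalizer (P : Set G)
  isPGroup : IsPGroup 2 P
  le : P ≤ moduleStab G v Z x

theorem PairData.mapsPair {v u : G} {x y : Ω} {Z S P Q T : Subgroup G}
    (hd : PairData D v u x y Z S P Q T) {s : G} (hs : s ∈ S) : MapsPair Q T s := by
  intro q hq t ht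
  exact hd.decomp _ ((mem_normalizer_iff.1 (hd.norm hs) _).1 (mul_mem (hd.Q_le hq) (hd.T_le ht)))

/-- A line with data invariant under `S`. -/
theorem exists_pairData (h : Crit G Ω D) {v u : G} {x y : Ω} (hxy : x ≠ y) (hu : orderOf u = 2)
    (huv : Commute u v) (hux : u • x = x) (huy : u • y = y) (hvy : v • y = y) {Z Q₀ : Subgroup G}
    (hl₀ : Line2 D v x Z Q₀) (huZ : ∀ e ∈ Z, Commute u e)
    (hQ₀ : Nat.card Q₀ = Nat.card Z ^ 3)
    (hfix : Nat.card {p : Ω | v • p = p ∧ u • p = p} = Nat.card Z + 1) {S : Subgroup G}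
    (hS : IsPGroup 2 S) (huS : u ∈ S) (hSn : S ≤ normalizer (moduleStab G v Z x : Set G)) :
    ∃ P Q T : Subgroup G, PairData D v u x y Z S P Q T := by
  set M := moduleStab G v Z x with hM
  set L := lineGroup D v ⊓ stabilizer G x with hL
  obtain ⟨P, hPp, hPM, hSP, hmax, habs⟩ := exists_invariant_two_group hS hSn
  have hmem : ∀ p ∈ S, p ∈ M → p ∈ P := fun p hp hpM =>
    habs (S ⊓ M) (hS.to_le inf_le_left) inf_le_right (inf_le_left.trans hSP) ⟨hp, hpM⟩
  have hZP : Z ≤ P := by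
    refine habs Z (hl₀.isPGroup.to_le hl₀.E_le) (fun e he => ?_) fun e he => ?_
    · exact mem_moduleStab.2 ⟨line2_commute hl₀ (hl₀.E_le he),
        fun e' he' => hl₀.central e he e' (hl₀.E_le he'), line2_smul hl₀ (hl₀.E_le he)⟩
    · have hc : ∀ a ∈ P, Commute e a := fun a ha =>
        ((mem_moduleStab.1 (hPM ha)).2.1 e he).symm
      exact mem_normalizer_of_subset (fun a ha => by rwa [(hc a ha).eq, mul_inv_cancel_right])
        fun a ha => by rwa [mul_assoc, ← (hc a ha).eq, inv_mul_cancel_left]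
  set Q := P ⊓ L with hQ
  have hQp : IsPGroup 2 Q := hPp.to_le inf_le_left
  have hcard : Nat.card Q = Nat.card Q₀ := by
    refine le_antisymm ?_ ?_
    · obtain ⟨k, -, hk⟩ := hl₀.sylow Q hQp inf_le_right
      exact (Nat.le_of_dvd Nat.card_pos (card_dvd_of_le hk)).trans
        (Nat.card_congr (Subgroup.equivSMul (MulAut.conj k) Q₀).toEquiv).ge
    · -- `Q₀` lies in a conjugate of `P` in `M`
      have hQ₀M : Q₀ ≤ M := fun g hg => mem_moduleStab.2 ⟨line2_commute hl₀ hg,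
        fun e he => (hl₀.central e he g hg).symm, line2_smul hl₀ hg⟩
      have hPmax : ∀ P' : Subgroup G, IsPGroup 2 P' → P' ≤ M → P ≤ P' → P' ≤ P :=
        fun P' h1 h2 h3 => (eq_of_le_of_card_ge h3 (hmax P' h1 h2)).ge
      obtain ⟨k, hk, hkQ⟩ := exists_conj_le_of_maximal hPp hPM hPmax hl₀.isPGroup hQ₀M
      obtain ⟨hkv, hkZ, hkx⟩ := mem_moduleStab.1 hk
      refine Nat.card_le_card_of_injective (fun g : Q₀ => (⟨k * g * k⁻¹, hkQ g g.2, ?_⟩ : Q))
        fun a b hab => Subtype.ext (by simpa using congrArg Subtype.val hab)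
      refine ⟨?_, ?_⟩
      · have hgen : ∀ b ∈ lineGroup D v, k * b * k⁻¹ ∈ lineGroup D v := by
          intro b hb
          induction hb using Subgroup.closure_induction with
          | mem d hd =>
            refine mem_lineGroup (h.conj_mem hd.1 k) ?_
            exact (hkv.mul_left (mem_centralizer_singleton_iff.mp hd.2 : Commute d v)).mul_left
              hkv.inv_left
          | one => simp
          | mul a b _ _ iha ihb =>
            rw [show k * (a * b) * k⁻¹ = (k * a * k⁻¹) * (k * b * k⁻¹) by group]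
            exact mul_mem iha ihb
          | inv a _ iha =>
            rw [show k * a⁻¹ * k⁻¹ = (k * a * k⁻¹)⁻¹ by group]
            exact inv_mem iha
        exact hgen g (hl₀.Q_le g.2).1
      · exact mem_stabilizer_iff.2 (by
          rw [mul_smul, mul_smul, inv_smul_eq_iff.2 hkx.symm, line2_smul hl₀ g.2, hkx])
  obtain ⟨k, hk, hkQ⟩ := hl₀.sylow Q hQp inf_le_right
  have hQk : Q = MulAut.conj k • Q₀ := eq_of_le_of_card_ge hkQ (by
    rw [hcard, Nat.card_congr (Subgroup.equivSMul (MulAut.conj k) Q₀).toEquiv])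
  have hl' := line2_conj hl₀ h hk
  have hZE : Z = MulAut.conj k • Z := by
    refine eq_of_le_of_card_ge (fun e he => ?_)
      (Nat.card_congr (Subgroup.equivSMul (MulAut.conj k) Z).toEquiv).ge
    by_cases he1 : e = 1
    · rw [he1]; exact one_mem _
    · refine hl'.omega e ?_ (h.inv (line2_member hl₀ he he1).1)
      rw [← hQk]
      exact ⟨hZP he, hl₀.Q_le (hl₀.E_le he)⟩
  rw [← hZE, ← hQk] at hl'
  set T := P ⊓ stabilizer G y with hT
  have huP : u ∈ P := hmem u huS (mem_moduleStab.2 ⟨huv, huZ, hux⟩)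
  have hPL : ∀ p ∈ P, ∀ g ∈ Q, p * g * p⁻¹ ∈ Q := by
    intro p hp g hg
    obtain ⟨hpv, -, hpx⟩ := mem_moduleStab.1 (hPM hp)
    refine ⟨P.mul_mem (P.mul_mem hp hg.1) (P.inv_mem hp), ?_, ?_⟩
    · have hgen : ∀ b ∈ lineGroup D v, p * b * p⁻¹ ∈ lineGroup D v := by
        intro b hb
        induction hb using Subgroup.closure_induction with
        | mem d hd =>
          refine mem_lineGroup (h.conj_mem hd.1 p) ?_
          exact (hpv.mul_left (mem_centralizer_singleton_iff.mp hd.2 : Commute d v)).mul_left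
            hpv.inv_left
        | one => simp
        | mul a b _ _ iha ihb =>
          rw [show p * (a * b) * p⁻¹ = (p * a * p⁻¹) * (p * b * p⁻¹) by group]
          exact mul_mem iha ihb
        | inv a _ iha =>
          rw [show p * a⁻¹ * p⁻¹ = (p * a * p⁻¹)⁻¹ by group]
          exact inv_mem iha
      exact hgen g hg.2.1
    · exact mem_stabilizer_iff.2 (by
        rw [mul_smul, mul_smul, inv_smul_eq_iff.2 hpx.symm, line2_smul hl' hg, hpx])
  have huu := mul_self_of_orderOf_eq_two hu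
  have hCE : ∀ w : G, (∀ g ∈ Q, w * g * w⁻¹ ∈ Q) → (∀ e ∈ Z, Commute w e) →
      Nat.card ↥(Q ⊓ centralizer {w}) = Nat.card Z → ∀ g ∈ Q, Commute w g → g ∈ Z := by
    intro w _ hwZ hwc g hg hgw
    have hle : Z ≤ Q ⊓ centralizer {w} := fun e he =>
      ⟨hl'.E_le he, mem_centralizer_singleton_iff.2 (hwZ e he).symm.eq⟩
    rw [eq_of_le_of_card_ge hle hwc.le]
    exact ⟨hg, mem_centralizer_singleton_iff.2 hgw.symm.eq⟩
  have hcube : CubeGroup Q Z :=
    ⟨hl'.E_le, hl'.isPGroup, fun e he => line2_mul_self hl' h he, hl'.central, hl'.omega, hl'.sq_mem,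
      hcard.trans hQ₀, hl'.four_le⟩
  have hinv : CubeInvol Q Z u := by
    refine ⟨huu, fun g hg => hPL u huP g hg, huZ, hCE u (fun g hg => hPL u huP g hg) huZ ?_⟩
    have := line2_card_centralizer hl' (fun g hg => hPL u huP g hg) huv hux hvy hxy.symm huy
    rw [hfix] at this
    omega
  refine ⟨P, Q, T, hl', ⟨hcube, hinv, ⟨huP, mem_stabilizer_iff.2 huy⟩,
    fun t ht g hg => hPL t ht.1 g hg,
    fun t ht e he => (mem_moduleStab.1 (hPM ht.1)).2.1 e he,
    fun g hg hgT => hl'.free g hg y hvy hxy.symm hgT.2,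
    line2_nd hl' hvy hxy.symm (fun g hg => hPL u huP g hg) huu huv hux huy h hcube hinv,
    fun t ht htt => ?_⟩, inf_le_left, inf_le_left, fun t ht => ht.2, fun p hp => ?_, hmem, hSP,
    hPp, hPM⟩
  · by_cases hmove : ∃ g ∈ Q, ¬ Commute g t
    · obtain ⟨htv, htZ, htx⟩ := mem_moduleStab.1 (hPM ht.1)
      have hmap := fun g hg => hPL t ht.1 g hg
      refine Or.inr ⟨htt, hmap, htZ, hCE t hmap htZ ?_⟩
      exact (line2_centralizer_cases hl' hvy hxy.symm hmap htt htv htx ht.2 h hmove).2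
        fun e he => (htZ e he).symm
    · push Not at hmove
      exact Or.inl fun g hg => (hmove g hg).symm
  · obtain ⟨hpv, -, hpx⟩ := mem_moduleStab.1 (hPM hp)
    obtain ⟨q, hq, hqy⟩ := hl'.trans y (p • y) hvy (smul_fixed_of_commute hpv hvy) hxy.symm
      fun e => hxy (MulAction.injective p (e.trans hpx.symm)).symm
    exact ⟨q, hq, q⁻¹ * p, ⟨P.mul_mem (P.inv_mem hq.1) hp,
      mem_stabilizer_iff.2 (by rw [mul_smul, ← hqy, inv_smul_smul])⟩, by group⟩

omit [Finite Ω] in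
theorem isPGroup_zpowers_two {u : G} (hu : orderOf u = 2) : IsPGroup 2 (zpowers u) :=
  IsPGroup.of_card (n := 1) (by rw [Nat.card_zpowers, hu]; rfl)

/-- A cube line with given members. -/
theorem exists_cube_line (h : Crit G Ω D) (hL : HasLines2 Ω D) {v u : G} (hv : RankTwoBad Ω D v)
    (hu : orderOf u = 2) (huv : Commute u v) {x y : Ω} (hxy : x ≠ y) (hvx : v • x = x)
    (hvy : v • y = y) (hux : u • x = x) (huy : u • y = y) {r : ℕ} (hr : 4 ≤ r)
    (hfv : Nat.card (fixedBy Ω v) = r ^ 3 + 1)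
    (hf : Nat.card {p : Ω | v • p = p ∧ u • p = p} = r + 1) {S : Subgroup G} (hS : IsPGroup 2 S)
    (hSL : S ≤ lineGroup D v ⊓ stabilizer G x) (hSu : ∀ s ∈ S, Commute s u) :
    ∃ Z Q : Subgroup G, Line2 D v x Z Q ∧ S ≤ Z ∧ Nat.card Z = r ∧ (∀ e ∈ Z, Commute u e) ∧
      CubeGroup Q Z ∧ CubeInvol Q Z u := by
  have huu := mul_self_of_orderOf_eq_two hu
  obtain ⟨E₁, Q₁, hl₁⟩ := hL v x hv hvx
  set L := lineGroup D v ⊓ stabilizer G x with hLdef
  have huL : u ∈ normalizer (L : Set G) := by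
    have hgen : ∀ b ∈ lineGroup D v, u * b * u⁻¹ ∈ lineGroup D v := by
      intro b hb
      induction hb using Subgroup.closure_induction with
      | mem d hd =>
        refine mem_lineGroup (h.conj_mem hd.1 u) ?_
        exact (huv.mul_left (mem_centralizer_singleton_iff.mp hd.2 : Commute d v)).mul_left
          huv.inv_left
      | one => simp
      | mul a b _ _ iha ihb =>
        rw [show u * (a * b) * u⁻¹ = (u * a * u⁻¹) * (u * b * u⁻¹) by group]
        exact mul_mem iha ihb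
      | inv a _ iha =>
        rw [show u * a⁻¹ * u⁻¹ = (u * a * u⁻¹)⁻¹ by group]
        exact inv_mem iha
    have hfwd : ∀ a ∈ L, u * a * u⁻¹ ∈ L := fun a ha => ⟨hgen a ha.1, mem_stabilizer_iff.2 (by
      rw [mul_smul, mul_smul, inv_smul_eq_iff.2 hux.symm, mem_stabilizer_iff.1 ha.2, hux])⟩
    refine mem_normalizer_of_subset hfwd fun a ha => ?_
    rw [inv_eq_of_mul_eq_one_left huu]
    have := hfwd a ha
    rwa [inv_eq_of_mul_eq_one_left huu] at this
  have hS₀ : IsPGroup 2 ↥(S ⊔ zpowers u) := isPGroup_sup hS (isPGroup_zpowers_two hu)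
    (zpowers_le.2 (mem_normalizer_of_subset
      (fun a ha => by rwa [(hSu a ha).symm.eq, mul_inv_cancel_right])
      fun a ha => by rwa [mul_assoc, (hSu a ha).eq, inv_mul_cancel_left]))
  have hS₀n : S ⊔ zpowers u ≤ normalizer (L : Set G) :=
    sup_le (hSL.trans Subgroup.le_normalizer) (zpowers_le.2 huL)
  obtain ⟨P, hPp, hPL, hS₀P, hmax, habs⟩ := exists_invariant_two_group hS₀ hS₀n
  have hSP : S ≤ P := habs S hS hSL (le_sup_left.trans hS₀P)
  obtain ⟨k, hk, hkP⟩ := hl₁.sylow P hPp hPL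
  have hPk : P = MulAut.conj k • Q₁ := eq_of_le_of_card_ge hkP (by
    rw [← Nat.card_congr (Subgroup.equivSMul (MulAut.conj k) Q₁).toEquiv]
    exact hmax Q₁ hl₁.isPGroup hl₁.Q_le)
  have hl := line2_conj hl₁ h hk
  rw [← hPk] at hl
  set Z : Subgroup G := MulAut.conj k • E₁
  have huP : ∀ g ∈ P, u * g * u⁻¹ ∈ P := fun g hg =>
    (mem_normalizer_iff.1 (hS₀P (mem_sup_right (mem_zpowers u))) g).1 hg
  have hcC := line2_card_centralizer hl huP huv hux hvy hxy.symm huy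
  rw [hf] at hcC
  have hcC' : Nat.card ↥(P ⊓ centralizer {u}) = r := by omega
  have hcQ : Nat.card P = r ^ 3 := by
    have := line2_card_Q hl hvy hxy.symm
    rw [hfv] at this
    omega
  have hr3 : r ^ 2 < r ^ 3 := Nat.pow_lt_pow_right (by omega) (by norm_num)
  have hr2 : r ≤ r ^ 2 := Nat.le_self_pow (by norm_num) r
  have hmove : ∃ g ∈ P, ¬ Commute g u := by
    by_contra hall
    push Not at hall
    have hle : P ≤ P ⊓ centralizer {u} := fun g hg =>
      ⟨hg, mem_centralizer_singleton_iff.2 (hall g hg).eq⟩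
    have := Nat.le_of_dvd Nat.card_pos (card_dvd_of_le hle)
    omega
  obtain ⟨hsq | ⟨hcomm, hcE, hcube⟩, -⟩ :=
    line2_centralizer_cases hl hvy hxy.symm huP huu huv hux huy h hmove
  · rw [hcC', hcQ] at hsq
    omega
  have hZr : Nat.card Z = r := hcE.symm.trans hcC'
  have hCle : Z = P ⊓ centralizer {u} :=
    eq_of_le_of_card_ge (fun e he => ⟨hl.E_le he, mem_centralizer_singleton_iff.2 (hcomm e he).eq⟩)
      hcE.le
  refine ⟨Z, P, hl, fun s hs => ?_, hZr, fun e he => (hcomm e he).symm,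
    ⟨hl.E_le, hl.isPGroup, fun e he => line2_mul_self hl h he, hl.central, hl.omega, hl.sq_mem,
      hcube, hl.four_le⟩,
    ⟨huu, huP, fun e he => (hcomm e he).symm, fun g hg hgu => ?_⟩⟩
  · rw [hCle]; exact ⟨hSP hs, mem_centralizer_singleton_iff.2 (hSu s hs).eq⟩
  · rw [hCle]; exact ⟨hg, mem_centralizer_singleton_iff.2 hgu.symm.eq⟩

omit [Finite Ω] in
/-- Every element of `E` is the square of an element inverted by the involution. -/
theorem exists_inverted_sqrt {Q E : Subgroup G} {u : G} (hQ : CubeGroup Q E)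
    (hu : CubeInvol Q E u) {z : G} (hz : z ∈ E) :
    ∃ g ∈ Q, u * g * u⁻¹ = g⁻¹ ∧ g * g = z := by
  classical
  obtain ⟨K, M, hK, hM, hKM⟩ := exists_preimage hQ.E_le hQ.central hQ.sq_mem hu.map
  have hK' : ∀ g, g ∈ K ↔ g ∈ Q ∧ u * g * u⁻¹ = g⁻¹ := fun g =>
    (hK g).trans (and_congr_right fun hg => (CubeInvol.inverted_iff hQ hu hg).symm)
  have hMK : M ≤ K := by
    intro a ha
    obtain ⟨haQ, h', hh, he⟩ := (hM a).1 ha
    obtain ⟨e, he', rfl⟩ : ∃ e ∈ E, a = beta u h' * e := ⟨(beta u h')⁻¹ * a, he, by group⟩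
    refine (hK' _).2 ⟨haQ, ?_⟩
    rw [show u * (beta u h' * e) * u⁻¹ = (u * beta u h' * u⁻¹) * (u * e * u⁻¹) by group,
      CubeInvol.conj_beta hQ hu h', CubeInvol.mem_inverted_of_mem hQ hu he', mul_inv_rev]
    exact (hQ.central e he' _ (CubeInvol.beta_mem_Q hu hh)).inv_inv.eq.symm
  let sq : K → E := fun k => ⟨(k : G) * k, hQ.sq_mem _ ((hK' _).1 k.2).1⟩
  haveI := Fintype.ofFinite K
  haveI := Fintype.ofFinite E
  by_contra hno
  push Not at hno
  have hfib : ∀ e : E, (Finset.univ.filter fun k : K => sq k = e).card ≤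
      if (e : G) = z then 0 else Nat.card E := by
    intro e
    split
    · rename_i hez
      refine le_of_eq (Finset.card_eq_zero.2 (Finset.filter_eq_empty_iff.2 fun k _ hk => ?_))
      exact hno k ((hK' _).1 k.2).1 ((hK' _).1 k.2).2
        ((congrArg Subtype.val hk).trans hez)
    · by_cases hex : (Finset.univ.filter fun k : K => sq k = e).Nonempty
      · obtain ⟨k₀, hk₀⟩ := hex
        rw [← Fintype.card_coe, ← Nat.card_eq_fintype_card]
        refine Nat.card_le_card_of_injective (fun k => (⟨(k₀ : G)⁻¹ * (k.1 : G), ?_⟩ : E))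
          fun a b hab => Subtype.ext (Subtype.ext (by simpa using congrArg Subtype.val hab))
        refine CubeInvol.mem_of_sq_eq hQ hu ((hK' _).1 k.1.2).1 ((hK' _).1 k₀.2).1
          ((hK' _).1 k.1.2).2 ((hK' _).1 k₀.2).2 ?_
        exact congrArg Subtype.val (((Finset.mem_filter.1 k.2).2).trans
          (Finset.mem_filter.1 hk₀).2.symm)
      · rw [Finset.not_nonempty_iff_eq_empty.1 hex, Finset.card_empty]; exact Nat.zero_le _
  have hKlt : Nat.card K < Nat.card E * Nat.card E := by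
    rw [Nat.card_eq_fintype_card (α := K), ← Finset.card_univ,
      Finset.card_eq_sum_card_fiberwise (f := sq) (t := Finset.univ) (fun k _ => Finset.mem_univ _)]
    calc ∑ e : E, (Finset.univ.filter fun k : K => sq k = e).card
        ≤ ∑ e : E, if (e : G) = z then 0 else Nat.card E := Finset.sum_le_sum fun e _ => hfib e
      _ < ∑ _e : E, Nat.card E :=
          Finset.sum_lt_sum (fun e _ => by split <;> simp) ⟨⟨z, hz⟩, Finset.mem_univ _, by
            rw [if_pos rfl]; exact Nat.card_pos⟩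
      _ = _ := by rw [Finset.sum_const, Finset.card_univ, ← Nat.card_eq_fintype_card, smul_eq_mul]
  have hMle : Nat.card M ≤ Nat.card K := Nat.le_of_dvd Nat.card_pos (card_dvd_of_le hMK)
  have h1 : Nat.card K * Nat.card M ≤ Nat.card K * Nat.card K := Nat.mul_le_mul_left _ hMle
  rw [hKM, hQ.card_eq] at h1
  have h2 : Nat.card K * Nat.card K < (Nat.card E * Nat.card E) * (Nat.card E * Nat.card E) :=
    Nat.mul_lt_mul_of_lt_of_le hKlt hKlt.le (Nat.mul_pos Nat.card_pos Nat.card_pos)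
  have h3 : Nat.card E ^ 3 * Nat.card E = (Nat.card E * Nat.card E) * (Nat.card E * Nat.card E) := by
    ring
  omega

omit [Finite Ω] in
/-- Conjugates of elements trivial on `Q / E`. -/
theorem trivMod_conj {Q E : Subgroup G} {u b : G} (hI : CubeInvol Q E u) (hu : u⁻¹ = u)
    (hb : TrivMod Q E b) : TrivMod Q E (u * b * u⁻¹) := by
  intro g hg
  set k := u⁻¹ * g * u with hk
  have hkQ : k ∈ Q := by
    have := hI.map g hg
    rw [hu] at this
    rwa [hk, hu]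
  have h1 := hb k hkQ
  rw [show g⁻¹ * (u * b * u⁻¹ * g * (u * b * u⁻¹)⁻¹) = u * (k⁻¹ * (b * k * b⁻¹)) * u⁻¹ by
    rw [hk]; group, (hI.comm _ h1).eq, mul_inv_cancel_right]
  exact h1

section Main

variable {u v : G} {x y : Ω} {Z Kv Kw : Subgroup G}

/-- What the two lines give for one element `s` inverted by `v`. -/
theorem moves_iff_trivMod {S S₁ Pv Qv Tv Pw Qw Tw : Subgroup G}
    (hxy : x ≠ y) (hwy : (u * v) • y = y) (hdv : PairData D v u x y Z S Pv Qv Tv)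
    (hdw : PairData D (u * v) u x y Z S₁ Pw Qw Tw) {s g : G} (hs : s ∈ S)
    (hsu : Commute s u) (hsZ : ∀ e ∈ Z, Commute s e) (hgQ : g ∈ Qv)
    (hgu : u * g * u⁻¹ = g⁻¹) (hgg : g * g = s * s) (hg1 : g * g ≠ 1)
    (hp : s * g ∈ Pw) :
    Moves Qv Z Tv u s ↔ TrivMod Qw Z (s * g) := by
  have hu := CubeInvol.inv_eq hdv.pair.cube hdv.pair.invol
  set a := g * g with ha
  have haZ : a ∈ Z := hdv.pair.cube.sq_mem g hgQ
  obtain ⟨z, hz, r, hr, himg, hrc, hF, hMv⟩ :=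
    hdv.pair.image_inverted hsu hsZ (hdv.mapsPair hs) hgQ hgu
  set p := s * g with hpdef
  have hupu : u * p * u⁻¹ = p * a := by
    rw [hpdef, show u * (s * g) * u⁻¹ = (u * s * u⁻¹) * (u * g * u⁻¹) by group, hgu,
      hsu.symm.eq, mul_inv_cancel_right, mul_assoc, ha]
    congr 1
    calc g⁻¹ = g⁻¹ * ((g * g) * (g * g)) := by rw [hdv.pair.cube.mul_self _ haZ, mul_one]
      _ = _ := by group
  have hp2 : p * p = z * r := by
    have hca : Commute a g := (Commute.refl g).mul_left (Commute.refl g)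
    calc p * p = (s * g * s⁻¹) * ((s * s) * g) := by rw [hpdef]; group
      _ = (g * z * r) * (g * g * g) := by rw [himg, ← hgg, ha]
      _ = g * z * (r * (g * g * g)) := by group
      _ = g * z * ((g * g * g) * r) := by
          rw [(hrc _ (mul_mem (mul_mem hgQ hgQ) hgQ)).eq]
      _ = g * (z * (g * g * g)) * r := by group
      _ = g * ((g * g * g) * z) * r := by
          rw [(hdv.pair.cube.central z hz _ (mul_mem (mul_mem hgQ hgQ) hgQ)).eq]
      _ = (g * g) * (g * g) * (z * r) := by group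
      _ = z * r := by rw [hdv.pair.cube.mul_self _ haZ, one_mul]
  obtain ⟨k, hk, t, ht, hkt⟩ := hdw.decomp p hp
  have hiu := hdw.pair.invol
  have hcmp : ∀ c ∈ Z, ∀ r' ∈ Tw, z * r = c * r' → z = c := by
    intro c hc r' hr' he
    have h1 : z • y = c • y := by
      have := congrArg (fun g : G => g • y) he
      simp only [mul_smul, hdv.T_fix r hr, hdw.T_fix r' hr'] at this
      exact this
    have h2 := hdw.line.free (c⁻¹ * z) (hdw.line.E_le (mul_mem (inv_mem hc) hz)) y hwy hxy.symm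
      (by rw [mul_smul, h1, inv_smul_smul])
    exact (inv_mul_eq_one.1 h2).symm
  have hcases := hdw.pair.sq_cases hk ht haZ (by rw [← hkt]; exact hupu)
  rw [← hkt] at hcases
  rcases hcases with ⟨htr, r', hr', e⟩ | ⟨htr, r', hr', e⟩
  · refine ⟨fun _ => htr, fun _ => ?_⟩
    rcases hdv.pair.fixes_or_moves hsu hsZ (hdv.mapsPair hs) with hF' | hM'
    · exact absurd ((hF hF').symm.trans (hcmp a haZ r' hr' (hp2.symm.trans e))).symm hg1
    · exact hM'
  · constructor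
    · intro hM'
      exact absurd ((hMv hM').symm.trans (hcmp 1 (one_mem Z) r' hr' (hp2.symm.trans e))) hg1
    · intro htp
      exfalso
      have hpZ : ∀ c ∈ Z, Commute p c := fun c hc => (mem_moduleStab.1 (hdw.le hp)).2.1 c hc
      refine hdw.pair.not_trivMod_u ?_
      have hpQ : ∀ q ∈ Qw, p⁻¹ * q * p ∈ Qw := fun q hq => by
        rw [hkt, show (k * t)⁻¹ * q * (k * t) = t⁻¹ * (k⁻¹ * q * k) * t⁻¹⁻¹ by group]
        exact hdw.pair.map _ (inv_mem ht) _ (mul_mem (mul_mem (inv_mem hk) hq) hk)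
      have := hdw.pair.trivMod_mul (hdw.pair.trivMod_inv htp hpZ hpQ) htr
        fun c hc => (hpZ c hc).inv_left
      rwa [inv_mul_cancel_left] at this

/-- **No four group with three cube lines.** -/
theorem false_of_three_cubes (h : Crit G Ω D) (hL : HasLines2 Ω D) (hu : RankTwoBad Ω D u)
    (hv : RankTwoBad Ω D v) (hw : RankTwoBad Ω D (u * v)) (huv : Commute u v) (hxy : x ≠ y)
    (hux : u • x = x) (huy : u • y = y) (hvx : v • x = x) (hvy : v • y = y) {r : ℕ} (hr : 4 ≤ r)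
    (hfu : Nat.card (fixedBy Ω u) = r ^ 3 + 1) (hfv : Nat.card (fixedBy Ω v) = r ^ 3 + 1)
    (hfw : Nat.card (fixedBy Ω (u * v)) = r ^ 3 + 1)
    (hf : Nat.card {p : Ω | u • p = p ∧ v • p = p} = r + 1) : False := by
  have huu := mul_self_of_orderOf_eq_two hu.1
  have hvv := mul_self_of_orderOf_eq_two hv.1
  have hui : u⁻¹ = u := inv_eq_of_mul_eq_one_left huu
  have huw : Commute u (u * v) := (Commute.refl u).mul_right huv
  have hwx : (u * v) • x = x := by rw [mul_smul, hvx, hux]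
  have hwy : (u * v) • y = y := by rw [mul_smul, hvy, huy]
  have hset1 : {p : Ω | v • p = p ∧ u • p = p} = {p : Ω | u • p = p ∧ v • p = p} := by
    ext p; exact and_comm
  have hset2 : {p : Ω | (u * v) • p = p ∧ u • p = p} = {p : Ω | u • p = p ∧ v • p = p} := by
    ext p
    simp only [Set.mem_ofPred_eq]
    constructor
    · rintro ⟨h1, h2⟩
      rw [mul_smul] at h1
      exact ⟨h2, MulAction.injective u (h1.trans h2.symm)⟩
    · rintro ⟨h1, h2⟩
      exact ⟨by rw [mul_smul, h2, h1], h1⟩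
  -- the three lines with a common `Z`
  obtain ⟨Z, Qv₀, hlv, -, hZ, huZ, hcv, -⟩ := exists_cube_line h hL hv hu.1 huv hxy hvx hvy hux huy
    hr hfv (hset1 ▸ hf) (S := ⊥) IsPGroup.of_bot bot_le (fun s hs => by
      rw [Subgroup.mem_bot.1 hs]; exact Commute.one_left u)
  have hvZ : ∀ e ∈ Z, Commute e v := fun e he => line2_commute hlv (hlv.E_le he)
  have hZp : IsPGroup 2 Z := hlv.isPGroup.to_le hlv.E_le
  have hZline : ∀ w : G, (∀ e ∈ Z, Commute e w) → Z ≤ lineGroup D w ⊓ stabilizer G x := by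
    intro w hwZ e he
    refine ⟨?_, mem_stabilizer_iff.2 (line2_smul hlv (hlv.E_le he))⟩
    by_cases he1 : e = 1
    · rw [he1]; exact one_mem _
    · exact mem_lineGroup (line2_member hlv he he1).1 (hwZ e he)
  have hwZ : ∀ e ∈ Z, Commute e (u * v) := fun e he => (huZ e he).symm.mul_right (hvZ e he)
  obtain ⟨Z₁, Qu, hlu, hle₁, hZ₁, -, hcu, hiu⟩ := exists_cube_line h hL hu hv.1 huv.symm hxy hux huy
    hvx hvy hr hfu hf hZp (hZline u fun e he => (huZ e he).symm) hvZ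
  obtain rfl : Z = Z₁ := eq_of_le_of_card_ge hle₁ (by rw [hZ, hZ₁])
  obtain ⟨Z₂, Qw₀, hlw, hle₂, hZ₂, -, hcw, -⟩ := exists_cube_line h hL hw hu.1 huw hxy hwx hwy hux
    huy hr hfw (hset2 ▸ hf) hZp (hZline _ hwZ) fun e he => (huZ e he).symm
  obtain rfl : Z = Z₂ := eq_of_le_of_card_ge hle₂ (by rw [hZ, hZ₂])
  -- the elements inverted by `v` in the line of `u`
  obtain ⟨Ku, hKu⟩ := CubeInvol.exists_inverted hcu hiu
  have hKuu : ∀ s ∈ Ku, Commute s u := fun s hs => line2_commute hlu ((hKu s).1 hs).1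
  have hKuZ : ∀ s ∈ Ku, ∀ e ∈ Z, Commute s e := fun s hs e he =>
    (hcu.central e he s ((hKu s).1 hs).1).symm
  have hKux : ∀ s ∈ Ku, s • x = x := fun s hs => line2_smul hlu ((hKu s).1 hs).1
  have hsv : ∀ s ∈ Ku, s * v * s⁻¹ = v * (s * s) := by
    intro s hs
    calc s * v * s⁻¹ = v * (v⁻¹ * s * v⁻¹⁻¹) * s⁻¹ := by group
      _ = v * s⁻¹ * s⁻¹ := by
          rw [inv_eq_of_mul_eq_one_left hvv, inv_eq_of_mul_eq_one_left hvv]
          have := ((hKu s).1 hs).2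
          rw [inv_eq_of_mul_eq_one_left hvv] at this
          rw [this]
      _ = v * (s * s) * ((s * s) * (s * s))⁻¹ := by group
      _ = _ := by rw [hcu.mul_self _ (hcu.sq_mem s ((hKu s).1 hs).1), inv_one, mul_one]
  set S := Ku ⊔ zpowers u with hSdef
  have hKup : IsPGroup 2 Ku := hcu.isPGroup.to_le fun s hs => ((hKu s).1 hs).1
  have hSp : IsPGroup 2 S := isPGroup_sup hKup (isPGroup_zpowers_two hu.1)
    (zpowers_le.2 (mem_normalizer_of_subset
      (fun a ha => by rwa [(hKuu a ha).symm.eq, mul_inv_cancel_right])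
      fun a ha => by rwa [mul_assoc, (hKuu a ha).eq, inv_mul_cancel_left]))
  have huS : u ∈ S := mem_sup_right (mem_zpowers u)
  have huM : u ∈ moduleStab G v Z x := mem_moduleStab.2 ⟨huv, huZ, hux⟩
  have hSn : S ≤ normalizer (moduleStab G v Z x : Set G) :=
    sup_le (fun s hs => mem_normalizer_moduleStab (hcu.sq_mem s ((hKu s).1 hs).1) (hKuZ s hs)
      (hKux s hs) (hsv s hs)) (zpowers_le.2 (Subgroup.le_normalizer huM))
  obtain ⟨Pv, Qv, Tv, hdv⟩ := exists_pairData h hxy hu.1 huv hux huy hvy hlv huZ hcv.card_eq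
    (by rw [hset1, hf, hZ]) hSp huS hSn
  -- the group moving `w`
  set S₁ := (Pv ⊔ S) ⊓ normalizer (moduleStab G (u * v) Z x : Set G) with hS₁def
  have hS₁p : IsPGroup 2 S₁ := (isPGroup_sup hdv.isPGroup hSp hdv.norm).to_le inf_le_left
  have hvcu : ∀ g ∈ Qv, Commute g v := fun g hg => line2_commute hdv.line hg
  have hQvx : ∀ g ∈ Qv, g • x = x := fun g hg => line2_smul hdv.line hg
  have huwM : u ∈ moduleStab G (u * v) Z x := mem_moduleStab.2 ⟨huw, huZ, hux⟩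
  have huS₁ : u ∈ S₁ := ⟨mem_sup_right huS, Subgroup.le_normalizer huwM⟩
  have hKuS₁ : ∀ s ∈ Ku, s ∈ S₁ := fun s hs => ⟨mem_sup_right (mem_sup_left hs),
    mem_normalizer_moduleStab (hcu.sq_mem s ((hKu s).1 hs).1) (hKuZ s hs) (hKux s hs) (by
      rw [show s * (u * v) * s⁻¹ = (s * u * s⁻¹) * (s * v * s⁻¹) by group, hsv s hs,
        (hKuu s hs).eq, mul_inv_cancel_right, mul_assoc])⟩
  have hgv : ∀ g ∈ Qv, u * g * u⁻¹ = g⁻¹ → g * (u * v) * g⁻¹ = (u * v) * (g * g) := by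
    intro g hg hgu
    have hgg : u * g * u⁻¹ = g * (g * g) := by
      rw [hgu]
      calc g⁻¹ = g⁻¹ * ((g * g) * (g * g)) := by
            rw [hdv.pair.cube.mul_self _ (hdv.pair.cube.sq_mem g hg), mul_one]
        _ = _ := by group
    have hc : Commute (g * g) v := (hvcu g hg).mul_left (hvcu g hg)
    have h1 : g * u * g⁻¹ = u * (g * g) := by
      calc g * u * g⁻¹ = u * (u⁻¹ * g * u⁻¹⁻¹) * g⁻¹ := by group
        _ = u * (u * g * u⁻¹) * g⁻¹ := by rw [hui, hui]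
        _ = u * (g * (g * g)) * g⁻¹ := by rw [hgg]
        _ = _ := by group
    calc g * (u * v) * g⁻¹ = (g * u * g⁻¹) * (g * v * g⁻¹) := by group
      _ = u * (g * g) * v := by rw [h1, (hvcu g hg).eq, mul_inv_cancel_right]
      _ = _ := by rw [mul_assoc, hc.eq, mul_assoc]
  obtain ⟨Pw, Qw, Tw, hdw⟩ := exists_pairData h hxy hu.1 huw hux huy hwy hlw huZ hcw.card_eq
    (by rw [hset2, hf, hZ]) hS₁p huS₁ inf_le_right
  -- the elements `p`
  have hprep : ∀ s ∈ Ku, ∀ g ∈ Qv, u * g * u⁻¹ = g⁻¹ → g * g = s * s → s * g ∈ Pw := by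
    intro s hs g hg hgu hgg
    have hgS : g ∈ S₁ := ⟨mem_sup_left (hdv.Q_le hg), mem_normalizer_moduleStab
      (hdv.pair.cube.sq_mem g hg) (fun e he => (hdv.pair.cube.central e he g hg).symm) (hQvx g hg)
      (hgv g hg hgu)⟩
    refine hdw.mem (s * g) (mul_mem (hKuS₁ s hs) hgS) (mem_moduleStab.2 ⟨?_, fun e he =>
      (hKuZ s hs e he).mul_left (hdv.pair.cube.central e he g hg).symm,
      by rw [mul_smul, hQvx g hg, hKux s hs]⟩)
    have haZ : g * g ∈ Z := hdv.pair.cube.sq_mem g hg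
    have hsw : s * (u * v) * s⁻¹ = (u * v) * (s * s) := by
      rw [show s * (u * v) * s⁻¹ = (s * u * s⁻¹) * (s * v * s⁻¹) by group, hsv s hs,
        (hKuu s hs).eq, mul_inv_cancel_right, mul_assoc]
    refine mul_inv_eq_iff_eq_mul.1 ?_
    rw [show s * g * (u * v) * (s * g)⁻¹ = s * (g * (u * v) * g⁻¹) * s⁻¹ by group, hgv g hg hgu,
      show s * (u * v * (g * g)) * s⁻¹ = (s * (u * v) * s⁻¹) * (s * (g * g) * s⁻¹) by group, hsw,
      (hKuZ s hs _ haZ).eq, mul_inv_cancel_right, ← hgg, mul_assoc,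
      hdv.pair.cube.mul_self _ haZ, mul_one]
  -- three elements
  obtain ⟨z₁, hz₁, hz₁1⟩ : ∃ z ∈ Z, z ≠ 1 := by
    obtain ⟨b, hb, hb1, -⟩ := line2_exists_ne hlv (a := (1 : G))
    exact ⟨b, hb, hb1⟩
  obtain ⟨z₂, hz₂, hz₂1, hz₂z⟩ := line2_exists_ne hlv (a := z₁)
  obtain ⟨s₁, hs₁Q, hs₁v, hs₁s⟩ := exists_inverted_sqrt hcu hiu hz₁
  obtain ⟨s₂, hs₂Q, hs₂v, hs₂s⟩ := exists_inverted_sqrt hcu hiu hz₂
  obtain ⟨g₁, hg₁Q, hg₁u, hg₁s⟩ := exists_inverted_sqrt hdv.pair.cube hdv.pair.invol hz₁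
  obtain ⟨g₂, hg₂Q, hg₂u, hg₂s⟩ := exists_inverted_sqrt hdv.pair.cube hdv.pair.invol hz₂
  have hs₁ : s₁ ∈ Ku := (hKu _).2 ⟨hs₁Q, hs₁v⟩
  have hs₂ : s₂ ∈ Ku := (hKu _).2 ⟨hs₂Q, hs₂v⟩
  have hs₃ : s₁ * s₂ ∈ Ku := mul_mem hs₁ hs₂
  have hs₁₂ : Commute s₁ s₂ := CubeInvol.commute_of_inverted hcu hiu hs₁Q hs₂Q hs₁v hs₂v
  have hg₁₂ : Commute g₁ g₂ :=
    CubeInvol.commute_of_inverted hdv.pair.cube hdv.pair.invol hg₁Q hg₂Q hg₁u hg₂u
  have hg₃u : u * (g₁ * g₂) * u⁻¹ = (g₁ * g₂)⁻¹ := by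
    rw [show u * (g₁ * g₂) * u⁻¹ = (u * g₁ * u⁻¹) * (u * g₂ * u⁻¹) by group, hg₁u, hg₂u]
    exact hg₁₂.inv_inv.eq.trans (mul_inv_rev g₁ g₂).symm
  have hg₃s : g₁ * g₂ * (g₁ * g₂) = z₁ * z₂ := by
    rw [hg₁₂.symm.mul_mul_mul_comm, hg₁s, hg₂s]
  have hs₃s : s₁ * s₂ * (s₁ * s₂) = z₁ * z₂ := by
    rw [hs₁₂.symm.mul_mul_mul_comm, hs₁s, hs₂s]
  have hz₃ : z₁ * z₂ ≠ 1 := fun e => hz₂z (by
    rw [eq_inv_of_mul_eq_one_right e, inv_eq_of_mul_eq_one_left (line2_mul_self hlv h hz₁)])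
  have hgg₁ : g₁ * g₁ = s₁ * s₁ := hg₁s.trans hs₁s.symm
  have hgg₂ : g₂ * g₂ = s₂ * s₂ := hg₂s.trans hs₂s.symm
  have hgg₃ : g₁ * g₂ * (g₁ * g₂) = s₁ * s₂ * (s₁ * s₂) := hg₃s.trans hs₃s.symm
  set p₁ := s₁ * g₁ with hp₁def
  set p₂ := s₂ * g₂ with hp₂def
  set p₃ := s₁ * s₂ * (g₁ * g₂) with hp₃def
  have hp₁ : p₁ ∈ Pw := hprep s₁ hs₁ g₁ hg₁Q hg₁u hgg₁
  have hp₂ : p₂ ∈ Pw := hprep s₂ hs₂ g₂ hg₂Q hg₂u hgg₂
  have hp₃ : p₃ ∈ Pw := hprep _ hs₃ _ (mul_mem hg₁Q hg₂Q) hg₃u hgg₃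
  have hKS : ∀ s ∈ Ku, s ∈ S := fun s hs => mem_sup_left hs
  have i₁ := moves_iff_trivMod hxy hwy hdv hdw (hKS _ hs₁) (hKuu _ hs₁) (hKuZ _ hs₁) hg₁Q hg₁u
    hgg₁ (by rw [hg₁s]; exact hz₁1) hp₁
  have i₂ := moves_iff_trivMod hxy hwy hdv hdw (hKS _ hs₂) (hKuu _ hs₂) (hKuZ _ hs₂) hg₂Q hg₂u
    hgg₂ (by rw [hg₂s]; exact hz₂1) hp₂
  have i₃ := moves_iff_trivMod hxy hwy hdv hdw (hKS _ hs₃) (hKuu _ hs₃) (hKuZ _ hs₃)
    (mul_mem hg₁Q hg₂Q) hg₃u hgg₃ (by rw [hg₃s]; exact hz₃) hp₃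
  have hmul := hdv.pair.moves_mul_iff (hKuu _ hs₁) (hKuZ _ hs₁) (hdv.mapsPair (hKS _ hs₁))
    (hKuu _ hs₂) (hKuZ _ hs₂) (hdv.mapsPair (hKS _ hs₂))
  rw [i₁, i₂, i₃] at hmul
  -- triviality is multiplicative
  have hPw := hdw.pair
  have hwu' := CubeInvol.inv_eq hPw.cube hPw.invol
  have hPwQ : ∀ p ∈ Pw, (∀ q ∈ Qw, p⁻¹ * q * p ∈ Qw) ∧ ∀ c ∈ Z, Commute p c := by
    intro p hp
    refine ⟨fun q hq => ?_, (mem_moduleStab.1 (hdw.le hp)).2.1⟩
    obtain ⟨k, hk, t, ht, rfl⟩ := hdw.decomp p hp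
    rw [show (k * t)⁻¹ * q * (k * t) = t⁻¹ * (k⁻¹ * q * k) * t⁻¹⁻¹ by group]
    exact hPw.map _ (inv_mem ht) _ (mul_mem (mul_mem (inv_mem hk) hq) hk)
  have hinvT : ∀ p ∈ Pw, TrivMod Qw Z p → TrivMod Qw Z p⁻¹ := fun p hp hT =>
    hPw.trivMod_inv hT (hPwQ p hp).2 (hPwQ p hp).1
  have hmulT : ∀ p ∈ Pw, ∀ q : G, TrivMod Qw Z p → TrivMod Qw Z q → TrivMod Qw Z (p * q) :=
    fun p hp q hT hT' => hPw.trivMod_mul hT hT' (hPwQ p hp).2
  have huPw : u ∈ Pw := hdw.mem u huS₁ huwM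
  have hor : ∀ s ∈ Ku, ∀ g ∈ Qv, u * g * u⁻¹ = g⁻¹ → g * g = s * s →
      s * g ∈ Pw → (TrivMod Qw Z (s * g) ∨ TrivMod Qw Z (s * g * u)) ∧
        u * (s * g) * u⁻¹ = (s * g) * (g * g) := by
    intro s hs g hg hgu hgg hp
    have haZ : g * g ∈ Z := hdv.pair.cube.sq_mem g hg
    have hupu : u * (s * g) * u⁻¹ = (s * g) * (g * g) := by
      rw [show u * (s * g) * u⁻¹ = (u * s * u⁻¹) * (u * g * u⁻¹) by group, hgu,
        (hKuu s hs).symm.eq, mul_inv_cancel_right, mul_assoc]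
      congr 1
      calc g⁻¹ = g⁻¹ * ((g * g) * (g * g)) := by rw [hdv.pair.cube.mul_self _ haZ, mul_one]
        _ = _ := by group
    obtain ⟨k, hk, t, ht, hkt⟩ := hdw.decomp _ hp
    refine ⟨?_, hupu⟩
    rcases hPw.sq_cases hk ht haZ (by rw [← hkt]; exact hupu) with ⟨e, -⟩ | ⟨e, -⟩
    · exact Or.inl (hkt ▸ e)
    · exact Or.inr (hkt ▸ e)
  obtain ⟨o₁, hu₁⟩ := hor s₁ hs₁ g₁ hg₁Q hg₁u hgg₁ hp₁
  obtain ⟨o₂, hu₂⟩ := hor s₂ hs₂ g₂ hg₂Q hg₂u hgg₂ hp₂
  rw [← hp₁def] at o₁ hu₁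
  rw [← hp₂def] at o₂ hu₂
  set σ := s₂⁻¹ with hσdef
  have hσK : σ ∈ Ku := inv_mem hs₂
  set c := g₁⁻¹ * (σ * g₁ * σ⁻¹) with hc
  have hσp : σ * p₁ * σ⁻¹ ∈ Pw :=
    (mem_normalizer_iff.1 (hdw.norm (hKuS₁ _ hσK)) p₁).1 hp₁
  have hcp : c = p₁⁻¹ * (σ * p₁ * σ⁻¹) := by
    have hcs : Commute σ s₁ := hs₁₂.symm.inv_left
    rw [hp₁def, show (s₁ * g₁)⁻¹ * (σ * (s₁ * g₁) * σ⁻¹) = g₁⁻¹ * s₁⁻¹ * (σ * s₁) * g₁ * σ⁻¹ by group,
      hcs.eq, hc]
    group
  have hcT : TrivMod Qw Z c := by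
    obtain ⟨k, hk, t, ht, hkt⟩ := hdw.decomp p₁ hp₁
    rw [hcp]
    rcases o₁ with hT | hT
    · refine hmulT _ (inv_mem hp₁) _ (hinvT _ hp₁ hT) ?_
      rw [hkt] at hT ⊢
      exact hPw.trivMod_image (hKuu _ hσK) (hKuZ _ hσK) (hdw.mapsPair (hKuS₁ _ hσK)) hk ht hT
    · have hT' : TrivMod Qw Z (σ * (p₁ * u) * σ⁻¹) := by
        rw [hkt, mul_assoc k t u] at hT ⊢
        exact hPw.trivMod_image (hKuu _ hσK) (hKuZ _ hσK) (hdw.mapsPair (hKuS₁ _ hσK)) hk
          (mul_mem ht hPw.u_mem) hT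
      have hb := hmulT _ (inv_mem (mul_mem hp₁ huPw)) _ (hinvT _ (mul_mem hp₁ huPw) hT) hT'
      have hsu : σ * (p₁ * u) * σ⁻¹ = (σ * p₁ * σ⁻¹) * u := by
        rw [show σ * (p₁ * u) * σ⁻¹ = (σ * p₁ * σ⁻¹) * (σ * u * σ⁻¹) by group,
          (hKuu _ hσK).eq, mul_inv_cancel_right]
      rw [hsu] at hb
      have := trivMod_conj hPw.invol hwu' hb
      rwa [show u * ((p₁ * u)⁻¹ * (σ * p₁ * σ⁻¹ * u)) * u⁻¹ = p₁⁻¹ * (σ * p₁ * σ⁻¹) by group] at this
  have hcg : Commute g₂ c := by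
    obtain ⟨z, hz, r, -, himg, hrc, -, -⟩ := hdv.pair.image_inverted (hKuu _ hσK) (hKuZ _ hσK)
      (hdv.mapsPair (hKS _ hσK)) hg₁Q hg₁u
    rw [hc, himg, show g₁⁻¹ * (g₁ * z * r) = z * r by group]
    exact (hdv.pair.cube.central z hz g₂ hg₂Q).symm.mul_right (hrc g₂ hg₂Q).symm
  have hprod : p₁ * p₂ = p₃ * c := by
    calc p₁ * p₂ = s₁ * s₂ * g₁ * (c * g₂) := by rw [hp₁def, hp₂def, hc, hσdef]; group
      _ = _ := by rw [← hcg.eq, hp₃def]; group
  have hcP : c ∈ Pw := hcp ▸ mul_mem (inv_mem hp₁) hσp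
  have hp₃eq : p₃ = p₁ * p₂ * c⁻¹ := by rw [hprod, mul_inv_cancel_right]
  have hex : ∀ p ∈ Pw, TrivMod Qw Z p → TrivMod Qw Z (p * u) → False := fun p hp hT hT' => by
    have := hmulT _ (inv_mem hp) _ (hinvT p hp hT) hT'
    rw [inv_mul_cancel_left] at this
    exact hPw.not_trivMod_u this
  have hzQ : ∀ z ∈ Z, TrivMod Qw Z z := fun z hz =>
    hPw.trivMod_of_mem (hdw.line.E_le hz)
  have hup₂ : u * p₂ = p₂ * (g₂ * g₂) * u := by rw [← hu₂]; group
  have hadd : TrivMod Qw Z p₃ ↔ (TrivMod Qw Z p₁ ↔ TrivMod Qw Z p₂) := by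
    have hc' : TrivMod Qw Z (u * c⁻¹ * u⁻¹) := trivMod_conj hPw.invol hwu' (hinvT c hcP hcT)
    rcases o₁ with h₁ | h₁ <;> rcases o₂ with h₂ | h₂
    · have h3 : TrivMod Qw Z p₃ := hp₃eq ▸
        hmulT _ (mul_mem hp₁ hp₂) _ (hmulT _ hp₁ _ h₁ h₂) (hinvT c hcP hcT)
      exact ⟨fun _ => ⟨fun _ => h₂, fun _ => h₁⟩, fun _ => h3⟩
    · have h3 : TrivMod Qw Z (p₃ * u) := by
        have := hmulT _ (mul_mem hp₁ (mul_mem hp₂ huPw)) _ (hmulT _ hp₁ _ h₁ h₂) hc'
        rwa [show p₁ * (p₂ * u) * (u * c⁻¹ * u⁻¹) = p₁ * p₂ * (u * u) * c⁻¹ * u⁻¹ by group, huu,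
          mul_one, hui, ← hp₃eq] at this
      exact ⟨fun hT => (hex _ hp₃ hT h3).elim, fun hiff => (hex _ hp₂ (hiff.1 h₁) h₂).elim⟩
    · have hg2Z : g₂ * g₂ ∈ Z := hdv.pair.cube.sq_mem g₂ hg₂Q
      have hg2P : g₂ * g₂ ∈ Pw := hdw.Q_le (hdw.line.E_le hg2Z)
      have h4 := hmulT _ (mul_mem hp₁ huPw) _ h₁ (hmulT _ hp₂ _ h₂ (hzQ _ hg2Z))
      have h3 : TrivMod Qw Z (p₃ * u) := by
        have := hmulT _ (mul_mem (mul_mem hp₁ huPw) (mul_mem hp₂ hg2P)) _ h4 hc'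
        have e : p₁ * u * (p₂ * (g₂ * g₂)) * (u * c⁻¹ * u⁻¹) =
            p₁ * (u * (p₂ * (g₂ * g₂) * u)) * c⁻¹ * u⁻¹ := by group
        rwa [e, ← hup₂, ← mul_assoc u u, huu, one_mul, hui, ← hp₃eq] at this
      exact ⟨fun hT => (hex _ hp₃ hT h3).elim, fun hiff => (hex _ hp₁ (hiff.2 h₂) h₁).elim⟩
    · have hg2Z : g₂ * g₂ ∈ Z := hdv.pair.cube.sq_mem g₂ hg₂Q
      have hg2P : g₂ * g₂ ∈ Pw := hdw.Q_le (hdw.line.E_le hg2Z)
      have h2' : TrivMod Qw Z (u * p₂) := by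
        have := hmulT _ (mul_mem hp₂ huPw) _ h₂ (hzQ _ hg2Z)
        rwa [mul_assoc, (huZ _ hg2Z).eq, ← mul_assoc, ← hup₂] at this
      have h3 : TrivMod Qw Z p₃ := by
        have h4 := hmulT _ (mul_mem hp₁ huPw) _ h₁ h2'
        rw [show p₁ * u * (u * p₂) = p₁ * (u * u) * p₂ by group, huu, mul_one] at h4
        exact hp₃eq ▸ hmulT _ (mul_mem hp₁ hp₂) _ h4 (hinvT c hcP hcT)
      exact ⟨fun _ => ⟨fun hT => (hex _ hp₁ hT h₁).elim, fun hT => (hex _ hp₂ hT h₂).elim⟩,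
        fun _ => h3⟩
  exact iff_not_self (hadd.symm.trans hmul)

end Main

end Cfsg.Agent.H29.Asch
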