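import Cfsg.Agent.H29.Asch.ProperType

/-!
A group `Q` of order `q ^ 3` with an involution `u` whose centraliser in `Q` is `E`: the elements
inverted by `u` form an abelian group `K` of order `q ^ 2`, and the only elements of `K` inverted by
`h` are the elements of `E` and of `⁅h, u⁆ E` (the identity of Hua; no weights).
-/

set_option autoImplicit false
set_option linter.style.haveILetI false

namespace Cfsg.Agent.H29.Asch

open Subgroup

universe u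

variable {G : Type u} [Group G]

/-- `Q` is a 2-group of order `q ^ 3` with involutions `E#` and elementary `Q / E`. -/
structure CubeGroup (Q E : Subgroup G) : Prop where
  E_le : E ≤ Q
  isPGroup : IsPGroup 2 Q
  mul_self : ∀ e ∈ E, e * e = 1
  central : ∀ e ∈ E, ∀ g ∈ Q, Commute e g
  omega : ∀ g ∈ Q, orderOf g = 2 → g ∈ E
  sq_mem : ∀ g ∈ Q, g * g ∈ E
  card_eq : Nat.card Q = Nat.card E ^ 3
  four_le : 4 ≤ Nat.card E

/-- An involution acting on `Q` with centraliser `E`. -/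
structure CubeInvol (Q E : Subgroup G) (u : G) : Prop where
  mul_self : u * u = 1
  map : ∀ g ∈ Q, u * g * u⁻¹ ∈ Q
  comm : ∀ e ∈ E, Commute u e
  fix : ∀ g ∈ Q, Commute u g → g ∈ E

/-- The commutator of `g` with `u`. -/
def beta (u g : G) : G := g⁻¹ * (u * g * u⁻¹)

namespace CubeInvol

variable [Finite G] {Q E : Subgroup G} {u : G} (hQ : CubeGroup Q E) (hu : CubeInvol Q E u)
include hQ hu

omit [Finite G] in
theorem inv_eq : u⁻¹ = u := inv_eq_of_mul_eq_one_left hu.mul_self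

omit [Finite G] hQ in
theorem beta_mem_Q {g : G} (hg : g ∈ Q) : beta u g ∈ Q := mul_mem (inv_mem hg) (hu.map g hg)

omit [Finite G] in
theorem conj_beta (g : G) : u * beta u g * u⁻¹ = (beta u g)⁻¹ := by
  unfold beta
  calc u * (g⁻¹ * (u * g * u⁻¹)) * u⁻¹ = u * g⁻¹ * (u * g) * (u * u)⁻¹ := by group
    _ = u * g⁻¹ * u⁻¹ * g := by rw [hu.mul_self, inv_eq hQ hu]; group
    _ = _ := by group

omit [Finite G] in
theorem mem_of_mul_self {g : G} (hg : g ∈ Q) (h : g * g = 1) : g ∈ E :=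
  Cfsg.Agent.H29.Asch.mem_of_mul_self hQ.omega hg h

/-- The elements with commutator in `E` are inverted, and conversely. -/
theorem inverted_iff {g : G} (hg : g ∈ Q) : u * g * u⁻¹ = g⁻¹ ↔ beta u g ∈ E := by
  constructor
  · intro h
    rw [show beta u g = g⁻¹ * g⁻¹ by rw [beta, h]]
    rw [← mul_inv_rev]
    exact inv_mem (hQ.sq_mem g hg)
  intro hgE
  obtain ⟨K, M, hK, hM, hKM⟩ := exists_preimage hQ.E_le hQ.central hQ.sq_mem hu.map
  obtain ⟨δ, hδ⟩ :=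
    exists_delta (u := u) hQ.E_le hQ.mul_self hQ.central hQ.sq_mem hK
  have hMK : M ≤ K := by
    intro a ha
    obtain ⟨haQ, h, hh, he⟩ := (hM a).1 ha
    refine (hK a).2 ⟨haQ, ?_⟩
    obtain ⟨e, he', rfl⟩ : ∃ e ∈ E, a = beta u h * e := ⟨(beta u h)⁻¹ * a, he, by group⟩
    have hbQ : beta u h ∈ Q := beta_mem_Q hu hh
    rw [show (beta u h * e)⁻¹ * (u * (beta u h * e) * u⁻¹) =
      e⁻¹ * ((beta u h)⁻¹ * (u * beta u h * u⁻¹)) * (u * e * u⁻¹) by group, conj_beta hQ hu h,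
      (hu.comm e he').eq, mul_inv_cancel_right, ← mul_inv_rev]
    exact mul_mem (mul_mem (inv_mem he') (inv_mem (hQ.sq_mem _ hbQ))) he'
  have hKle : Nat.card K ≤ Nat.card E * Nat.card E := by
    rw [← δ.ker.index_mul_card, index_ker]
    refine Nat.mul_le_mul (Nat.le_of_dvd Nat.card_pos (card_subgroup_dvd_card _)) ?_
    refine Nat.card_le_card_of_injective (fun k => (⟨((k : K) : G), ?_⟩ : E)) fun a b hab => ?_
    · have h1 : ((δ k : E) : G) = 1 := congrArg Subtype.val (show δ k = 1 from k.2)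
      rw [hδ, inv_mul_eq_one] at h1
      refine hu.fix _ ((hK _).1 (k : K).2).1 ?_
      show u * (k : K) = (k : K) * u
      conv_rhs => rw [h1]
      group
    · exact Subtype.ext (Subtype.ext (congrArg (fun e : E => (e : G)) hab))
  have hle : Nat.card K ≤ Nat.card M := by
    have h3 := Nat.mul_le_mul hKle hKle
    rw [hQ.card_eq] at hKM
    by_contra hlt
    push Not at hlt
    have : Nat.card K * Nat.card M < Nat.card K * Nat.card K :=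
      Nat.mul_lt_mul_of_pos_left hlt Nat.card_pos
    rw [hKM] at this
    nlinarith
  have hgK : g ∈ K := (hK g).2 ⟨hg, hgE⟩
  rw [← eq_of_le_of_card_ge hMK hle] at hgK
  obtain ⟨-, h, hh, he⟩ := (hM g).1 hgK
  obtain ⟨e, he', rfl⟩ : ∃ e ∈ E, g = beta u h * e := ⟨(beta u h)⁻¹ * g, he, by group⟩
  calc u * (beta u h * e) * u⁻¹ = (u * beta u h * u⁻¹) * (u * e * u⁻¹) := by group
    _ = (beta u h)⁻¹ * e := by rw [conj_beta hQ hu h, (hu.comm e he').eq, mul_inv_cancel_right]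
    _ = _ := by
      rw [mul_inv_rev, inv_eq_of_mul_eq_one_left (hQ.mul_self e he'),
        (hQ.central e he' _ (inv_mem (beta_mem_Q hu hh))).eq]

/-- The group of the elements inverted by `u`. -/
theorem exists_inverted : ∃ K : Subgroup G, ∀ g, g ∈ K ↔ g ∈ Q ∧ u * g * u⁻¹ = g⁻¹ := by
  obtain ⟨K, -, hK, -, -⟩ := exists_preimage hQ.E_le hQ.central hQ.sq_mem hu.map
  exact ⟨K, fun g => (hK g).trans (and_congr_right fun hg => (inverted_iff hQ hu hg).symm)⟩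

theorem mem_inverted_of_mem {e : G} (he : e ∈ E) : u * e * u⁻¹ = e⁻¹ := by
  rw [(hu.comm e he).eq, mul_inv_cancel_right, inv_eq_of_mul_eq_one_left (hQ.mul_self e he)]

theorem commute_of_inverted {a b : G} (ha : a ∈ Q) (hb : b ∈ Q) (ha' : u * a * u⁻¹ = a⁻¹)
    (hb' : u * b * u⁻¹ = b⁻¹) : Commute a b := by
  obtain ⟨K, hK⟩ := exists_inverted hQ hu
  have h := ((hK _).1 (mul_mem ((hK a).2 ⟨ha, ha'⟩) ((hK b).2 ⟨hb, hb'⟩))).2
  rw [show u * (a * b) * u⁻¹ = (u * a * u⁻¹) * (u * b * u⁻¹) by group, ha', hb',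
    ← mul_inv_rev] at h
  exact (inv_injective h).symm

/-- Inverted elements with the same square differ by an element of `E`. -/
theorem mem_of_sq_eq {a b : G} (ha : a ∈ Q) (hb : b ∈ Q) (ha' : u * a * u⁻¹ = a⁻¹)
    (hb' : u * b * u⁻¹ = b⁻¹) (h : a * a = b * b) : b⁻¹ * a ∈ E := by
  have hc := commute_of_inverted hQ hu ha hb ha' hb'
  refine mem_of_mul_self hQ hu (mul_mem (inv_mem hb) ha) ?_
  calc b⁻¹ * a * (b⁻¹ * a) = b⁻¹ * (a * b⁻¹) * a := by group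
    _ = (b * b)⁻¹ * (a * a) := by rw [hc.inv_right.eq]; group
    _ = 1 := by rw [h, inv_mul_cancel]

theorem inverted_beta {h : G} : u * beta u h * u⁻¹ = (beta u h)⁻¹ := conj_beta hQ hu h

/-- Every inverted element is a commutator with `u` up to `E`. -/
theorem exists_beta {k : G} (hk : k ∈ Q) (hk' : u * k * u⁻¹ = k⁻¹) :
    ∃ h ∈ Q, (beta u h)⁻¹ * k ∈ E := by
  obtain ⟨K, M, hK, hM, hKM⟩ := exists_preimage hQ.E_le hQ.central hQ.sq_mem hu.map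
  have hMK : M ≤ K := by
    intro a ha
    obtain ⟨haQ, h, hh, he⟩ := (hM a).1 ha
    refine (hK a).2 ⟨haQ, (inverted_iff hQ hu haQ).1 ?_⟩
    obtain ⟨e, he', rfl⟩ : ∃ e ∈ E, a = beta u h * e := ⟨(beta u h)⁻¹ * a, he, by group⟩
    calc u * (beta u h * e) * u⁻¹ = (u * beta u h * u⁻¹) * (u * e * u⁻¹) := by group
      _ = (beta u h)⁻¹ * e⁻¹ := by rw [conj_beta hQ hu h, mem_inverted_of_mem hQ hu he']
      _ = _ := by
        rw [mul_inv_rev,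
          (hQ.central e he' _ (beta_mem_Q hu hh)).inv_inv.eq]
  have hle : Nat.card K ≤ Nat.card M := by
    have h1 : Nat.card K ≤ Nat.card E * Nat.card E := by
      obtain ⟨δ, hδ⟩ := exists_delta (u := u) hQ.E_le hQ.mul_self hQ.central hQ.sq_mem hK
      rw [← δ.ker.index_mul_card, index_ker]
      refine Nat.mul_le_mul (Nat.le_of_dvd Nat.card_pos (card_subgroup_dvd_card _)) ?_
      refine Nat.card_le_card_of_injective (fun k => (⟨((k : K) : G), ?_⟩ : E)) fun a b hab => ?_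
      · have h1 : ((δ k : E) : G) = 1 := congrArg Subtype.val (show δ k = 1 from k.2)
        rw [hδ, inv_mul_eq_one] at h1
        refine hu.fix _ ((hK _).1 (k : K).2).1 ?_
        show u * (k : K) = (k : K) * u
        conv_rhs => rw [h1]
        group
      · exact Subtype.ext (Subtype.ext (congrArg (fun e : E => (e : G)) hab))
    rw [hQ.card_eq] at hKM
    have h3 := Nat.mul_le_mul h1 h1
    by_contra hlt
    push Not at hlt
    have : Nat.card K * Nat.card M < Nat.card K * Nat.card K :=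
      Nat.mul_lt_mul_of_pos_left hlt Nat.card_pos
    rw [hKM] at this
    nlinarith
  have hkK : k ∈ K := (hK k).2 ⟨hk, (inverted_iff hQ hu hk).1 hk'⟩
  rw [← eq_of_le_of_card_ge hMK hle] at hkK
  exact ((hM k).1 hkK).2

theorem beta_mul {h h' : G} (hh : h ∈ Q) (hh' : h' ∈ Q) :
    (beta u h * beta u h')⁻¹ * beta u (h * h') ∈ E := by
  obtain ⟨hn, ψ, hψ⟩ := exists_commHom hQ.central hQ.sq_mem hu.map
  have := (map_mul ψ ⟨h, hh⟩ ⟨h', hh'⟩).symm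
  rw [hψ, hψ, hψ, ← QuotientGroup.mk_mul] at this
  exact mem_subgroupOf.1 (QuotientGroup.eq.1 this)

omit [Finite G] in
theorem comm_mem {a b : G} (ha : a ∈ Q) (hb : b ∈ Q) : a * b * a⁻¹ * b⁻¹ ∈ E := by
  rw [show a * b * a⁻¹ * b⁻¹ = (a * b) * (a * b) * ((b⁻¹ * a⁻¹ * b) * (b⁻¹ * a⁻¹ * b)) *
    (b⁻¹ * b⁻¹) by group]
  exact mul_mem (mul_mem (hQ.sq_mem _ (mul_mem ha hb))
    (hQ.sq_mem _ (mul_mem (mul_mem (inv_mem hb) (inv_mem ha)) hb))) (hQ.sq_mem _ (inv_mem hb))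

omit [Finite G] in
theorem comm_mul_left {a a' b : G} (ha : a ∈ Q) (ha' : a' ∈ Q) (hb : b ∈ Q) :
    a * a' * b * (a * a')⁻¹ * b⁻¹ = (a * b * a⁻¹ * b⁻¹) * (a' * b * a'⁻¹ * b⁻¹) := by
  have h1 := (hQ.central _ (comm_mem hQ hu ha' hb) a ha).eq
  have h2 := (hQ.central _ (comm_mem hQ hu ha hb) _ (hQ.E_le (comm_mem hQ hu ha' hb))).eq
  calc a * a' * b * (a * a')⁻¹ * b⁻¹
      = (a * (a' * b * a'⁻¹ * b⁻¹)) * a⁻¹ * (a * b * a⁻¹ * b⁻¹) := by group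
    _ = (a' * b * a'⁻¹ * b⁻¹) * (a * b * a⁻¹ * b⁻¹) := by rw [← h1]; group
    _ = _ := h2.symm

omit [Finite G] in
theorem comm_mul_right {a b b' : G} (ha : a ∈ Q) (hb : b ∈ Q) (hb' : b' ∈ Q) :
    a * (b * b') * a⁻¹ * (b * b')⁻¹ = (a * b * a⁻¹ * b⁻¹) * (a * b' * a⁻¹ * b'⁻¹) := by
  have h1 := (hQ.central _ (comm_mem hQ hu ha hb') b hb).eq
  calc a * (b * b') * a⁻¹ * (b * b')⁻¹
      = (a * b * a⁻¹ * b⁻¹) * (b * (a * b' * a⁻¹ * b'⁻¹)) * b⁻¹ := by group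
    _ = _ := by rw [← h1]; group

omit [Finite G] in
/-- An element inverts its commutator with `u`. -/
theorem conj_beta_self {h : G} (hh : h ∈ Q) : h * beta u h * h⁻¹ = (beta u h)⁻¹ := by
  have h1 : u * (h * h) * u⁻¹ = h * h := by
    rw [(hu.comm _ (hQ.sq_mem h hh)).eq, mul_inv_cancel_right]
  have h2 : (h * beta u h) * (h * beta u h) = h * h := by
    rw [beta, mul_inv_cancel_left]
    calc u * h * u⁻¹ * (u * h * u⁻¹) = u * (h * h) * u⁻¹ := by group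
      _ = _ := h1
  calc h * beta u h * h⁻¹
      = (beta u h)⁻¹ * h⁻¹ * ((h * beta u h) * (h * beta u h)) * h⁻¹ := by group
    _ = _ := by rw [h2]; group

omit [Finite G] in
theorem comm_self {h : G} (hh : h ∈ Q) :
    h * beta u h * h⁻¹ * (beta u h)⁻¹ = beta u h * beta u h := by
  rw [conj_beta_self hQ hu hh, ← mul_inv_rev,
    inv_eq_of_mul_eq_one_left (hQ.mul_self _ (hQ.sq_mem _ (beta_mem_Q hu hh)))]

/-- The centre of `Q` is `E`. -/
theorem mem_of_central {h : G} (hh : h ∈ Q) (hc : ∀ g ∈ Q, Commute h g) : h ∈ E := by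
  have h1 : beta u h * beta u h = 1 := by
    rw [← comm_self hQ hu hh, (hc _ (beta_mem_Q hu hh)).eq]
    group
  have h2 := (inverted_iff hQ hu hh).2 (mem_of_mul_self hQ hu (beta_mem_Q hu hh) h1)
  obtain ⟨g, hg, he⟩ := exists_beta hQ hu hh h2
  obtain ⟨e, he', hge⟩ : ∃ e ∈ E, h = beta u g * e := ⟨(beta u g)⁻¹ * h, he, by group⟩
  have hcg : Commute g (beta u g) := by
    have h3 : Commute g (h * e⁻¹) := (hc g hg).symm.mul_right ((hQ.central e he' g hg).symm.inv_right)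
    rwa [hge, mul_inv_cancel_right] at h3
  have h4 : beta u g * beta u g = 1 := by
    rw [← comm_self hQ hu hg, hcg.eq]
    group
  rw [hge]
  exact mul_mem (mem_of_mul_self hQ hu (beta_mem_Q hu hg) h4) he'

/-- **No zero divisors**: an element of `K` inverted by `h` lies in `E` or in `⁅h, u⁆ E`. -/
theorem sq_eq_of_conj_eq_inv {a₀ : G} (hodd : Odd (orderOf a₀))
    (haQ : ∀ g ∈ Q, a₀ * g * a₀⁻¹ ∈ Q) (hau : Commute a₀ u)
    (htr : ∀ a ∈ E, ∀ b ∈ E, a ≠ 1 → b ≠ 1 → ∃ i : ℕ, a₀ ^ i * a * (a₀ ^ i)⁻¹ = b)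
    {h k : G} (hh : h ∈ Q) (hk : k ∈ Q) (hk' : u * k * u⁻¹ = k⁻¹) (hhk : h * k * h⁻¹ = k⁻¹) :
    k * k = 1 ∨ k * k = beta u h * beta u h := by
  by_contra hne
  rw [not_or] at hne
  obtain ⟨hk1, hkg⟩ := hne
  set g := beta u h with hg
  have hgQ : g ∈ Q := beta_mem_Q hu hh
  have hgu : u * g * u⁻¹ = g⁻¹ := conj_beta hQ hu h
  set e := g * g with he
  have heE : e ∈ E := hQ.sq_mem g hgQ
  have hkc : h * k * h⁻¹ * k⁻¹ = k * k := by
    rw [hhk, ← mul_inv_rev, inv_eq_of_mul_eq_one_left (hQ.mul_self _ (hQ.sq_mem k hk))]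
  have he1 : e ≠ 1 := by
    intro h1
    have hhK : u * h * u⁻¹ = h⁻¹ := (inverted_iff hQ hu hh).2 (mem_of_mul_self hQ hu hgQ h1)
    apply hk1
    rw [← hkc, (commute_of_inverted hQ hu hh hk hhK hk').eq]
    group
  -- the powers of `a₀`
  have hpow : ∀ i : ℕ, (∀ z ∈ Q, a₀ ^ i * z * (a₀ ^ i)⁻¹ ∈ Q) ∧ Commute (a₀ ^ i) u := by
    intro i
    refine ⟨?_, hau.pow_left i⟩
    induction i with
    | zero => intro z hz; simpa using hz
    | succ i ih =>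
      intro z hz
      rw [show a₀ ^ (i + 1) * z * (a₀ ^ (i + 1))⁻¹ = a₀ * (a₀ ^ i * z * (a₀ ^ i)⁻¹) * a₀⁻¹ by
        rw [pow_succ']; group]
      exact haQ _ (ih z hz)
  have hbeta : ∀ (i : ℕ) (z : G),
      beta u (a₀ ^ i * z * (a₀ ^ i)⁻¹) = a₀ ^ i * beta u z * (a₀ ^ i)⁻¹ := by
    intro i z
    unfold beta
    calc _ = a₀ ^ i * z⁻¹ * (a₀ ^ i)⁻¹ * ((u * a₀ ^ i) * z * (u * a₀ ^ i)⁻¹) := by group
      _ = _ := by rw [← (hpow i).2.eq]; group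
  have hinvp : ∀ (i : ℕ) (z : G), u * z * u⁻¹ = z⁻¹ →
      u * (a₀ ^ i * z * (a₀ ^ i)⁻¹) * u⁻¹ = (a₀ ^ i * z * (a₀ ^ i)⁻¹)⁻¹ := by
    intro i z hz
    calc _ = (u * a₀ ^ i) * z * (u * a₀ ^ i)⁻¹ := by group
      _ = a₀ ^ i * (u * z * u⁻¹) * (a₀ ^ i)⁻¹ := by rw [← (hpow i).2.eq]; group
      _ = _ := by rw [hz]; group
  -- the element `a` with square taking `e` to `k * k`
  obtain ⟨i, hi⟩ := htr e heE _ (hQ.sq_mem k hk) he1 hk1
  obtain ⟨j, hj⟩ := hodd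
  set m := i * (j + 1) with hm
  set a := a₀ ^ m with ha
  have haa : a * a = a₀ ^ i := by
    rw [ha, ← pow_add, show m + m = i + i * (2 * j + 1) by rw [hm]; ring, pow_add, ← hj,
      mul_comm i, pow_mul, pow_orderOf_eq_one, one_pow, mul_one]
  have hae : a * e * a⁻¹ ≠ e := by
    intro h1
    apply hkg
    rw [← hi, ← haa]
    calc a * a * e * (a * a)⁻¹ = a * (a * e * a⁻¹) * a⁻¹ := by group
      _ = e := by rw [h1, h1]
  have hcE : ∀ (l : ℕ) (z : G), z ∈ E → a₀ ^ l * z * (a₀ ^ l)⁻¹ ∈ E := fun l z hz =>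
    conj_mem_E hQ.E_le hQ.mul_self hQ.omega (hpow l).1 hz
  have hsum1 : e * (a * e * a⁻¹) ≠ 1 := by
    intro h1
    apply hae
    rw [eq_inv_of_mul_eq_one_right h1, inv_eq_of_mul_eq_one_left (hQ.mul_self e heE)]
  obtain ⟨l, hl⟩ := htr e heE _ (mul_mem heE (hcE m e heE)) he1 hsum1
  set b := a₀ ^ l with hb
  have hlin : ∀ z ∈ E, b * z * b⁻¹ = z * (a * z * a⁻¹) := by
    intro z hz
    by_cases hz1 : z = 1
    · simp [hz1]
    obtain ⟨n, hn⟩ := htr e heE z hz he1 hz1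
    have c1 : b * a₀ ^ n = a₀ ^ n * b := by rw [hb, ← pow_add, ← pow_add, add_comm]
    have c2 : a * a₀ ^ n = a₀ ^ n * a := by rw [ha, ← pow_add, ← pow_add, add_comm]
    have key : ∀ A N : G, A * N = N * A → (N * e * N⁻¹) * ((N * A) * e * (N * A)⁻¹) =
        (N * e * N⁻¹) * (A * (N * e * N⁻¹) * A⁻¹) := fun A N hAN => by rw [← hAN]; group
    rw [← hn]
    calc b * (a₀ ^ n * e * (a₀ ^ n)⁻¹) * b⁻¹ = (b * a₀ ^ n) * e * (b * a₀ ^ n)⁻¹ := by group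
      _ = a₀ ^ n * (b * e * b⁻¹) * (a₀ ^ n)⁻¹ := by rw [c1]; group
      _ = (a₀ ^ n * e * (a₀ ^ n)⁻¹) * ((a₀ ^ n * a) * e * (a₀ ^ n * a)⁻¹) := by rw [hl, ha]; group
      _ = _ := key a (a₀ ^ n) c2
  -- the elements
  set k₁ := a * g * a⁻¹ with hk₁
  set k₂ := a * k₁ * a⁻¹ with hk₂
  set y := a * h * a⁻¹ with hy
  have hk₁Q : k₁ ∈ Q := (hpow m).1 g hgQ
  have hk₂Q : k₂ ∈ Q := (hpow m).1 k₁ hk₁Q
  have hyQ : y ∈ Q := (hpow m).1 h hh
  have hk₁u : u * k₁ * u⁻¹ = k₁⁻¹ := hinvp m g hgu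
  have hk₂u : u * k₂ * u⁻¹ = k₂⁻¹ := hinvp m k₁ hk₁u
  have hk₁₂ : Commute k₁ k₂ := commute_of_inverted hQ hu hk₁Q hk₂Q hk₁u hk₂u
  have hgk₁ : Commute g k₁ := commute_of_inverted hQ hu hgQ hk₁Q hgu hk₁u
  have hsq₁ : k₁ * k₁ = a * e * a⁻¹ := by rw [hk₁, he]; group
  have hsq₂ : k₂ * k₂ = k * k := by
    rw [← hi, ← haa, hk₂, hk₁, he]; group
  set c := fun p r : G => p * r * p⁻¹ * r⁻¹ with hc
  have hcmem : ∀ p ∈ Q, ∀ r ∈ Q, c p r ∈ E := fun p hp r hr => comm_mem hQ hu hp hr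
  have hcE1 : ∀ p ∈ Q, ∀ r ∈ E, c p r = 1 := fun p hp r hr => by
    simp only [hc]
    rw [(hQ.central r hr p hp).symm.eq]; group
  have d1 : c h k₂ = k * k := by
    have hd : k₂⁻¹ * k ∈ E := mem_of_sq_eq hQ hu hk hk₂Q hk' hk₂u hsq₂.symm
    have h1 := comm_mul_right hQ hu hh hk₂Q (hQ.E_le hd)
    rw [mul_inv_cancel_left, hkc] at h1
    rw [show c h k₂ = h * k₂ * h⁻¹ * k₂⁻¹ from rfl, h1,
      show h * (k₂⁻¹ * k) * h⁻¹ * (k₂⁻¹ * k)⁻¹ = 1 from hcE1 h hh _ hd, mul_one]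
  -- the two values
  have hky : k₁ * k₂ ∈ Q := mul_mem hk₁Q hk₂Q
  have hkyu : u * (k₁ * k₂) * u⁻¹ = (k₁ * k₂)⁻¹ := by
    calc u * (k₁ * k₂) * u⁻¹ = (u * k₁ * u⁻¹) * (u * k₂ * u⁻¹) := by group
      _ = _ := by rw [hk₁u, hk₂u]; exact hk₁₂.inv_inv.eq.trans (mul_inv_rev k₁ k₂).symm
  set hb' := b * h * b⁻¹ with hhb
  set kb := b * k₁ * b⁻¹ with hkb
  have hbQ : hb' ∈ Q := (hpow l).1 h hh
  have hkbQ : kb ∈ Q := (hpow l).1 k₁ hk₁Q
  have hkbu : u * kb * u⁻¹ = kb⁻¹ := hinvp l k₁ hk₁u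
  have hkb2 : kb⁻¹ * (k₁ * k₂) ∈ E := by
    refine mem_of_sq_eq hQ hu hky hkbQ hkyu hkbu ?_
    rw [hk₁₂.symm.mul_mul_mul_comm, show kb * kb = b * (k₁ * k₁) * b⁻¹ by rw [hkb]; group, hsq₁,
      hlin _ (hcE m e heE)]
    congr 1
    rw [hsq₂, ← hi, ← haa, ha]; group
  have hd : (h * y)⁻¹ * hb' ∈ Q := mul_mem (inv_mem (mul_mem hh hyQ)) hbQ
  have hdu : u * ((h * y)⁻¹ * hb') * u⁻¹ = ((h * y)⁻¹ * hb')⁻¹ := by
    refine (inverted_iff hQ hu hd).2 ?_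
    have e1 := beta_mul hQ hu (mul_mem hh hyQ) hd
    rw [mul_inv_cancel_left] at e1
    have e2 := beta_mul hQ hu hh hyQ
    have e3 : beta u hb' = b * g * b⁻¹ := hbeta l h
    have e4 : beta u y = k₁ := hbeta m h
    rw [e4] at e2
    rw [e3] at e1
    set d := beta u ((h * y)⁻¹ * hb') with hdd
    set p := beta u (h * y) with hpp
    have hbgQ : b * g * b⁻¹ ∈ Q := (hpow l).1 g hgQ
    have e5 : (g * k₁)⁻¹ * (b * g * b⁻¹) ∈ E := by
      refine mem_of_sq_eq hQ hu hbgQ (mul_mem hgQ hk₁Q) (hinvp l g hgu) ?_ ?_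
      · calc u * (g * k₁) * u⁻¹ = (u * g * u⁻¹) * (u * k₁ * u⁻¹) := by group
          _ = _ := by rw [hgu, hk₁u]; exact hgk₁.inv_inv.eq.trans (mul_inv_rev g k₁).symm
      · rw [hgk₁.symm.mul_mul_mul_comm, hsq₁, ← he, ← hlin e heE, he]; group
    have e6 : p⁻¹ * (b * g * b⁻¹) ∈ E := by
      rw [show p⁻¹ * (b * g * b⁻¹) = ((g * k₁)⁻¹ * p)⁻¹ * ((g * k₁)⁻¹ * (b * g * b⁻¹)) by group]
      exact mul_mem (inv_mem e2) e5
    rw [show d = (p⁻¹ * (b * g * b⁻¹)) * ((p * d)⁻¹ * (b * g * b⁻¹))⁻¹ by group]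
    exact mul_mem e6 (inv_mem e1)
  set C₁ := c h k₁ with hC₁
  have hC₁E : C₁ ∈ E := hcmem h hh k₁ hk₁Q
  have hL : c hb' (k₁ * k₂) = C₁ * (a * C₁ * a⁻¹) := by
    have h1 := comm_mul_right hQ hu hbQ hkbQ (hQ.E_le hkb2)
    rw [mul_inv_cancel_left, show hb' * (kb⁻¹ * (k₁ * k₂)) * hb'⁻¹ * (kb⁻¹ * (k₁ * k₂))⁻¹ = 1
      from hcE1 hb' hbQ _ hkb2, mul_one] at h1
    rw [show c hb' (k₁ * k₂) = hb' * (k₁ * k₂) * hb'⁻¹ * (k₁ * k₂)⁻¹ from rfl, h1,
      ← hlin C₁ hC₁E, hC₁, hhb, hkb, hc]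
    group
  have hR : c hb' (k₁ * k₂) = C₁ * (k * k) * ((a * e * a⁻¹) * (a * C₁ * a⁻¹)) := by
    have h1 := comm_mul_left hQ hu (mul_mem hh hyQ) hd hky
    rw [mul_inv_cancel_left, show ((h * y)⁻¹ * hb') * (k₁ * k₂) * ((h * y)⁻¹ * hb')⁻¹ * (k₁ * k₂)⁻¹
      = 1 by rw [(commute_of_inverted hQ hu hd hky hdu hkyu).eq]; group, mul_one] at h1
    rw [show c hb' (k₁ * k₂) = hb' * (k₁ * k₂) * hb'⁻¹ * (k₁ * k₂)⁻¹ from rfl, h1,
      comm_mul_left hQ hu hh hyQ hky]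
    congr 1
    · rw [comm_mul_right hQ hu hh hk₁Q hk₂Q]
      show C₁ * c h k₂ = _
      rw [d1]
    · have h2 : y * (k₁ * k₂) * y⁻¹ * (k₁ * k₂)⁻¹ = a * (h * (g * k₁) * h⁻¹ * (g * k₁)⁻¹) * a⁻¹ := by
        rw [hy, hk₂, hk₁]; group
      rw [h2, comm_mul_right hQ hu hh hgQ hk₁Q, comm_self hQ hu hh, ← hg, ← he, hC₁, hc]
      group
  have hcomm := hQ.central (k * k) (hQ.sq_mem k hk) _ (hQ.E_le (hcE m e heE))
  have hfin : (k * k) * (a * e * a⁻¹) = 1 := by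
    have h1 := hR.symm.trans hL
    rw [mul_assoc C₁, mul_right_inj, ← mul_assoc] at h1
    exact mul_eq_right.1 h1
  apply hae
  have h2 : a * (a * e * a⁻¹) * a⁻¹ = a * e * a⁻¹ := by
    rw [show a * (a * e * a⁻¹) * a⁻¹ = (a * a) * e * (a * a)⁻¹ by group, haa, hi,
      eq_inv_of_mul_eq_one_left hfin]
    exact inv_eq_of_mul_eq_one_left (hQ.mul_self _ (hcE m e heE))
  exact mul_left_cancel (mul_right_cancel h2)

end CubeInvol

end Cfsg.Agent.H29.Asch
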