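import Cfsg.Agent.H29.Asch.UUUQ

/-!
A 2-group `Q T` with `Q` of order `q ^ 3` and `u` in the stabiliser `T`: an element `s` of `C(u)`
normalising `Q T` and centralising `E` acts on `Q` modulo `E C_T(Q)` as `1` or as `u`, and this is
additive in `s`; an element `p` of `Q T` with `⁅p, u⁆` in `E` is trivial on `Q / E` or `u`-like, and
this is read off from its square.
-/

set_option autoImplicit false
set_option linter.style.haveILetI false

namespace Cfsg.Agent.H29.Asch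

open Subgroup

universe u

variable {G : Type u} [Group G]

/-- `Q T` with `u` in `T` centralised modulo the given data. -/
structure CubePair (Q E T : Subgroup G) (u : G) : Prop where
  cube : CubeGroup Q E
  invol : CubeInvol Q E u
  u_mem : u ∈ T
  map : ∀ t ∈ T, ∀ g ∈ Q, t * g * t⁻¹ ∈ Q
  comm : ∀ t ∈ T, ∀ e ∈ E, Commute t e
  disj : ∀ g ∈ Q, g ∈ T → g = 1
  nd : ∀ h ∈ Q, ∀ k ∈ Q, u * k * u⁻¹ = k⁻¹ → h * k * h⁻¹ = k⁻¹ →
    k * k = 1 ∨ k * k = beta u h * beta u h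
  involT : ∀ t ∈ T, t * t = 1 → (∀ g ∈ Q, Commute t g) ∨ CubeInvol Q E t

/-- `s` normalises `Q T`. -/
def MapsPair (Q T : Subgroup G) (s : G) : Prop :=
  ∀ q ∈ Q, ∀ t ∈ T, ∃ q' ∈ Q, ∃ t' ∈ T, s * (q * t) * s⁻¹ = q' * t'

/-- `s` acts on `Q` as `1` modulo `E` and the centraliser of `Q` in `T`. -/
def Fixes (Q E T : Subgroup G) (s : G) : Prop :=
  ∀ h ∈ Q, ∃ h' ∈ Q, ∃ t ∈ T, s * h * s⁻¹ = h' * t ∧ h⁻¹ * h' ∈ E

/-- `s` acts on `Q` as `u` modulo `E` and the centraliser of `Q` in `T`. -/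
def Moves (Q E T : Subgroup G) (u s : G) : Prop :=
  ∀ h ∈ Q, ∃ h' ∈ Q, ∃ t ∈ T, s * h * s⁻¹ = h' * t ∧ (beta u h)⁻¹ * (h⁻¹ * h') ∈ E

/-- `p` is trivial on `Q / E`. -/
def TrivMod (Q E : Subgroup G) (p : G) : Prop := ∀ h ∈ Q, h⁻¹ * (p * h * p⁻¹) ∈ E

namespace CubePair

variable [Finite G] {Q E T : Subgroup G} {u : G} (hP : CubePair Q E T u)
include hP

omit [Finite G] in
theorem unique {q q' t t' : G} (hq : q ∈ Q) (hq' : q' ∈ Q) (ht : t ∈ T) (ht' : t' ∈ T)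
    (h : q * t = q' * t') : q = q' ∧ t = t' := by
  have h1 : q'⁻¹ * q = t' * t⁻¹ := by
    calc q'⁻¹ * q = q'⁻¹ * (q * t) * t⁻¹ := by group
      _ = _ := by rw [h]; group
  have h2 := hP.disj _ (mul_mem (inv_mem hq') hq) (h1 ▸ mul_mem ht' (inv_mem ht))
  obtain rfl : q' = q := inv_mul_eq_one.1 h2
  exact ⟨rfl, mul_left_cancel h⟩

omit [Finite G] in
theorem comm_u {e : G} (he : e ∈ E) : Commute u e := hP.comm u hP.u_mem e he

theorem exists_not_inverted : ∃ h ∈ Q, beta u h ∉ E := by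
  by_contra hall
  push Not at hall
  have hab : ∀ a ∈ Q, ∀ b ∈ Q, Commute a b := fun a ha b hb =>
    CubeInvol.commute_of_inverted hP.cube hP.invol ha hb
      ((CubeInvol.inverted_iff hP.cube hP.invol ha).2 (hall a ha))
      ((CubeInvol.inverted_iff hP.cube hP.invol hb).2 (hall b hb))
  have hle : Q ≤ E := fun g hg => CubeInvol.mem_of_central hP.cube hP.invol hg (hab g hg)
  have h1 := Nat.le_of_dvd Nat.card_pos (card_dvd_of_le hle)
  rw [hP.cube.card_eq] at h1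
  have h4 := hP.cube.four_le
  have := Nat.pow_lt_pow_right (show 1 < Nat.card E by omega) (show 1 < 3 by norm_num)
  rw [pow_one] at this
  omega

/-- An involution of `T` which is trivial on `Q / E` centralises `Q`. -/
theorem commute_of_trivMod {t : G} (ht : t ∈ T) (ht2 : t * t = 1) (htriv : TrivMod Q E t) :
    ∀ g ∈ Q, Commute t g := by
  rcases hP.involT t ht ht2 with h | h
  · exact h
  exfalso
  have hinv : ∀ a ∈ Q, t * a * t⁻¹ = a⁻¹ := fun a ha =>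
    (CubeInvol.inverted_iff hP.cube h ha).2 (htriv a ha)
  have hle : Q ≤ E := fun g hg => CubeInvol.mem_of_central hP.cube h hg fun g' hg' =>
    CubeInvol.commute_of_inverted hP.cube h hg hg' (hinv g hg) (hinv g' hg')
  have h1 := Nat.le_of_dvd Nat.card_pos (card_dvd_of_le hle)
  rw [hP.cube.card_eq] at h1
  have h4 := hP.cube.four_le
  have := Nat.pow_lt_pow_right (show 1 < Nat.card E by omega) (show 1 < 3 by norm_num)
  rw [pow_one] at this
  omega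

variable {s : G} (hsu : Commute s u) (hsE : ∀ e ∈ E, Commute s e) (hsP : MapsPair Q T s)
include hsu hsE hsP

/-- The image of `h`: an element with the same square times an element centralising `Q`. -/
theorem exists_image {h : G} (hh : h ∈ Q) :
    ∃ h' ∈ Q, ∃ t ∈ T, s * h * s⁻¹ = h' * t ∧ t * t = 1 ∧ (∀ g ∈ Q, Commute t g) ∧
      h' * h' = h * h := by
  obtain ⟨h', hh', t, ht, he⟩ := hsP h hh 1 (one_mem T)
  rw [mul_one] at he
  have hsq : (h' * (t * h' * t⁻¹)) * (t * t) = (h * h) * 1 := by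
    calc (h' * (t * h' * t⁻¹)) * (t * t) = (h' * t) * (h' * t) := by group
      _ = s * (h * h) * s⁻¹ := by rw [← he]; group
      _ = _ := by rw [(hsE _ (hP.cube.sq_mem h hh)).eq]; group
  obtain ⟨h1, h2⟩ := hP.unique (mul_mem hh' (hP.map t ht h' hh')) (hP.cube.E_le (hP.cube.sq_mem h hh))
    (mul_mem ht ht) (one_mem T) hsq
  refine ⟨h', hh', t, ht, he, h2, ?_⟩
  rcases hP.involT t ht h2 with hc | hc
  · refine ⟨hc, ?_⟩
    rwa [(hc h' hh').eq, mul_inv_cancel_right] at h1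
  exfalso
  -- `t` acts with centraliser `E`
  have hE' : ∀ e ∈ E, s * e * s⁻¹ = e := fun e he => by rw [(hsE e he).eq, mul_inv_cancel_right]
  have hb : beta t h' ∈ E := by
    rw [show beta t h' = (h' * h')⁻¹ * (h' * (t * h' * t⁻¹)) by rw [beta]; group, h1]
    exact mul_mem (inv_mem (hP.cube.sq_mem h' hh')) (hP.cube.sq_mem h hh)
  rw [(CubeInvol.inverted_iff hP.cube hc hh').2 hb, mul_inv_cancel] at h1
  have hhE : h ∈ E := CubeInvol.mem_of_mul_self hP.cube hc hh h1.symm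
  have ht1 : t = 1 := (hP.unique (hP.cube.E_le hhE) hh' (one_mem T) ht
    (by rw [mul_one, ← he, hE' h hhE])).2.symm
  have h8 : Q ≤ E := fun g hg => hc.fix g hg (ht1 ▸ Commute.one_left g)
  have h1' := Nat.le_of_dvd Nat.card_pos (card_dvd_of_le h8)
  rw [hP.cube.card_eq] at h1'
  have h4 := hP.cube.four_le
  have := Nat.pow_lt_pow_right (show 1 < Nat.card E by omega) (show 1 < 3 by norm_num)
  rw [pow_one] at this
  omega

/-- The difference of the image is inverted by `u` and by `h`. -/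
theorem diff_spec {h h' t : G} (hh : h ∈ Q) (hh' : h' ∈ Q) (ht : t ∈ T)
    (he : s * h * s⁻¹ = h' * t) :
    u * (h⁻¹ * h') * u⁻¹ = (h⁻¹ * h')⁻¹ ∧ h * (h⁻¹ * h') * h⁻¹ = (h⁻¹ * h')⁻¹ := by
  obtain ⟨h₁, hh₁, t₁, ht₁, he₁, ht2, htc, hsq⟩ := hP.exists_image hsu hsE hsP hh
  obtain ⟨rfl, rfl⟩ := hP.unique hh' hh₁ ht ht₁ (he.symm.trans he₁)
  set k := h⁻¹ * h' with hk
  have hkQ : k ∈ Q := mul_mem (inv_mem hh) hh'
  have hhk : h' = h * k := by rw [hk, mul_inv_cancel_left]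
  constructor
  · -- the image of `beta u h`
    set g := beta u h with hg
    have hgQ : g ∈ Q := CubeInvol.beta_mem_Q hP.invol hh
    set g' := beta u h' with hg'
    have hg'Q : g' ∈ Q := CubeInvol.beta_mem_Q hP.invol hh'
    have hu' := CubeInvol.inv_eq hP.cube hP.invol
    set w := t⁻¹ * (u * t * u⁻¹) with hw
    have hwT : w ∈ T := mul_mem (inv_mem ht) (mul_mem (mul_mem hP.u_mem ht) (inv_mem hP.u_mem))
    have himg : s * g * s⁻¹ = g' * w := by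
      have e1 : s * g * s⁻¹ = beta u (h' * t) := by
        rw [← he₁, hg, beta, beta]
        calc s * (h⁻¹ * (u * h * u⁻¹)) * s⁻¹
            = s * h⁻¹ * s⁻¹ * ((s * u) * h * (s * u)⁻¹) := by group
          _ = _ := by rw [hsu.eq]; group
      rw [e1, beta]
      calc (h' * t)⁻¹ * (u * (h' * t) * u⁻¹) = t⁻¹ * g' * (u * t * u⁻¹) := by rw [hg', beta]; group
        _ = _ := by rw [(htc g' hg'Q).inv_left.eq, mul_assoc]
    obtain ⟨g₁, hg₁, t₂, ht₂, he₂, -, -, hsq₂⟩ := hP.exists_image hsu hsE hsP hgQ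
    obtain ⟨rfl, rfl⟩ := hP.unique hg'Q hg₁ hwT ht₂ (himg.symm.trans he₂)
    have hd : g'⁻¹ * g ∈ E := CubeInvol.mem_of_sq_eq hP.cube hP.invol hgQ hg'Q
      (CubeInvol.conj_beta hP.cube hP.invol h) (CubeInvol.conj_beta hP.cube hP.invol h')
      hsq₂.symm
    refine (CubeInvol.inverted_iff hP.cube hP.invol hkQ).2 ?_
    have h3 := CubeInvol.beta_mul hP.cube hP.invol hh hkQ
    rw [← hhk, ← hg, ← hg'] at h3
    have h4 : (beta u k)⁻¹ * (g⁻¹ * g') ∈ E := by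
      rw [show (beta u k)⁻¹ * (g⁻¹ * g') = (g * beta u k)⁻¹ * g' by group]; exact h3
    have h5 : g⁻¹ * g' ∈ E := by
      rw [show g⁻¹ * g' = (g'⁻¹ * g)⁻¹ by group]; exact inv_mem hd
    rw [show beta u k = (g⁻¹ * g') * ((beta u k)⁻¹ * (g⁻¹ * g'))⁻¹ by group]
    exact mul_mem h5 (inv_mem h4)
  · rw [hhk] at hsq
    have h1 : k * h * k = h := by
      calc k * h * k = h⁻¹ * (h * k * (h * k)) := by group
        _ = h := by rw [hsq]; group
    calc h * k * h⁻¹ = k⁻¹ * (k * h * k) * h⁻¹ := by group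
      _ = _ := by rw [h1]; group

/-- `s` acts as `1` or as `u`. -/
theorem fixes_or_moves : Fixes Q E T s ∨ Moves Q E T u s := by
  by_contra hne
  rw [not_or] at hne
  obtain ⟨hnF, hnM⟩ := hne
  have hval : ∀ h ∈ Q, ∀ h' ∈ Q, ∀ t ∈ T, s * h * s⁻¹ = h' * t →
      h⁻¹ * h' ∈ E ∨ (beta u h)⁻¹ * (h⁻¹ * h') ∈ E := by
    intro h hh h' hh' t ht he
    obtain ⟨hku, hkh⟩ := hP.diff_spec hsu hsE hsP hh hh' ht he
    have hkQ := mul_mem (inv_mem hh) hh'
    rcases hP.nd h hh _ hkQ hku hkh with h1 | h1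
    · exact Or.inl (CubeInvol.mem_of_mul_self hP.cube hP.invol hkQ h1)
    · exact Or.inr (CubeInvol.mem_of_sq_eq hP.cube hP.invol hkQ
        (CubeInvol.beta_mem_Q hP.invol hh) hku (CubeInvol.conj_beta hP.cube hP.invol h) h1)
  unfold Fixes at hnF
  unfold Moves at hnM
  push Not at hnF hnM
  obtain ⟨a, ha, hna⟩ := hnF
  obtain ⟨b, hb, hnb⟩ := hnM
  obtain ⟨a', ha', ta, hta, hea, -, htac, -⟩ := hP.exists_image hsu hsE hsP ha
  obtain ⟨b', hb', tb, htb, heb, -, -, -⟩ := hP.exists_image hsu hsE hsP hb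
  have hka := (hval a ha a' ha' ta hta hea).resolve_left (hna a' ha' ta hta hea)
  have hkb := (hval b hb b' hb' tb htb heb).resolve_right (hnb b' hb' tb htb heb)
  -- the product
  have he : s * (a * b) * s⁻¹ = (a' * b') * (ta * tb) := by
    calc s * (a * b) * s⁻¹ = (s * a * s⁻¹) * (s * b * s⁻¹) := by group
      _ = a' * (ta * b') * tb := by rw [hea, heb]; group
      _ = _ := by rw [(htac b' hb').eq]; group
  have hga := CubeInvol.beta_mem_Q hP.invol ha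
  have hgb := CubeInvol.beta_mem_Q hP.invol hb
  have hmul := CubeInvol.beta_mul hP.cube hP.invol ha hb
  set ga := beta u a
  set gb := beta u b
  set gab := beta u (a * b)
  set ka := a⁻¹ * a' with hka'
  set kb := b⁻¹ * b' with hkb'
  have hkaQ : ka ∈ Q := mul_mem (inv_mem ha) ha'
  have hdiff : ka⁻¹ * ((a * b)⁻¹ * (a' * b')) ∈ E := by
    rw [show ka⁻¹ * ((a * b)⁻¹ * (a' * b')) = (ka⁻¹ * b⁻¹ * ka⁻¹⁻¹ * b⁻¹⁻¹) * kb by
      rw [hka', hkb']; group]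
    exact mul_mem (CubeInvol.comm_mem hP.cube hP.invol (inv_mem hkaQ) (inv_mem hb)) hkb
  rcases hval (a * b) (mul_mem ha hb) (a' * b') (mul_mem ha' hb') _ (mul_mem hta htb) he with h1 | h1
  · exact hna a' ha' ta hta hea (by
      rw [← hka', show ka = ((a * b)⁻¹ * (a' * b')) * (ka⁻¹ * ((a * b)⁻¹ * (a' * b')))⁻¹ by group]
      exact mul_mem h1 (inv_mem hdiff))
  · refine hnb b' hb' tb htb heb ?_
    have h2 : (ga * gb)⁻¹ * ((a * b)⁻¹ * (a' * b')) ∈ E := by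
      rw [show (ga * gb)⁻¹ * ((a * b)⁻¹ * (a' * b')) =
        ((ga * gb)⁻¹ * gab) * (gab⁻¹ * ((a * b)⁻¹ * (a' * b'))) by group]
      exact mul_mem hmul h1
    have h3 : gb⁻¹ * (ga⁻¹ * ((a * b)⁻¹ * (a' * b'))) ∈ E := by
      rw [← mul_assoc, ← mul_inv_rev]; exact h2
    have h4 : ga⁻¹ * ((a * b)⁻¹ * (a' * b')) ∈ E := by
      rw [show ga⁻¹ * ((a * b)⁻¹ * (a' * b')) =
        (ga⁻¹ * ka) * (ka⁻¹ * ((a * b)⁻¹ * (a' * b'))) by group]
      exact mul_mem hka hdiff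
    have h5 : gb⁻¹ ∈ E := by
      rw [show gb⁻¹ = (gb⁻¹ * (ga⁻¹ * ((a * b)⁻¹ * (a' * b')))) *
        (ga⁻¹ * ((a * b)⁻¹ * (a' * b')))⁻¹ by group]
      exact mul_mem h3 (inv_mem h4)
    exact mul_mem h5 hkb

/-- Every element of `Q` is an image up to `E` and the centraliser of `Q` in `T`. -/
theorem exists_preimage_mod {x : G} (hx : x ∈ Q) :
    ∃ h ∈ Q, ∃ h' ∈ Q, ∃ t ∈ T, s * h * s⁻¹ = h' * t ∧ x⁻¹ * h' ∈ E := by
  rcases hP.fixes_or_moves hsu hsE hsP with hF | hM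
  · obtain ⟨h', hh', t, ht, he, hd⟩ := hF x hx
    exact ⟨x, hx, h', hh', t, ht, he, hd⟩
  · set g := beta u x with hg
    have hgQ : g ∈ Q := CubeInvol.beta_mem_Q hP.invol hx
    obtain ⟨h', hh', t, ht, he, hd⟩ := hM (x * g) (mul_mem hx hgQ)
    refine ⟨x * g, mul_mem hx hgQ, h', hh', t, ht, he, ?_⟩
    have h1 := CubeInvol.beta_mul hP.cube hP.invol hx hgQ
    have h2 : beta u g ∈ E := (CubeInvol.inverted_iff hP.cube hP.invol hgQ).1
      (CubeInvol.conj_beta hP.cube hP.invol x)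
    set b := beta u (x * g) with hb
    rw [← hg] at h1
    rw [show x⁻¹ * h' = (g * g) * beta u g * ((g * beta u g)⁻¹ * b) * (b⁻¹ * ((x * g)⁻¹ * h')) by
      group]
    exact mul_mem (mul_mem (mul_mem (hP.cube.sq_mem g hgQ) h2) h1) hd

/-- An involution of `T` centralising `Q` goes to `E` times one. -/
theorem image_centralizing {r : G} (hr : r ∈ T) (hr2 : r * r = 1) (hrc : ∀ g ∈ Q, Commute r g) :
    ∃ e ∈ E, ∃ τ ∈ T, s * r * s⁻¹ = e * τ ∧ ∀ g ∈ Q, Commute τ g := by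
  obtain ⟨q, hq, τ, hτ, he⟩ := hsP 1 (one_mem Q) r hr
  rw [one_mul] at he
  have hsq : (q * (τ * q * τ⁻¹)) * (τ * τ) = 1 * 1 := by
    calc (q * (τ * q * τ⁻¹)) * (τ * τ) = (q * τ) * (q * τ) := by group
      _ = s * (r * r) * s⁻¹ := by rw [← he]; group
      _ = _ := by rw [hr2]; group
  obtain ⟨-, hτ2⟩ := hP.unique (mul_mem hq (hP.map τ hτ q hq)) (one_mem Q) (mul_mem hτ hτ) (one_mem T) hsq
  have hconj : ∀ x ∈ Q, τ * x * τ⁻¹ = q⁻¹ * x * q := by
    intro x hx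
    obtain ⟨h, hh, h', hh', t, ht, heh, hd⟩ := hP.exists_preimage_mod hsu hsE hsP hx
    obtain ⟨h₁, hh₁, t₁, ht₁, he₁, -, htc, -⟩ := hP.exists_image hsu hsE hsP hh
    obtain ⟨rfl, rfl⟩ := hP.unique hh' hh₁ ht ht₁ (heh.symm.trans he₁)
    have h1 : (q * (τ * h' * τ⁻¹)) * (τ * t) = (h' * q) * (t * τ) := by
      calc (q * (τ * h' * τ⁻¹)) * (τ * t) = (q * τ) * (h' * t) := by group
        _ = s * (r * h) * s⁻¹ := by rw [← he, ← heh]; group
        _ = s * (h * r) * s⁻¹ := by rw [(hrc h hh).eq]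
        _ = (s * h * s⁻¹) * (s * r * s⁻¹) := by group
        _ = h' * (t * q) * τ := by rw [he, heh]; group
        _ = _ := by rw [(htc q hq).eq]; group
    obtain ⟨h2, -⟩ := hP.unique (mul_mem hq (hP.map τ hτ h' hh')) (mul_mem hh' hq)
      (mul_mem hτ ht) (mul_mem ht hτ) h1
    obtain ⟨e, he', rfl⟩ : ∃ e ∈ E, h' = x * e := ⟨x⁻¹ * h', hd, by group⟩
    have h3 : τ * e * τ⁻¹ = e := by rw [(hP.comm τ hτ e he').eq, mul_inv_cancel_right]
    have h4 : e * q = q * e := (hP.cube.central e he' q hq).eq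
    calc τ * x * τ⁻¹ = q⁻¹ * (q * (τ * (x * e) * τ⁻¹)) * (τ * e * τ⁻¹)⁻¹ := by group
      _ = q⁻¹ * x * (e * q) * e⁻¹ := by rw [h2, h3]; group
      _ = _ := by rw [h4]; group
  have htriv : TrivMod Q E τ := fun x hx => by
    rw [hconj x hx, show x⁻¹ * (q⁻¹ * x * q) = x⁻¹ * q⁻¹ * x⁻¹⁻¹ * q⁻¹⁻¹ by group]
    exact CubeInvol.comm_mem hP.cube hP.invol (inv_mem hx) (inv_mem hq)
  have hτc := hP.commute_of_trivMod hτ hτ2 htriv
  refine ⟨q, CubeInvol.mem_of_central hP.cube hP.invol hq fun g hg => ?_, τ, hτ, he, hτc⟩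
  have h1 := hconj g hg
  rw [(hτc g hg).eq, mul_inv_cancel_right] at h1
  show q * g = g * q
  conv_lhs => rw [h1]
  group

omit hsP in
/-- Composition: the four cases. -/
theorem comp_cases (hsP : MapsPair Q T s) {s' : G} (hs'u : Commute s' u)
    (hs'E : ∀ e ∈ E, Commute s' e) (hs'P : MapsPair Q T s') {h h₁ h₂ : G} (hh : h ∈ Q)
    (hh₁ : h₁ ∈ Q) {t₁ : G} (ht₁ : t₁ ∈ T) (he₁ : s' * h * s'⁻¹ = h₁ * t₁) (hh₂ : h₂ ∈ Q)
    {t₂ : G} (ht₂ : t₂ ∈ T) (he₂ : s * h₁ * s⁻¹ = h₂ * t₂) {h₃ t₃ : G} (hh₃ : h₃ ∈ Q)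
    (ht₃ : t₃ ∈ T) (he₃ : (s * s') * h * (s * s')⁻¹ = h₃ * t₃) : h₂⁻¹ * h₃ ∈ E := by
  obtain ⟨a, ha, b, hb, hab, hb2, hbc, -⟩ := hP.exists_image hs'u hs'E hs'P hh
  obtain ⟨rfl, rfl⟩ := hP.unique hh₁ ha ht₁ hb (he₁.symm.trans hab)
  obtain ⟨a, ha, b, hb', hab', -, htc, -⟩ := hP.exists_image hsu hsE hsP hh₁
  obtain ⟨rfl, rfl⟩ := hP.unique hh₂ ha ht₂ hb' (he₂.symm.trans hab')
  obtain ⟨e, he, τ, hτ, heτ, -⟩ := hP.image_centralizing hsu hsE hsP ht₁ hb2 hbc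
  have h1 : (h₂ * e) * (t₂ * τ) = h₃ * t₃ := by
    rw [← he₃]
    calc (h₂ * e) * (t₂ * τ) = h₂ * (e * t₂) * τ := by group
      _ = (h₂ * t₂) * (e * τ) := by rw [← (hP.comm t₂ ht₂ e he).eq]; group
      _ = s * (h₁ * t₁) * s⁻¹ := by rw [← he₂, ← heτ]; group
      _ = _ := by rw [← he₁]; group
  obtain ⟨rfl, -⟩ := hP.unique (mul_mem hh₂ (hP.cube.E_le he)) hh₃ (mul_mem ht₂ hτ) ht₃ h1
  simpa using he

end CubePair

namespace CubePair

variable [Finite G] {Q E T : Subgroup G} {u : G} (hP : CubePair Q E T u)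
include hP

omit [Finite G] in
theorem mapsPair_mul {s s' : G} (hs : MapsPair Q T s) (hs' : MapsPair Q T s') :
    MapsPair Q T (s * s') := by
  intro q hq t ht
  obtain ⟨a, ha, b, hb, hab⟩ := hs' q hq t ht
  obtain ⟨c, hc, d, hd, hcd⟩ := hs a ha b hb
  exact ⟨c, hc, d, hd, by rw [← hcd, ← hab]; group⟩

theorem not_fixes_and_moves {s : G} (hF : Fixes Q E T s) (hM : Moves Q E T u s) : False := by
  obtain ⟨h, hh, hne⟩ := hP.exists_not_inverted
  obtain ⟨a, ha, b, hb, hab, hd⟩ := hF h hh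
  obtain ⟨a', ha', b', hb', hab', hd'⟩ := hM h hh
  obtain ⟨rfl, rfl⟩ := hP.unique ha ha' hb hb' (hab.symm.trans hab')
  refine hne ?_
  rw [show beta u h = (h⁻¹ * a) * ((beta u h)⁻¹ * (h⁻¹ * a))⁻¹ by group]
  exact mul_mem hd (inv_mem hd')

variable {s : G} (hsu : Commute s u) (hsE : ∀ e ∈ E, Commute s e) (hsP : MapsPair Q T s)
include hsu hsE hsP

/-- The product of two elements of the same kind fixes, of different kinds moves. -/
theorem moves_mul_iff {s' : G} (hs'u : Commute s' u) (hs'E : ∀ e ∈ E, Commute s' e)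
    (hs'P : MapsPair Q T s') :
    Moves Q E T u (s * s') ↔ ¬(Moves Q E T u s ↔ Moves Q E T u s') := by
  have key : ∀ h ∈ Q, ∃ h₁ ∈ Q, ∃ t₁ ∈ T, ∃ h₂ ∈ Q, ∃ t₂ ∈ T, ∃ h₃ ∈ Q, ∃ t₃ ∈ T,
      s' * h * s'⁻¹ = h₁ * t₁ ∧ s * h₁ * s⁻¹ = h₂ * t₂ ∧
        (s * s') * h * (s * s')⁻¹ = h₃ * t₃ ∧ h₂⁻¹ * h₃ ∈ E := by
    intro h hh
    obtain ⟨h₁, hh₁, t₁, ht₁, he₁, -⟩ := hP.exists_image hs'u hs'E hs'P hh
    obtain ⟨h₂, hh₂, t₂, ht₂, he₂, -⟩ := hP.exists_image hsu hsE hsP hh₁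
    obtain ⟨h₃, hh₃, t₃, ht₃, he₃, -⟩ := hP.exists_image (hsu.mul_left hs'u)
      (fun e he => (hsE e he).mul_left (hs'E e he)) (hP.mapsPair_mul hsP hs'P) hh
    exact ⟨h₁, hh₁, t₁, ht₁, h₂, hh₂, t₂, ht₂, h₃, hh₃, t₃, ht₃, he₁, he₂, he₃,
      hP.comp_cases hsu hsE hsP hs'u hs'E hs'P hh hh₁ ht₁ he₁ hh₂ ht₂ he₂ hh₃ ht₃ he₃⟩
  have hex : ∀ {r : G}, Fixes Q E T r → ∀ {h h' t : G}, h ∈ Q → h' ∈ Q → t ∈ T →
      r * h * r⁻¹ = h' * t → h⁻¹ * h' ∈ E := by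
    intro r hF h h' t hh hh' ht he
    obtain ⟨a, ha, b, hb, hab, hd⟩ := hF h hh
    obtain ⟨rfl, rfl⟩ := hP.unique hh' ha ht hb (he.symm.trans hab)
    exact hd
  have hex' : ∀ {r : G}, Moves Q E T u r → ∀ {h h' t : G}, h ∈ Q → h' ∈ Q → t ∈ T →
      r * h * r⁻¹ = h' * t → (beta u h)⁻¹ * (h⁻¹ * h') ∈ E := by
    intro r hM h h' t hh hh' ht he
    obtain ⟨a, ha, b, hb, hab, hd⟩ := hM h hh
    obtain ⟨rfl, rfl⟩ := hP.unique hh' ha ht hb (he.symm.trans hab)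
    exact hd
  have hEQ := hP.cube.E_le
  have hbetaE : ∀ {h h' : G}, h ∈ Q → h' ∈ Q → beta u (h⁻¹ * h') ∈ E →
      (beta u h)⁻¹ * beta u h' ∈ E := by
    intro h h' hh hh' hd
    have h1 := CubeInvol.beta_mul hP.cube hP.invol hh (mul_mem (inv_mem hh) hh')
    rw [mul_inv_cancel_left] at h1
    set g := beta u h
    set g' := beta u h'
    set d := beta u (h⁻¹ * h')
    rw [show g⁻¹ * g' = d * ((g * d)⁻¹ * g') by group]
    exact mul_mem hd h1
  rcases hP.fixes_or_moves hsu hsE hsP with hs | hs <;>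
    rcases hP.fixes_or_moves hs'u hs'E hs'P with hs' | hs'
  · have hF : Fixes Q E T (s * s') := by
      intro h hh
      obtain ⟨h₁, hh₁, t₁, ht₁, h₂, hh₂, t₂, ht₂, h₃, hh₃, t₃, ht₃, he₁, he₂, he₃, hd⟩ := key h hh
      refine ⟨h₃, hh₃, t₃, ht₃, he₃, ?_⟩
      rw [show h⁻¹ * h₃ = (h⁻¹ * h₁) * (h₁⁻¹ * h₂) * (h₂⁻¹ * h₃) by group]
      exact mul_mem (mul_mem (hex hs' hh hh₁ ht₁ he₁) (hex hs hh₁ hh₂ ht₂ he₂)) hd
    exact ⟨fun hM => (hP.not_fixes_and_moves hF hM).elim, fun hne => absurd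
      ⟨fun hM => (hP.not_fixes_and_moves hs hM).elim,
        fun hM => (hP.not_fixes_and_moves hs' hM).elim⟩ hne⟩
  · refine ⟨fun _ hiff => hP.not_fixes_and_moves hs (hiff.2 hs'), fun _ h hh => ?_⟩
    obtain ⟨h₁, hh₁, t₁, ht₁, h₂, hh₂, t₂, ht₂, h₃, hh₃, t₃, ht₃, he₁, he₂, he₃, hd⟩ := key h hh
    refine ⟨h₃, hh₃, t₃, ht₃, he₃, ?_⟩
    set g := beta u h
    rw [show g⁻¹ * (h⁻¹ * h₃) = (g⁻¹ * (h⁻¹ * h₁)) * (h₁⁻¹ * h₂) * (h₂⁻¹ * h₃) by group]
    exact mul_mem (mul_mem (hex' hs' hh hh₁ ht₁ he₁) (hex hs hh₁ hh₂ ht₂ he₂)) hd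
  · refine ⟨fun _ hiff => hP.not_fixes_and_moves hs' (hiff.1 hs), fun _ h hh => ?_⟩
    obtain ⟨h₁, hh₁, t₁, ht₁, h₂, hh₂, t₂, ht₂, h₃, hh₃, t₃, ht₃, he₁, he₂, he₃, hd⟩ := key h hh
    refine ⟨h₃, hh₃, t₃, ht₃, he₃, ?_⟩
    have he := hex hs' hh hh₁ ht₁ he₁
    have hb := hbetaE hh hh₁ (by
      rw [show beta u (h⁻¹ * h₁) = 1 by
        rw [beta, (hP.comm_u he).eq, mul_inv_cancel_right, inv_mul_cancel]]
      exact one_mem E)
    have hg₁ := CubeInvol.beta_mem_Q hP.invol hh₁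
    set g := beta u h
    set g₁ := beta u h₁
    obtain ⟨e, he', rfl⟩ : ∃ e ∈ E, h₁ = h * e := ⟨h⁻¹ * h₁, he, by group⟩
    have hc := (hP.cube.central e he' g₁ hg₁).eq
    rw [show g⁻¹ * (h⁻¹ * h₃) = (g⁻¹ * g₁) * (g₁⁻¹ * (e * g₁)) *
      (g₁⁻¹ * ((h * e)⁻¹ * h₂)) * (h₂⁻¹ * h₃) by group, hc, inv_mul_cancel_left]
    exact mul_mem (mul_mem (mul_mem hb he') (hex' hs hh₁ hh₂ ht₂ he₂)) hd
  · have hF : Fixes Q E T (s * s') := by
      intro h hh
      obtain ⟨h₁, hh₁, t₁, ht₁, h₂, hh₂, t₂, ht₂, h₃, hh₃, t₃, ht₃, he₁, he₂, he₃, hd⟩ := key h hh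
      refine ⟨h₃, hh₃, t₃, ht₃, he₃, ?_⟩
      have he := hex' hs' hh hh₁ ht₁ he₁
      have hgQ := CubeInvol.beta_mem_Q hP.invol hh
      have hg₁Q := CubeInvol.beta_mem_Q hP.invol hh₁
      have hb : (beta u h)⁻¹ * beta u h₁ ∈ E := by
        refine hbetaE hh hh₁ ((CubeInvol.inverted_iff hP.cube hP.invol
          (mul_mem (inv_mem hh) hh₁)).1 ?_)
        obtain ⟨e, he', heq⟩ : ∃ e ∈ E, h⁻¹ * h₁ = beta u h * e :=
          ⟨(beta u h)⁻¹ * (h⁻¹ * h₁), he, by group⟩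
        rw [heq, show u * (beta u h * e) * u⁻¹ = (u * beta u h * u⁻¹) * (u * e * u⁻¹) by group,
          CubeInvol.conj_beta hP.cube hP.invol h,
          CubeInvol.mem_inverted_of_mem hP.cube hP.invol he', mul_inv_rev]
        exact ((hP.cube.central e he' _ hgQ).inv_inv.eq).symm
      set g := beta u h
      set g₁ := beta u h₁
      obtain ⟨e, he', rfl⟩ : ∃ e ∈ E, h₁ = h * g * e :=
        ⟨g⁻¹ * (h⁻¹ * h₁), he, by group⟩
      have hc := (hP.cube.central e he' g₁ hg₁Q).eq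
      rw [show h⁻¹ * h₃ = g * g * (g⁻¹ * g₁) * (g₁⁻¹ * (e * g₁)) *
        (g₁⁻¹ * ((h * g * e)⁻¹ * h₂)) * (h₂⁻¹ * h₃) * 1 by
          rw [hc, inv_mul_cancel_left]
          have hcc := hc
          calc h⁻¹ * h₃ = g * e * ((h * g * e)⁻¹ * h₂) * (h₂⁻¹ * h₃) := by group
            _ = g * (g₁ * e * g₁⁻¹) * ((h * g * e)⁻¹ * h₂) * (h₂⁻¹ * h₃) := by
                rw [← hc, mul_inv_cancel_right]
            _ = _ := by group]
      rw [mul_one, hc, inv_mul_cancel_left]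
      exact mul_mem (mul_mem (mul_mem (mul_mem (hP.cube.sq_mem g hgQ) hb) he')
        (hex' hs hh₁ hh₂ ht₂ he₂)) hd
    exact ⟨fun hM => (hP.not_fixes_and_moves hF hM).elim,
      fun hne => absurd ⟨fun _ => hs', fun _ => hs⟩ hne⟩

/-- On an element inverted by `u`. -/
theorem image_inverted {g : G} (hg : g ∈ Q) (hgu : u * g * u⁻¹ = g⁻¹) :
    ∃ z ∈ E, ∃ r ∈ T, s * g * s⁻¹ = g * z * r ∧ (∀ x ∈ Q, Commute r x) ∧
      (Fixes Q E T s → z = 1) ∧ (Moves Q E T u s → z = g * g) := by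
  obtain ⟨g', hg', r, hr, he, -, hrc, hsq⟩ := hP.exists_image hsu hsE hsP hg
  obtain ⟨hku, -⟩ := hP.diff_spec hsu hsE hsP hg hg' hr he
  have hzE : g⁻¹ * g' ∈ E := by
    refine CubeInvol.mem_of_mul_self hP.cube hP.invol (mul_mem (inv_mem hg) hg') ?_
    have hk := mul_mem (inv_mem hg) hg'
    have hc := CubeInvol.commute_of_inverted hP.cube hP.invol hg hk hgu hku
    calc (g⁻¹ * g') * (g⁻¹ * g') = (g * g)⁻¹ * (g * g) * ((g⁻¹ * g') * (g⁻¹ * g')) := by group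
      _ = (g * g)⁻¹ * ((g * (g⁻¹ * g')) * (g * (g⁻¹ * g'))) := by
          rw [hc.symm.mul_mul_mul_comm]; group
      _ = 1 := by rw [mul_inv_cancel_left, hsq, inv_mul_cancel]
  refine ⟨g⁻¹ * g', hzE, r, hr, by rw [mul_inv_cancel_left]; exact he, hrc, ?_, ?_⟩
  all_goals
    intro hK
    obtain ⟨h, hh, hhg⟩ := CubeInvol.exists_beta hP.cube hP.invol hg hgu
    obtain ⟨h', hh', t, ht, heh, hd⟩ := hK h hh
    obtain ⟨h₁, hh₁, t₁, ht₁, he₁, -, htc, -⟩ := hP.exists_image hsu hsE hsP hh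
    obtain ⟨rfl, rfl⟩ := hP.unique hh' hh₁ ht ht₁ (heh.symm.trans he₁)
    have hu' := CubeInvol.inv_eq hP.cube hP.invol
    set w := t⁻¹ * (u * t * u⁻¹) with hw
    have hwT : w ∈ T := mul_mem (inv_mem ht) (mul_mem (mul_mem hP.u_mem ht) (inv_mem hP.u_mem))
    have hb'Q := CubeInvol.beta_mem_Q hP.invol hh'
    have himg : s * beta u h * s⁻¹ = beta u h' * w := by
      have e1 : s * beta u h * s⁻¹ = beta u (h' * t) := by
        rw [← heh, beta, beta]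
        calc s * (h⁻¹ * (u * h * u⁻¹)) * s⁻¹
            = s * h⁻¹ * s⁻¹ * ((s * u) * h * (s * u)⁻¹) := by group
          _ = _ := by rw [hsu.eq]; group
      rw [e1]
      calc beta u (h' * t) = t⁻¹ * beta u h' * (u * t * u⁻¹) := by rw [beta, beta]; group
        _ = _ := by rw [(htc _ hb'Q).inv_left.eq, mul_assoc]
    obtain ⟨e, he', hge⟩ : ∃ e ∈ E, g = beta u h * e := ⟨(beta u h)⁻¹ * g, hhg, by group⟩
    have h1 : g' * r = (beta u h' * e) * w := by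
      rw [← he, hge]
      calc s * (beta u h * e) * s⁻¹ = (s * beta u h * s⁻¹) * (s * e * s⁻¹) := by group
        _ = beta u h' * (w * e) := by rw [himg, (hsE e he').eq, mul_inv_cancel_right, mul_assoc]
        _ = _ := by rw [(hP.comm w hwT e he').eq, mul_assoc]
    obtain ⟨hg'eq, -⟩ := hP.unique hg' (mul_mem hb'Q (hP.cube.E_le he')) hr hwT h1
  · obtain ⟨d, hd', rfl⟩ : ∃ d ∈ E, h' = h * d := ⟨h⁻¹ * h', hd, by group⟩
    have h2 : beta u (h * d) = beta u h := by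
      calc beta u (h * d) = d⁻¹ * (h⁻¹ * (u * h * u⁻¹)) * (u * d * u⁻¹) := by rw [beta]; group
        _ = d⁻¹ * beta u h * d := by rw [(hP.comm_u hd').eq, mul_inv_cancel_right, beta]
        _ = _ := by
          rw [(hP.cube.central d hd' _ (CubeInvol.beta_mem_Q hP.invol hh)).inv_left.eq,
            inv_mul_cancel_right]
    rw [hg'eq, h2, hge, inv_mul_cancel]
  · set b := beta u h with hb
    have hbQ : b ∈ Q := CubeInvol.beta_mem_Q hP.invol hh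
    obtain ⟨d, hd', rfl⟩ : ∃ d ∈ E, h' = h * (b * d) :=
      ⟨b⁻¹ * (h⁻¹ * h'), hd, by group⟩
    have h2 : beta u (h * (b * d)) = b * (b * b) := by
      calc beta u (h * (b * d)) = (b * d)⁻¹ * b * ((u * b * u⁻¹) * (u * d * u⁻¹)) := by
            rw [hb]; simp only [beta]; group
        _ = d⁻¹ * (b⁻¹ * b * b⁻¹) * d := by
            rw [CubeInvol.conj_beta hP.cube hP.invol h, (hP.comm_u hd').eq, mul_inv_cancel_right,
              ← hb]
            group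
        _ = b⁻¹ := by
            rw [inv_mul_cancel, one_mul,
              (hP.cube.central d hd' _ (inv_mem hbQ)).inv_left.eq, inv_mul_cancel_right]
        _ = b⁻¹ * ((b * b) * (b * b)) := by
            rw [hP.cube.mul_self _ (hP.cube.sq_mem b hbQ), mul_one]
        _ = _ := by group
    have hce := (hP.cube.central e he' _ hbQ).eq
    rw [hg'eq, h2, hge]
    calc (b * e)⁻¹ * (b * (b * b) * e) = e⁻¹ * ((b * b) * e) := by group
      _ = b * b := by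
          rw [← (hP.cube.central e he' _ (mul_mem hbQ hbQ)).eq, inv_mul_cancel_left]
      _ = (b * b) * (e * e) := by rw [hP.cube.mul_self e he', mul_one]
      _ = _ := by rw [← mul_assoc (b * e), mul_assoc b e b, hce]; group

/-- Conjugation by `s` preserves triviality on `Q / E`. -/
theorem trivMod_image {q t : G} (hq : q ∈ Q) (ht : t ∈ T) (htriv : TrivMod Q E (q * t)) :
    TrivMod Q E (s * (q * t) * s⁻¹) := by
  obtain ⟨q', hq', τ, hτ, he⟩ := hsP q hq t ht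
  intro x hx
  obtain ⟨h, hh, h', hh', t', ht', heh, hd⟩ := hP.exists_preimage_mod hsu hsE hsP hx
  obtain ⟨h₁, hh₁, t₁, ht₁, he₁, -, htc, -⟩ := hP.exists_image hsu hsE hsP hh
  obtain ⟨rfl, rfl⟩ := hP.unique hh' hh₁ ht' ht₁ (heh.symm.trans he₁)
  obtain ⟨e, he', hpe⟩ : ∃ e ∈ E, (q * t) * h * (q * t)⁻¹ = h * e :=
    ⟨h⁻¹ * ((q * t) * h * (q * t)⁻¹), htriv h hh, by group⟩
  set p := s * (q * t) * s⁻¹ with hp
  have hτt : ∀ g ∈ Q, Commute (τ * t' * τ⁻¹) g := by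
    intro g hg
    have h1 := (htc (τ⁻¹ * g * τ) (by simpa using hP.map τ⁻¹ (inv_mem hτ) g hg)).map (MulAut.conj τ)
    simpa [mul_assoc] using h1
  have h1 : (p * h' * p⁻¹) * (τ * t' * τ⁻¹) = (h' * e) * t' := by
    have e1 : p * t' * p⁻¹ = τ * t' * τ⁻¹ := by
      rw [he]
      calc q' * τ * t' * (q' * τ)⁻¹ = q' * (τ * t' * τ⁻¹) * q'⁻¹ := by group
        _ = _ := by rw [← (hτt q' hq').eq, mul_inv_cancel_right]
    calc (p * h' * p⁻¹) * (τ * t' * τ⁻¹) = p * (h' * t') * p⁻¹ := by rw [← e1]; group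
      _ = s * ((q * t) * h * (q * t)⁻¹) * s⁻¹ := by rw [← heh, hp]; group
      _ = (s * h * s⁻¹) * (s * e * s⁻¹) := by rw [hpe]; group
      _ = h' * (t' * e) := by rw [heh, (hsE e he').eq, mul_inv_cancel_right, mul_assoc]
      _ = _ := by rw [(hP.comm t' ht' e he').eq, mul_assoc]
  have hpQ : p * h' * p⁻¹ ∈ Q := by
    rw [he, show q' * τ * h' * (q' * τ)⁻¹ = q' * (τ * h' * τ⁻¹) * q'⁻¹ by group]
    exact mul_mem (mul_mem hq' (hP.map τ hτ h' hh')) (inv_mem hq')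
  obtain ⟨h2, -⟩ := hP.unique hpQ (mul_mem hh' (hP.cube.E_le he'))
    (mul_mem (mul_mem hτ ht') (inv_mem hτ)) ht' h1
  obtain ⟨d, hd', rfl⟩ : ∃ d ∈ E, h' = x * d := ⟨x⁻¹ * h', hd, by group⟩
  have h3 : p * d * p⁻¹ = d := by
    rw [he, show q' * τ * d * (q' * τ)⁻¹ = q' * (τ * d * τ⁻¹) * q'⁻¹ by group,
      (hP.comm τ hτ d hd').eq, mul_inv_cancel_right, ← (hP.cube.central d hd' q' hq').eq,
      mul_inv_cancel_right]
  have h4 : x⁻¹ * (p * x * p⁻¹) = d * e * d⁻¹ := by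
    calc x⁻¹ * (p * x * p⁻¹) = x⁻¹ * (p * (x * d) * p⁻¹) * (p * d * p⁻¹)⁻¹ := by group
      _ = _ := by rw [h2, h3]; group
  rw [h4]
  exact mul_mem (mul_mem hd' he') (inv_mem hd')

end CubePair

namespace CubePair

variable [Finite G] {Q E T : Subgroup G} {u : G} (hP : CubePair Q E T u)
include hP

omit [Finite G] in
theorem trivMod_mul {p p' : G} (hp : TrivMod Q E p) (hp' : TrivMod Q E p')
    (hpE : ∀ e ∈ E, Commute p e) : TrivMod Q E (p * p') := by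
  intro h hh
  obtain ⟨e, he, heq⟩ : ∃ e ∈ E, p' * h * p'⁻¹ = h * e :=
    ⟨h⁻¹ * (p' * h * p'⁻¹), hp' h hh, by group⟩
  rw [show h⁻¹ * (p * p' * h * (p * p')⁻¹) = h⁻¹ * (p * (p' * h * p'⁻¹) * p⁻¹) by group, heq,
    show h⁻¹ * (p * (h * e) * p⁻¹) = (h⁻¹ * (p * h * p⁻¹)) * (p * e * p⁻¹) by group,
    (hpE e he).eq, mul_inv_cancel_right]
  exact mul_mem (hp h hh) he

omit [Finite G] in
theorem trivMod_inv {p : G} (hp : TrivMod Q E p) (hpE : ∀ e ∈ E, Commute p e)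
    (hpQ : ∀ g ∈ Q, p⁻¹ * g * p ∈ Q) : TrivMod Q E p⁻¹ := by
  intro h hh
  obtain ⟨e, he, heq⟩ : ∃ e ∈ E, h = (p⁻¹ * h * p) * e :=
    ⟨(p⁻¹ * h * p)⁻¹ * h, by simpa [mul_assoc] using hp _ (hpQ h hh), by group⟩
  rw [inv_inv]
  nth_rewrite 1 [heq]
  rw [mul_inv_rev, mul_assoc, inv_mul_cancel, mul_one]
  exact inv_mem he

omit [Finite G] in
theorem trivMod_of_mem {q : G} (hq : q ∈ Q) : TrivMod Q E q := fun h hh => by
  rw [show h⁻¹ * (q * h * q⁻¹) = h⁻¹ * q * h⁻¹⁻¹ * q⁻¹ by group]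
  exact CubeInvol.comm_mem hP.cube hP.invol (inv_mem hh) hq

theorem not_trivMod_u : ¬ TrivMod Q E u := fun hu => by
  obtain ⟨h, hh, hne⟩ := hP.exists_not_inverted
  exact hne (hu h hh)

/-- An element of `T` commuting with `u` is trivial on `Q / E` or `u`-like. -/
theorem trivMod_or {t : G} (ht : t ∈ T) (htu : Commute t u) :
    TrivMod Q E t ∨ TrivMod Q E (t * u) := by
  by_contra hne
  rw [not_or] at hne
  obtain ⟨h1, h2⟩ := hne
  have hkey : ∀ h ∈ Q, h⁻¹ * (t * h * t⁻¹) ∈ E ∨ (beta u h)⁻¹ * (h⁻¹ * (t * h * t⁻¹)) ∈ E := by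
    intro h hh
    set k := h⁻¹ * (t * h * t⁻¹) with hk
    have hkQ : k ∈ Q := mul_mem (inv_mem hh) (hP.map t ht h hh)
    have hbt : beta u (t * h * t⁻¹) = t * beta u h * t⁻¹ := by
      rw [beta, beta]
      calc (t * h * t⁻¹)⁻¹ * (u * (t * h * t⁻¹) * u⁻¹)
          = t * h⁻¹ * t⁻¹ * ((u * t) * h * (u * t)⁻¹) := by group
        _ = _ := by rw [← htu.eq]; group
    have hgQ := CubeInvol.beta_mem_Q hP.invol hh
    have hku : u * k * u⁻¹ = k⁻¹ := by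
      refine (CubeInvol.inverted_iff hP.cube hP.invol hkQ).2 ?_
      have h3 := CubeInvol.beta_mul hP.cube hP.invol hh hkQ
      rw [hk, mul_inv_cancel_left, hbt, ← hk] at h3
      have hti : u * (t * beta u h * t⁻¹) * u⁻¹ = (t * beta u h * t⁻¹)⁻¹ := by
        rw [← hbt]; exact CubeInvol.conj_beta hP.cube hP.invol _
      have h4 : (t * beta u h * t⁻¹)⁻¹ * beta u h ∈ E := by
        refine CubeInvol.mem_of_sq_eq hP.cube hP.invol hgQ (hP.map t ht _ hgQ)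
          (CubeInvol.conj_beta hP.cube hP.invol h) hti ?_
        rw [show t * beta u h * t⁻¹ * (t * beta u h * t⁻¹) = t * (beta u h * beta u h) * t⁻¹ by group,
          (hP.comm t ht _ (hP.cube.sq_mem _ hgQ)).eq, mul_inv_cancel_right]
      set g := beta u h
      set bk := beta u k
      rw [show bk = ((t * g * t⁻¹)⁻¹ * g)⁻¹ * ((g * bk)⁻¹ * (t * g * t⁻¹))⁻¹ by group]
      exact mul_mem (inv_mem h4) (inv_mem h3)
    have hkh : h * k * h⁻¹ = k⁻¹ := by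
      have h3 : (h * k) * (h * k) = h * h := by
        rw [hk, mul_inv_cancel_left, show t * h * t⁻¹ * (t * h * t⁻¹) = t * (h * h) * t⁻¹ by group,
          (hP.comm t ht _ (hP.cube.sq_mem h hh)).eq, mul_inv_cancel_right]
      have h4 : k * h * k = h := by
        calc k * h * k = h⁻¹ * (h * k * (h * k)) := by group
          _ = h := by rw [h3]; group
      calc h * k * h⁻¹ = k⁻¹ * (k * h * k) * h⁻¹ := by group
        _ = _ := by rw [h4]; group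
    rcases hP.nd h hh k hkQ hku hkh with e | e
    · exact Or.inl (CubeInvol.mem_of_mul_self hP.cube hP.invol hkQ e)
    · exact Or.inr (CubeInvol.mem_of_sq_eq hP.cube hP.invol hkQ hgQ hku
        (CubeInvol.conj_beta hP.cube hP.invol h) e)
  -- `t u` on `h`
  have htu' : ∀ h ∈ Q, h⁻¹ * (t * u * h * (t * u)⁻¹) ∈ E ↔
      (beta u h)⁻¹ * (h⁻¹ * (t * h * t⁻¹)) ∈ E := by
    intro h hh
    have hgQ := CubeInvol.beta_mem_Q hP.invol hh
    set g := beta u h with hg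
    have h3 : (t * g * t⁻¹)⁻¹ * g ∈ E := by
      have hti : u * (t * g * t⁻¹) * u⁻¹ = (t * g * t⁻¹)⁻¹ := by
        calc u * (t * g * t⁻¹) * u⁻¹ = (u * t) * g * (u * t)⁻¹ := by group
          _ = t * (u * g * u⁻¹) * t⁻¹ := by rw [← htu.eq]; group
          _ = _ := by rw [hg, CubeInvol.conj_beta hP.cube hP.invol h]; group
      refine CubeInvol.mem_of_sq_eq hP.cube hP.invol hgQ (hP.map t ht _ hgQ)
        (CubeInvol.conj_beta hP.cube hP.invol h) hti ?_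
      rw [show t * g * t⁻¹ * (t * g * t⁻¹) = t * (g * g) * t⁻¹ by group,
        (hP.comm t ht _ (hP.cube.sq_mem _ hgQ)).eq, mul_inv_cancel_right]
    have heq : h⁻¹ * (t * u * h * (t * u)⁻¹) = (h⁻¹ * (t * h * t⁻¹)) * (t * g * t⁻¹) := by
      rw [hg, beta]; group
    rw [heq]
    set k := h⁻¹ * (t * h * t⁻¹) with hk
    set d := t * g * t⁻¹
    have hkQ : k ∈ Q := mul_mem (inv_mem hh) (hP.map t ht h hh)
    have hdQ : d ∈ Q := hP.map t ht g hgQ
    have hc : k * d * k⁻¹ * d⁻¹ ∈ E := CubeInvol.comm_mem hP.cube hP.invol hkQ hdQ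
    have hdd : d * d ∈ E := hP.cube.sq_mem d hdQ
    constructor
    · intro hkd
      rw [show g⁻¹ * k = (d⁻¹ * g)⁻¹ * (d * d)⁻¹ * ((k * d * k⁻¹ * d⁻¹)⁻¹ * (k * d)) by group]
      exact mul_mem (mul_mem (inv_mem h3) (inv_mem hdd)) (mul_mem (inv_mem hc) hkd)
    · intro hgk
      rw [show k * d = (k * d * k⁻¹ * d⁻¹) * (d * d) * (d⁻¹ * g) * (g⁻¹ * k) by group]
      exact mul_mem (mul_mem (mul_mem hc hdd) h3) hgk
  unfold TrivMod at h1 h2
  push Not at h1 h2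
  obtain ⟨a, ha, hna⟩ := h1
  obtain ⟨b, hb, hnb⟩ := h2
  have hka := (hkey a ha).resolve_left hna
  have hkb := (hkey b hb).resolve_right (mt (htu' b hb).2 hnb)
  set ka := a⁻¹ * (t * a * t⁻¹) with hka'
  set kb := b⁻¹ * (t * b * t⁻¹) with hkb'
  have hkaQ : ka ∈ Q := mul_mem (inv_mem ha) (hP.map t ht a ha)
  have hdiff : ka⁻¹ * ((a * b)⁻¹ * (t * (a * b) * t⁻¹)) ∈ E := by
    rw [show ka⁻¹ * ((a * b)⁻¹ * (t * (a * b) * t⁻¹)) = (ka⁻¹ * b⁻¹ * ka⁻¹⁻¹ * b⁻¹⁻¹) * kb by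
      rw [hka', hkb']; group]
    exact mul_mem (CubeInvol.comm_mem hP.cube hP.invol (inv_mem hkaQ) (inv_mem hb)) hkb
  have hmul := CubeInvol.beta_mul hP.cube hP.invol ha hb
  set kab := (a * b)⁻¹ * (t * (a * b) * t⁻¹) with hkab
  set ga := beta u a with hga
  set gb := beta u b with hgb
  set gab := beta u (a * b) with hgab
  rcases hkey (a * b) (mul_mem ha hb) with h1 | h1
  · apply hna
    rw [show ka = kab * (ka⁻¹ * kab)⁻¹ by group]
    exact mul_mem h1 (inv_mem hdiff)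
  · apply hnb
    refine (htu' b hb).2 ?_
    have h3 : gb⁻¹ * (ga⁻¹ * kab) ∈ E := by
      rw [show gb⁻¹ * (ga⁻¹ * kab) = ((ga * gb)⁻¹ * gab) * (gab⁻¹ * kab) by group]
      exact mul_mem hmul h1
    have h4 : ga⁻¹ * kab ∈ E := by
      rw [show ga⁻¹ * kab = (ga⁻¹ * ka) * (ka⁻¹ * kab) by group]
      exact mul_mem hka hdiff
    have h5 : gb⁻¹ ∈ E := by
      rw [show gb⁻¹ = (gb⁻¹ * (ga⁻¹ * kab)) * (ga⁻¹ * kab)⁻¹ by group]
      exact mul_mem h3 (inv_mem h4)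
    rw [← hgb, ← hkb']
    exact mul_mem h5 hkb

/-- An element `k t` with `⁅k t, u⁆ = a` in `E`: its square. -/
theorem sq_cases {k t a : G} (hk : k ∈ Q) (ht : t ∈ T) (ha : a ∈ E)
    (hka : u * (k * t) * u⁻¹ = (k * t) * a) :
    (TrivMod Q E (k * t) ∧ ∃ r ∈ T, (k * t) * (k * t) = a * r) ∨
      (TrivMod Q E (k * t * u) ∧ ∃ r ∈ T, (k * t) * (k * t) = 1 * r) := by
  have h1 : (u * k * u⁻¹) * (u * t * u⁻¹) = (k * a) * t := by
    calc (u * k * u⁻¹) * (u * t * u⁻¹) = u * (k * t) * u⁻¹ := by group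
      _ = _ := by rw [hka, mul_assoc, (hP.comm t ht a ha).eq, ← mul_assoc]
  obtain ⟨h2, h3⟩ := hP.unique (hP.invol.map k hk) (mul_mem hk (hP.cube.E_le ha))
    (mul_mem (mul_mem hP.u_mem ht) (inv_mem hP.u_mem)) ht h1
  have htu : Commute t u := by
    show t * u = u * t
    conv_lhs => rw [← h3]
    group
  have hku : u * k * u⁻¹ = k⁻¹ := (CubeInvol.inverted_iff hP.cube hP.invol hk).2 (by
    rw [beta, h2, inv_mul_cancel_left]; exact ha)
  have hkk : k * k = a := by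
    have h4 : k * a = k⁻¹ := h2.symm.trans hku
    calc k * k = k⁻¹ * (k * k * (k * k)) * k⁻¹ := by group
      _ = k⁻¹ * k⁻¹ := by rw [hP.cube.mul_self _ (hP.cube.sq_mem k hk), mul_one]
      _ = k⁻¹ * (k * a) := by rw [h4]
      _ = a := inv_mul_cancel_left k a
  have hsq : (k * t) * (k * t) = k * (t * k * t⁻¹) * (t * t) := by group
  obtain ⟨h, hh, hhk⟩ := CubeInvol.exists_beta hP.cube hP.invol hk hku
  obtain ⟨e, he, hke⟩ : ∃ e ∈ E, k = beta u h * e := ⟨(beta u h)⁻¹ * k, hhk, by group⟩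
  -- action on `k` of an element trivial on `Q / E` commuting with `u`
  have hact : ∀ r ∈ T, Commute r u → TrivMod Q E r → r * k * r⁻¹ = k := by
    intro r hr hru htr
    obtain ⟨d, hd, hrd⟩ : ∃ d ∈ E, r * h * r⁻¹ = h * d :=
      ⟨h⁻¹ * (r * h * r⁻¹), htr h hh, by group⟩
    have hb : r * beta u h * r⁻¹ = beta u (r * h * r⁻¹) := by
      rw [beta, beta]
      calc r * (h⁻¹ * (u * h * u⁻¹)) * r⁻¹ = r * h⁻¹ * r⁻¹ * ((r * u) * h * (r * u)⁻¹) := by group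
        _ = _ := by rw [hru.eq]; group
    have hb2 : beta u (h * d) = beta u h := by
      calc beta u (h * d) = d⁻¹ * (h⁻¹ * (u * h * u⁻¹)) * (u * d * u⁻¹) := by rw [beta]; group
        _ = d⁻¹ * beta u h * d := by rw [(hP.comm_u hd).eq, mul_inv_cancel_right, beta]
        _ = _ := by
          rw [(hP.cube.central d hd _ (CubeInvol.beta_mem_Q hP.invol hh)).inv_left.eq,
            inv_mul_cancel_right]
    rw [hke, show r * (beta u h * e) * r⁻¹ = (r * beta u h * r⁻¹) * (r * e * r⁻¹) by group, hb, hrd,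
      hb2, (hP.comm r hr e he).eq, mul_inv_cancel_right]
  rcases hP.trivMod_or ht htu with htr | htr
  · refine Or.inl ⟨hP.trivMod_mul (hP.trivMod_of_mem hk) htr
      (fun e he => (hP.cube.central e he k hk).symm), t * t, mul_mem ht ht, ?_⟩
    rw [hsq, hact t ht htu htr, hkk]
  · refine Or.inr ⟨?_, t * t, mul_mem ht ht, ?_⟩
    · rw [mul_assoc]
      exact hP.trivMod_mul (hP.trivMod_of_mem hk) htr
        (fun e he => (hP.cube.central e he k hk).symm)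
    · have h4 := hact (t * u) (mul_mem ht hP.u_mem) (htu.mul_left (Commute.refl u)) htr
      have h5 : t * k * t⁻¹ = k⁻¹ := by
        rw [show t * u * k * (t * u)⁻¹ = t * (u * k * u⁻¹) * t⁻¹ by group, hku] at h4
        calc t * k * t⁻¹ = (t * k⁻¹ * t⁻¹)⁻¹ := by group
          _ = _ := by rw [h4]
      rw [hsq, h5, mul_inv_cancel]

end CubePair

end Cfsg.Agent.H29.Asch
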